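import Cfsg.Agent.Cit.Nil.RTwoM.NilZ_m3
import Cfsg.Agent.Cit.Nil.AbSyl
import Cfsg.Agent.Cit.Nil.CompR.SecRot_m3
import Cfsg.Agent.TwoFusion.StronglyEmbeddedBasic
import Cfsg.Agent.Cit.Nil.RTwoM.L1.SwapN_m3
import Cfsg.Agent.Cit.Nil.Comp.ProdEnd_m3
import Cfsg.Agent.Cit.Nil.RTwoM.ELay_m3
import Cfsg.Agent.OddOrderLocal.NilParts
import Cfsg.Agent.Cit.Nil.RTwoM.Base_m3
import Cfsg.Agent.Cit.Nil.LO.FormQ_m3
import Cfsg.Agent.Cit.CorTwo
import Cfsg.Agent.FastGrp
import Cfsg.Agent.Prune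
set_option linter.all false

section
prune_inst 0x7ffcfef9afb8bddfffff7e7ffff7dffdfdfdfffffffffffbffedefffdfff4b6fffe5fbaf7fecd8fffff6e0bc30f87b53f9ffeb3fe96bdc7ffffd5ff45fffff9fffffbdad71ffbcbe1ffe6ffffbfa7fee7f3fffffffffffffffffffffffffffffffffffffffff

-- part: Cit/Nil/RTwoM/EndX
section
prune_inst 0x10200440220000001800008000200000000000000000010100020002080001200408013060000011300860200a8060014c00690038000020008a0000040000042020c000001000010000405801180c00000000000000000000000000000000000000000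
set_option linter.all false
open scoped Cfsg.Agent.FastGrp

-- part: Cit/Nil/RTwoM/EndSw
section
/-!
# S1309, (6b), (C3), `r = 2`, any `m`: the end in `X = F*(G)`, `K ∩ X = ⟨z⟩`

`TrX Om X` : `X` is normal, `K ∩ X = ⟨z⟩` for the members.

* `TrX.pm`, `TrX.not_ti` : `(z, g z g⁻¹)`, `g ∈ X`, is not of type I; `TrX.not_ff` : `t ∈ X` is not of type `f` at `z`;
* **`TrX.false_of_swap`** : `X` perfect, the 2-subgroups of `X` abelian: no `t ∈ X` swaps the members over `z ∈ X`.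

Proof: `V ∋ z` a Sylow 2-subgroup of `X`; `R_z ∩ X ≤ V` contains the `qq t k`, so `z ∈ [V, k]` for all `k ∈ K` of order 4.
An automorphism of `V` induced by `n ∈ N_X(V)` and commuting with that of `k` maps `z` into `[V, k] ≤ R_z`, so it fixes
`z` (`not_ti`). By coprime generation `N_X(V)` centralises `z`; `z = 1` by transfer.
-/

set_option autoImplicit false
set_option linter.style.haveILetI false
set_option linter.unusedSectionVars false

namespace Cfsg.Agent.Cit.Nil.RTwoM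

open Subgroup Cfsg Cfsg.Agent.Cit OneBasic Nil.AbSyl

open RTwo (Q3)
open RG (WR CP Ov InO Tr)
open RI (CS)

variable {G : Type*} [Group G] {Om : Set (Subgroup G)} {K L M X : Subgroup G}
  {a b c d e g k l n s t u v w x y z : G}

/-- `K ∩ X = ⟨z⟩` -/
structure TrX (Om : Set (Subgroup G)) (X : Subgroup G) : Prop where
  w : WM Om
  nor : X.Normal
  inf : ∀ z K, Mem Om z K → ∀ y ∈ K, y ∈ X → y = 1 ∨ y = z

namespace TrX

variable [Finite G] (r : TrX Om X)

include r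

/-- elements of `X` normalising `K` are inner on `K` -/
theorem pm (hK : Mem Om z K) (hd : d ∈ X) (hdK : cj d K = K) : ∀ k ∈ K, d * k * d⁻¹ = k ∨ d * k * d⁻¹ = z * k := by
  intro k hk
  have h0 : d * k * d⁻¹ ∈ K := by
    have := conj_mem_cj (g := d) hk
    rwa [hdK] at this
  have h2 : d * k * d⁻¹ * k⁻¹ ∈ X := by
    have h3 : d * k * d⁻¹ * k⁻¹ = d * (k * d⁻¹ * k⁻¹) := by group
    rw [h3]
    exact mul_mem hd (r.nor.conj_mem _ (inv_mem hd) k)
  rcases r.inf z K hK _ (mul_mem h0 (inv_mem hk)) h2 with h3 | h3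
  · exact Or.inl (mul_inv_eq_one.1 h3)
  · right; rwa [mul_inv_eq_iff_eq_mul] at h3

theorem not_ti (hg : g ∈ X) : ¬ TI Om z (g * z * g⁻¹) := by
  intro hti
  obtain ⟨K, hK⟩ := hti.inZ
  have hL : Mem Om (g * z * g⁻¹) (cj g K) := hK.cj r.w g
  obtain ⟨x, hx, hxx⟩ := (hti.symm r.w).exists_as r.w hL
  obtain ⟨y, hy, hyy⟩ := hti.exists_as r.w hK
  obtain ⟨h1, -, h2⟩ := (hti.symm r.w).rot r.w hL hK hx hy
  -- `x = g k g⁻¹`
  obtain ⟨k, hkdef⟩ : ∃ k, k = g⁻¹ * x * g := ⟨_, rfl⟩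
  have hk : k ∈ K := by rw [hkdef]; exact mem_cj.1 hx.1
  have hd : x * k⁻¹ ∈ X := by
    have h4 : x * k⁻¹ = (x * g⁻¹ * x⁻¹) * g := by rw [hkdef]; group
    rw [h4]
    exact mul_mem (r.nor.conj_mem _ (inv_mem hg) x) hg
  have hdK : cj (x * k⁻¹) K = K := by
    rw [cj_mul, mem_normalizer_iff_cj.1 (le_normalizer (inv_mem hk)), h1]
  obtain ⟨u, hu, huu, hyu⟩ := hK.exists_nc r.w hy.1 hyy
  have h3 := h2 u hu huu hyu
  have huk : k * u * k⁻¹ ∈ K := mul_mem (mul_mem hk hu) (inv_mem hk)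
  have h4 := r.pm hK hd hdK _ huk
  have h5 : x * k⁻¹ * (k * u * k⁻¹) * (x * k⁻¹)⁻¹ = x * u * x⁻¹ := by group
  rw [h5] at h4
  have hz2 := hK.inZ.z2 r.w
  have hz1 := hK.inZ.z1 r.w
  have e1 : ∀ g : G, z * (z * g) = g := fun g => by rw [← mul_assoc, hz2, one_mul]
  -- `x u x⁻¹ ∈ {u, z u}`
  have h6 : x * u * x⁻¹ = u ∨ x * u * x⁻¹ = z * u := by
    rcases hK.comm_or r.w hu hk with h7 | h7 <;> rw [h7] at h4
    · exact h4
    · rcases h4 with h4 | h4
      · exact Or.inr h4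
      · left; rw [h4, e1]
  have hyne1 : y ≠ 1 := by
    rintro rfl
    rw [one_mul] at hyy
    exact hz1 hyy.symm
  have hynez : y ≠ z := by
    rintro rfl
    rw [hz2] at hyy
    exact hz1 hyy.symm
  rcases h3 with h3 | h3 <;> rcases h6 with h6 | h6 <;> rw [h3] at h6
  · exact hyne1 (mul_eq_right.1 h6)
  · exact hynez (mul_right_cancel h6)
  · have h7 : z * y = 1 := by
      rw [← mul_assoc] at h6
      exact mul_eq_right.1 h6
    apply hynez
    calc y = z * (z * y) := (e1 y).symm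
      _ = z := by rw [h7, mul_one]
  · exact hyne1 (mul_eq_right.1 (mul_left_cancel h6))

theorem not_ff (ht : t ∈ X) (hz : InZ Om z) : ¬ Ff Om z t := by
  intro hf
  obtain ⟨K, hK⟩ := hz
  exact (hf.2 K hK).2 (r.pm hK ht (hf.2 K hK).1)

/-- `R_z ∩ X` lies in a Sylow 2-subgroup of `X` containing and centralising `z` -/
theorem RZ_le_syl {V : Subgroup G} (hV : Syl V X) (hVz : ∀ v ∈ V, v * z = z * v) (hz : InZ Om z) :
    RZ Om z ⊓ X ≤ V := by
  have hR2 : IsPGroup 2 (RZ Om z) := by rw [← RR_eq]; exact r.w.wr.RR_two hz.zz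
  intro y hy
  have key : zpowers y ≤ V := by
    have h1 : IsPGroup 2 (V ⊔ (RZ Om z ⊓ X) : Subgroup G) := by
      refine hV.2.1.to_sup_of_normal_right' (hR2.to_le inf_le_left) ?_
      intro v hv
      rw [mem_normalizer_iff]
      have h2 : ∀ v ∈ V, ∀ x ∈ RZ Om z ⊓ X, v * x * v⁻¹ ∈ RZ Om z ⊓ X := fun v hv x hx =>
        ⟨RZ_conj_comm r.w (hVz v hv) hx.1, r.nor.conj_mem x hx.2 v⟩
      intro x
      refine ⟨h2 v hv x, fun hx => ?_⟩
      have h3 := h2 v⁻¹ (inv_mem hv) _ hx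
      rwa [inv_inv, show v⁻¹ * (v * x * v⁻¹) * v = x by group] at h3
    have h2 : V ⊔ (RZ Om z ⊓ X) = V := (syl_eq_of_le hV h1 (sup_le hV.1 inf_le_right) le_sup_left).symm
    rw [zpowers_le, ← h2]
    exact mem_sup_right hy
  exact key (mem_zpowers y)

/-- **no swaps in `X`**, if the 2-subgroups of `X` are abelian -/
theorem false_of_swap (hX : ⁅X, X⁆ = X)
    (hab : ∀ P : Subgroup G, P ≤ X → IsPGroup 2 P → ∀ a ∈ P, ∀ b ∈ P, a * b = b * a) (hz : InZ Om z) (hzX : z ∈ X)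
    (ht : t ∈ X) (hs : Swp Om z t) : False := by
  have h := r.w
  obtain ⟨V, hV, hzV⟩ := exists_syl_ge (C := X) (P := zpowers z) (by
    refine IsPGroup.of_card (n := 1) ?_
    rw [Nat.card_zpowers, hz.orderOf h, pow_one]) (zpowers_le.2 hzX)
  have hzV' : z ∈ V := hzV (mem_zpowers z)
  have hVc := hab V hV.1 hV.2.1
  have hRV := r.RZ_le_syl hV (fun v hv => hVc v hv z hzV') hz
  obtain ⟨K, hK⟩ := hz
  have hVz : ∀ v ∈ V, v * z = z * v := fun v hv => hVc v hv z hzV'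
  -- `K ≤ N(V)`
  have hKc : ∀ k ∈ K, ∀ v ∈ V, k * v * k⁻¹ * v⁻¹ ∈ RZ Om z ⊓ X := by
    intro k hk v hv
    have e1 : k * v * k⁻¹ * v⁻¹ = k * (v * k⁻¹ * v⁻¹) := by group
    refine Subgroup.mem_inf.2 ⟨?_, ?_⟩
    · rw [e1]
      exact mul_mem (hK.le_RZ hk) (RZ_conj_comm h (hVz v hv) (inv_mem (hK.le_RZ hk)))
    · exact X.mul_mem (r.nor.conj_mem v (hV.1 hv) k) (X.inv_mem (hV.1 hv))
  have hKV : ∀ k ∈ K, ∀ v ∈ V, k * v * k⁻¹ ∈ V := by
    intro k hk v hv
    have h1 := mul_mem (hRV (hKc k hk v hv)) hv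
    rwa [inv_mul_cancel_right] at h1
  have hKN : ∀ k ∈ K, k ∈ normalizer (V : Set G) := by
    intro k hk
    rw [mem_normalizer_iff]
    intro v
    refine ⟨hKV k hk v, fun hv => ?_⟩
    have h3 := hKV k⁻¹ (inv_mem hk) _ hv
    rwa [inv_inv, show k⁻¹ * (k * v * k⁻¹) * k = v by group] at h3
  -- the elements `qq t k`
  have hq : ∀ k ∈ K, k * k = z → qq t k ∈ V := by
    intro k hk hkk
    refine hRV (Subgroup.mem_inf.2 ⟨qq_mem hs h hK hk, ?_⟩)
    have e1 : qq t k = (k * k) * ((k⁻¹ * t * k⁻¹⁻¹) * t⁻¹) := by rw [qq]; group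
    rw [e1, hkk]
    exact X.mul_mem hzX (X.mul_mem (r.nor.conj_mem t ht k⁻¹) (X.inv_mem ht))
  -- `z ∈ [V, k]`
  have hcom : ∀ k ∈ K, k * k = z → ∃ v ∈ V, k * v * k⁻¹ = z * v := by
    intro k hk hkk
    obtain ⟨l, hl, hll, hkl⟩ := hK.exists_nc h hk hkk
    refine ⟨qq t l, hq l hl hll, ?_⟩
    have h1 : k * l * k⁻¹ = z * l := hK.anti h hl hll hk hkk (fun h2 => hkl h2.symm)
    have h2 := hs.cm h hK (inv_mem hk) hl
    calc k * (l * (t * l * t⁻¹)) * k⁻¹ = k * l * ((t * l * t⁻¹) * k⁻¹) := by group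
      _ = k * l * (k⁻¹ * (t * l * t⁻¹)) := by rw [h2]
      _ = (k * l * k⁻¹) * (t * l * t⁻¹) := by group
      _ = z * qq t l := by rw [h1, qq, mul_assoc]
  -- the action on `V`
  obtain ⟨i, hi, hii⟩ : ∃ i ∈ K, i * i = z := by
    obtain ⟨q, hq⟩ := h.exists_q3 hK
    exact ⟨q 0, hq.mem 0, hq.sq 0⟩
  obtain ⟨j, hj, hjj, hij⟩ := hK.exists_nc h hi hii
  let θ := V.normalizerMonoidHom
  have hθ : ∀ (g : G) (hg : g ∈ normalizer (V : Set G)) (v : V), ((θ ⟨g, hg⟩ v : V) : G) = g * v * g⁻¹ :=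
    fun g hg v => rfl
  have hone : ∀ (g : G) (hg : g ∈ normalizer (V : Set G)), (∀ v ∈ V, g * v * g⁻¹ = v) → θ ⟨g, hg⟩ = 1 := by
    intro g hg h1
    ext v
    rw [hθ, h1 v v.2]; rfl
  have hzN : z ∈ normalizer (V : Set G) := le_normalizer hzV'
  have hθz : θ ⟨z, hzN⟩ = 1 := hone z hzN fun v hv => by rw [hVc z hzV' v hv, mul_inv_cancel_right]
  let α := θ ⟨i, hKN i hi⟩
  let β := θ ⟨j, hKN j hj⟩
  have hαα : α * α = 1 := by
    have h1 : α * α = θ (⟨i, hKN i hi⟩ * ⟨i, hKN i hi⟩) := (map_mul θ _ _).symm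
    rw [h1, ← hθz]
    exact congrArg θ (Subtype.ext hii)
  have hββ : β * β = 1 := by
    have h1 : β * β = θ (⟨j, hKN j hj⟩ * ⟨j, hKN j hj⟩) := (map_mul θ _ _).symm
    rw [h1, ← hθz]
    exact congrArg θ (Subtype.ext hjj)
  have hji : j * i = z * (i * j) := by
    have h1 : j * i * j⁻¹ = z * i := hK.anti h hi hii hj hjj hij
    rw [mul_inv_eq_iff_eq_mul, mul_assoc] at h1
    exact h1
  have hαβ : α * β = β * α := by
    have h1 : α * β = θ (⟨i, hKN i hi⟩ * ⟨j, hKN j hj⟩) := (map_mul θ _ _).symm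
    have h2 : β * α = θ (⟨j, hKN j hj⟩ * ⟨i, hKN i hi⟩) := (map_mul θ _ _).symm
    have h3 : (⟨j, hKN j hj⟩ * ⟨i, hKN i hi⟩ : normalizer (V : Set G)) =
        ⟨z, hzN⟩ * (⟨i, hKN i hi⟩ * ⟨j, hKN j hj⟩) := Subtype.ext hji
    rw [h1, h2, h3, map_mul θ ⟨z, hzN⟩, hθz, one_mul]
  obtain ⟨B, hB⟩ : ∃ B, B = (X.subgroupOf (normalizer (V : Set G))).map V.normalizerMonoidHom := ⟨_, rfl⟩
  have hodd : Odd (Nat.card B) := by rw [hB]; exact odd_aut hV hVc
  -- `K` normalises `B`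
  have hBn : ∀ (g : G) (hg : g ∈ normalizer (V : Set G)), ∀ γ ∈ B, θ ⟨g, hg⟩ * γ * (θ ⟨g, hg⟩)⁻¹ ∈ B := by
    intro g hg γ hγ
    rw [hB] at hγ ⊢
    obtain ⟨⟨n, hnN⟩, hnX, rfl⟩ := hγ
    refine ⟨⟨g, hg⟩ * ⟨n, hnN⟩ * ⟨g, hg⟩⁻¹, ?_, by simp only [map_mul, map_inv]; rfl⟩
    exact r.nor.conj_mem n hnX g
  -- the stabiliser of `z`
  let w0 : V := ⟨z, hzV'⟩
  let St : Subgroup (MulAut V) :=
    { carrier := {γ | γ w0 = w0}
      mul_mem' := fun {a b} ha hb => by
        change (a * b) w0 = w0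
        rw [MulAut.mul_apply, hb, ha]
      one_mem' := rfl
      inv_mem' := fun {a} ha => by
        change a⁻¹ w0 = w0
        have h1 : a⁻¹ (a w0) = w0 := by rw [← MulAut.mul_apply, inv_mul_cancel]; rfl
        rwa [ha] at h1 }
  have hfix : ∀ k (hk : k ∈ K), k * k = z → B ⊓ centralizer {θ ⟨k, hKN k hk⟩} ≤ St := by
    intro k hk hkk γ hγ
    obtain ⟨v, hv, hkv⟩ := hcom k hk hkk
    have h1 := mem_centralizer_singleton_iff.1 hγ.2
    have h2 := hγ.1
    rw [hB] at h2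
    obtain ⟨⟨n, hnN⟩, hnX, rfl⟩ := h2
    change n ∈ X at hnX
    -- `n z n⁻¹ = [k, n v n⁻¹]`
    have h3 : n * (k * v * k⁻¹) * n⁻¹ = k * (n * v * n⁻¹) * k⁻¹ := by
      have h4 := congrArg (fun f : MulAut V => ((f ⟨v, hv⟩ : V) : G)) h1
      exact h4
    have h4 : n * z * n⁻¹ = k * (n * v * n⁻¹) * k⁻¹ * (n * v * n⁻¹)⁻¹ := by
      rw [← h3, hkv]; group
    have hnv : n * v * n⁻¹ ∈ V := (mem_normalizer_iff.1 hnN v).1 hv
    have h5 : n * z * n⁻¹ ∈ RZ Om z := by
      rw [h4]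
      exact (hKc k hk _ hnv).1
    have h6 : n * z * n⁻¹ = z := by
      by_contra hne
      exact r.not_ti hnX (TI.of_mem_RZ h hK.inZ (hK.inZ.conj h n) (Ne.symm hne) h5)
    exact Subtype.ext h6
  have hij4 : (i * j) * (i * j) = z := by
    calc (i * j) * (i * j) = i * (j * i) * j := by group
      _ = i * (z * (i * j)) * j := by rw [hji]
      _ = (i * z) * i * (j * j) := by group
      _ = (z * i) * i * z := by rw [hK.comm_z h hi, hjj]
      _ = z * (i * i) * z := by group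
      _ = z := by rw [hii, mul_assoc, hK.inZ.z2 h, mul_one]
  have hfixij : B ⊓ centralizer {α * β} ≤ St := by
    have h1 : α * β = θ ⟨i * j, hKN _ (mul_mem hi hj)⟩ := by
      have h2 : α * β = θ (⟨i, hKN i hi⟩ * ⟨j, hKN j hj⟩) := (map_mul θ _ _).symm
      rw [h2]
      exact congrArg θ (Subtype.ext rfl)
    rw [h1]
    exact hfix (i * j) (mul_mem hi hj) hij4
  have hBS := Lib.KleinGen.le_of_klein B St hodd α β hαα hββ hαβ (hBn i (hKN i hi)) (hBn j (hKN j hj))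
    (hfix i hi hii) (hfix j hj hjj) hfixij
  -- `N_X(V)` centralises `z`
  refine hK.inZ.z1 h (eq_one_of_syl hV hVc hzV' ?_ ?_)
  · intro n hnX hnN
    have h1 : θ ⟨n, hnN⟩ ∈ B := by
      rw [hB]
      exact ⟨⟨n, hnN⟩, hnX, rfl⟩
    have h2 : θ ⟨n, hnN⟩ w0 = w0 := hBS h1
    have h3 : n * z * n⁻¹ = z := congrArg Subtype.val h2
    rwa [mul_inv_eq_iff_eq_mul] at h3
  · rw [hX]
    exact hzX

end TrX

end Cfsg.Agent.Cit.Nil.RTwoM
end

-- part: Cit/Nil/RTwoM/EndX
section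
/-!
# S1309, (6b), (C3), `r = 2`, any `m`: the end in `X = F*(G)`

* `OneCls Om` : all members are conjugate; `C3E Om` : elementwise (C3);
* `WM.inf_cases` : by (C3) `K ≤ X` or `K ∩ X = ⟨z⟩`;
* **`WM.false_of_closed`** : there is no strongly closed commutative subgroup of `X`;
* **`StarC.false_of_l0`** : `LAMBDA0` and `StarC` are contradictory.
-/

set_option autoImplicit false
set_option linter.style.haveILetI false
set_option linter.unusedSectionVars false

namespace Cfsg.Agent.Cit.Nil.RTwoM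

open Subgroup Cfsg Cfsg.Agent.Cit
open RG (WR CP Ov InO)
open RI (CS)
open RFour (ComZ AZ)
open Cfsg.Agent.Cit.Nil.ROne (FSimp exists_sylow_subgroupOf)

open scoped commutatorElement

variable {G : Type*} [Group G] {Om : Set (Subgroup G)} {K L M X A : Subgroup G} {a c d s t u v x y z g k n : G}

/-- all members are conjugate -/
def OneCls (Om : Set (Subgroup G)) : Prop := ∀ K ∈ Om, ∀ L ∈ Om, ∃ g, cj g K = L

/-- elementwise (C3) for all members -/
def C3E (Om : Set (Subgroup G)) : Prop :=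
  ∀ z K, Mem Om z K → ∀ y ∈ K, y * y = z → ∃ g, g * z = z * g ∧ cj g K = K ∧ g * y * g⁻¹ ≠ y ∧ g * y * g⁻¹ ≠ z * y

section Fin

variable [Finite G]

theorem OneCls.oneCl (hc : OneCls Om) (h : WM Om) : OneCl Om := by
  rintro u v ⟨K, hK⟩ ⟨L, hL⟩
  obtain ⟨g, rfl⟩ := hc K hK.1 L hL.1
  exact ⟨g, (hK.cj h g).2.symm.trans hL.2⟩

/-- **(C3)**: `K ≤ X` or `K ∩ X = ⟨z⟩` -/
theorem WM.inf_cases (h : WM Om) (c3 : C3E Om) (hn : X.Normal) (hK : Mem Om z K) :
    K ≤ X ∨ ∀ y ∈ K, y ∈ X → y = 1 ∨ y = z := by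
  by_contra hcon
  push Not at hcon
  obtain ⟨h1, y, hy, hyX, hy1, hyz⟩ := hcon
  have hyy : y * y = z := by
    rcases hK.sq_cases h hy with h2 | h2 | h2
    · exact absurd h2 hy1
    · exact absurd h2 hyz
    · exact h2
  obtain ⟨g, hgz, hgK, hg1, hg2⟩ := c3 z K hK y hy hyy
  obtain ⟨w, hw⟩ : ∃ w, w = g * y * g⁻¹ := ⟨_, rfl⟩
  rw [← hw] at hg1 hg2
  have hgy : w ∈ K := by
    have := conj_mem_cj (g := g) hy
    rwa [hgK, ← hw] at this
  have hgX : w ∈ X := by rw [hw]; exact hn.conj_mem y hyX g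
  have hww : w * w = z := by
    rw [hw]
    calc g * y * g⁻¹ * (g * y * g⁻¹) = g * (y * y) * g⁻¹ := by group
      _ = z := by rw [hyy, hgz, mul_inv_cancel_right]
  have hne : y * w ≠ w * y := by
    intro h3
    rcases hK.of_comm h hy hyy hgy h3 with h4 | h4 | h4 | h4
    · rw [h4, one_mul] at hww; exact hK.inZ.z1 h hww.symm
    · rw [h4, hK.inZ.z2 h] at hww; exact hK.inZ.z1 h hww.symm
    · exact hg1 h4
    · exact hg2 h4
  obtain ⟨b, qb, hb0, hb1⟩ := hK.exists_q2 h hy hyy hgy hww hne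
  have hzX : z ∈ X := by rw [← hyy]; exact mul_mem hyX hyX
  have hbX : ∀ i, b i ∈ X := by
    intro i
    fin_cases i
    · change b 0 ∈ X; rw [hb0]; exact hyX
    · change b 1 ∈ X; rw [hb1]; exact hgX
    · change b 2 ∈ X
      have h3 := qb.mul 0
      simp only [zero_add] at h3
      rw [hb0, hb1] at h3
      rw [← h3]
      exact mul_mem hyX hgX
  apply h1
  intro x hx
  rcases qb.cov x hx with h3 | h3 | ⟨i, h3 | h3⟩
  · rw [h3]; exact one_mem _
  · rw [h3]; exact hzX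
  · rw [h3]; exact hbX i
  · rw [h3]; exact mul_mem hzX (hbX i)

theorem ncard_Ov (h : WM Om) (hz : InZ Om z) : 2 ≤ (Ov Om z).ncard := by
  obtain ⟨K, hK⟩ := hz
  obtain ⟨L, hL, hKL, -⟩ := hK.other h
  have h1 : ({K, L} : Set (Subgroup G)) ⊆ Ov Om z := by
    rintro M (rfl | hM)
    · exact hK
    · rw [Set.mem_singleton_iff] at hM
      rw [hM]; exact hL
  have h2 := Set.ncard_le_ncard h1 (Set.toFinite _)
  rwa [Set.ncard_pair hKL] at h2

theorem WM.zmemX (h : WM Om) (f : FSimp X) (hev : 2 ∣ Nat.card X) (hz : InZ Om z) : z ∈ X :=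
  RG.zz_mem_of_fsimp h.hyp (fun _ hK => h.isPGroup hK) f hev hz

theorem RZ_ncomm (h : WM Om) (hK : Mem Om z K) : ∃ x ∈ K, ∃ y ∈ K, x * y ≠ y * x := by
  obtain ⟨q, hq⟩ := h.exists_q3 hK
  obtain ⟨u, hu, -, hne⟩ := hK.exists_nc h (hq.mem 0) (hq.sq 0)
  exact ⟨_, hq.mem 0, u, hu, hne⟩

/-- **the end**: there is no strongly closed commutative subgroup of `X = F*(G)` -/
theorem WM.false_of_closed (h : WM Om) (cls : OneCls Om) (c3 : C3E Om) (hz : InZ Om z) (f : FSimp X)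
    (hev : 2 ∣ Nat.card X) (gold : Cit.ROne.Gold X) (hB : CloEnd.Bend X) (S : Sylow 2 G) (hA : A ≠ ⊥) (hAX : A ≤ X)
    (hc : ∀ x ∈ A, ∀ y ∈ A, x * y = y * x) (hsc : IsStronglyClosed A (S : Subgroup G)) : False := by
  haveI : Fact (Nat.Prime 2) := ⟨Nat.prime_two⟩
  haveI := f.sim
  haveI := f.nor
  have hX : ∀ z, InZ Om z → z ∈ X := fun z hz => h.zmemX f hev hz
  by_cases hcase : ∃ z K, Mem Om z K ∧ K ≤ X
  · -- all members lie in `X`
    obtain ⟨z0, K0, hK0, hKX⟩ := hcase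
    have hall : ∀ K ∈ Om, K ≤ X := by
      intro K hK
      obtain ⟨g, rfl⟩ := cls K0 hK0.1 K hK
      intro x hx
      have h2 := f.nor.conj_mem _ (hKX (mem_cj.1 hx)) g
      rwa [show g * (g⁻¹ * x * g) * g⁻¹ = x by group] at h2
    obtain ⟨K, hK⟩ := hz
    obtain ⟨L, hL, hKL, -⟩ := hK.other h
    have hR2 : IsPGroup 2 (RZ Om z) := by rw [← RR_eq]; exact h.wr.RR_two hK.inZ.zz
    exact RG.false_of_two f gold hB S hA hAX hc hsc hR2 hK.le_RZ hL.le_RZ (hall K hK.1) (hall L hL.1)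
      (fun x hx y hy => hK.comm hL h hKL hx hy) (RZ_ncomm h hK) (RZ_ncomm h hL)
  -- `K ∩ X = ⟨z⟩`
  push Not at hcase
  have r : TrX Om X := ⟨h, f.nor, fun z K hK => (h.inf_cases c3 f.nor hK).resolve_left (hcase z K hK)⟩
  have hnc : ¬ IsMulCommutative X := by
    intro h2
    exact f.na fun x hx y hy => congrArg Subtype.val (h2.is_comm.comm ⟨x, hx⟩ ⟨y, hy⟩)
  obtain ⟨g, h3, h4⟩ := GH.QA.not_isolated f.sim hnc (u := (⟨z, hX z hz⟩ : X))
    (Subtype.ext (hz.z2 h)) (fun h2 => hz.z1 h (congrArg Subtype.val h2))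
  have h3' : z * (g * z * (g : G)⁻¹) = g * z * (g : G)⁻¹ * z := congrArg Subtype.val h3
  have h4' : z ≠ g * z * (g : G)⁻¹ := fun h5 => h4 (Subtype.ext h5.symm)
  have hu := hz.conj h (g : G)
  rcases tri h hz hu h4' h3' with h5 | h5 | ⟨h5, -⟩
  · obtain ⟨P, Q, R, k1, k2, k3, k4, k5, k6, k7, k8⟩ := h.wr.exists_two (ncard_Ov h hz) f.nor g.2 hz.zz h5
    exact RG.false_of_two f gold hB S hA hAX hc hsc k1 k2 k3 k4 k5 k6 k7 k8
  · exact r.not_ti g.2 h5
  rcases h5.cases with h6 | h6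
  swap
  · exact r.not_ff (hX _ hu) hz h6
  -- a swap
  obtain ⟨T, hT⟩ := exists_sylow_subgroupOf f.nor S
  have hA' : A.subgroupOf X ≠ ⊥ := by
    intro h1
    apply hA
    rw [← map_subgroupOf_eq_of_le hAX, h1, Subgroup.map_bot]
  have hc' : ∀ x ∈ A.subgroupOf X, ∀ y ∈ A.subgroupOf X, x * y = y * x := fun x hx y hy =>
    Subtype.ext (hc x hx y hy)
  have hsc' : IsStronglyClosed (A.subgroupOf X) (T : Subgroup X) := by
    refine ⟨?_, fun x hx g hg => ?_⟩
    · rw [hT]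
      exact comap_mono hsc.1
    · rw [hT] at hg
      exact hsc.2 x hx g hg
  rcases gold T _ hA' ⟨⟨fun a b => Subtype.ext (hc' a a.2 b b.2)⟩⟩ hsc' with h1 | ⟨H, hH⟩
  · -- commutative Sylow 2-subgroups
    have hXX : ⁅X, X⁆ = X := by
      refine le_antisymm (commutator_le_left X X) (f.le (N := ⁅X, X⁆) (fun g _ n hn => ?_) ?_)
      · exact (commutator_normal X X).conj_mem n hn g
      · intro h7
        apply f.na
        intro x hx y hy
        have h8 : ⁅x, y⁆ ∈ ⁅X, X⁆ := commutator_mem_commutator hx hy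
        rw [h7, mem_bot] at h8
        exact commutatorElement_eq_one_iff_mul_comm.1 h8
    refine r.false_of_swap hXX (fun P hPX hP a ha b hb => ?_) hz (hX z hz) (hX _ hu) h6
    have hPX' : IsPGroup 2 (P.subgroupOf X) := hP.comap_subtype
    obtain ⟨T', hT'⟩ := hPX'.exists_le_sylow
    obtain ⟨q, hq⟩ := MulAction.exists_smul_eq X T T'
    have h7 : ∀ x ∈ (T' : Subgroup X), q⁻¹ * x * q ∈ (T : Subgroup X) := by
      intro x hx
      rw [← hq] at hx
      have h8 : x ∈ cj q (T : Subgroup X) := hx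
      exact mem_cj.1 h8
    have ha' : (⟨a, hPX ha⟩ : X) ∈ (T' : Subgroup X) := hT' (mem_subgroupOf.2 ha)
    have hb' : (⟨b, hPX hb⟩ : X) ∈ (T' : Subgroup X) := hT' (mem_subgroupOf.2 hb)
    have h8 := congrArg Subtype.val (h1.is_comm.comm ⟨_, h7 _ ha'⟩ ⟨_, h7 _ hb'⟩)
    set a' : X := ⟨a, hPX ha⟩
    set b' : X := ⟨b, hPX hb⟩
    have h9 : q⁻¹ * a' * q * (q⁻¹ * b' * q) = q⁻¹ * b' * q * (q⁻¹ * a' * q) := h8
    have h10 : a' * b' = b' * a' := by
      calc a' * b' = q * (q⁻¹ * a' * q * (q⁻¹ * b' * q)) * q⁻¹ := by group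
        _ = q * (q⁻¹ * b' * q * (q⁻¹ * a' * q)) * q⁻¹ := by rw [h9]
        _ = b' * a' := by group
    exact congrArg Subtype.val h10
  · -- strongly embedded
    obtain ⟨K, hK⟩ := id hz
    obtain ⟨q, hq⟩ := h.exists_q3 hK
    obtain ⟨k, hk⟩ : ∃ k, k = q 0 := ⟨_, rfl⟩
    have hkK : k ∈ K := by rw [hk]; exact hq.mem 0
    have hkk : k * k = z := by rw [hk]; exact hq.sq 0
    obtain ⟨t, ht⟩ : ∃ t, t = (g : G) * z * (g : G)⁻¹ := ⟨_, rfl⟩
    rw [← ht] at h6 hu
    have htX := hX t hu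
    have e1 : qq t k = (k * k) * ((k⁻¹ * t * k⁻¹⁻¹) * t⁻¹) := by rw [qq]; group
    have hqX : qq t k ∈ X := by
      rw [e1, hkk]
      exact X.mul_mem (hX z hz) (X.mul_mem (f.nor.conj_mem t htX k⁻¹) (X.inv_mem htX))
    have hq2 : qq t k * qq t k = 1 := qq_sq h6 h hK hkK
    have hq1 : qq t k ≠ 1 := by
      intro h7
      rcases qq_eq_one h6 h hK hkK h7 with h8 | h8
      · rw [h8, one_mul] at hkk; exact hz.z1 h hkk.symm
      · rw [h8, hz.z2 h] at hkk; exact hz.z1 h hkk.symm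
    have h2 := Cfsg.Agent.TwoFusion.StronglyEmbeddedBasic.isConj_of_involutions hH (⟨z, hX z hz⟩ : X) ⟨qq t k, hqX⟩
      (by rw [← Subgroup.orderOf_coe]; exact hz.orderOf h)
      (by rw [← Subgroup.orderOf_coe]; exact orderOf_eq_prime (by rw [pow_two]; exact hq2) hq1)
    obtain ⟨p, hp⟩ := isConj_iff.1 h2
    have hp' : (p : G) * z * (p : G)⁻¹ = qq t k := congrArg Subtype.val hp
    have hne : z ≠ (p : G) * z * (p : G)⁻¹ := by
      rw [hp']
      intro h7
      -- `k t k t⁻¹ = k k`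
      have h8 : t * k * t⁻¹ = k := by
        have h9 : k * (t * k * t⁻¹) = k * k := by rw [hkk]; exact h7.symm
        exact mul_left_cancel h9
      have h9 := h6.inf h hK hkK (conj_mem_cj (g := t) hkK) h8.symm
      rcases h9 with h9 | h9
      · rw [h9, one_mul] at hkk; exact hz.z1 h hkk.symm
      · rw [h9, hz.z2 h] at hkk; exact hz.z1 h hkk.symm
    refine r.not_ti p.2 (TI.of_mem_RZ h hz (hz.conj h p) hne ?_)
    rw [hp']
    exact qq_mem h6 h hK hkK

/-- **`LAMBDA0` is impossible** given `StarC` -/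
theorem StarC.false_of_l0 (st : StarC Om) (h : WM Om) (cls : OneCls Om) (c3 : C3E Om) (l0 : L0 Om) (an : ANT Om)
    (hz : InZ Om z) (f : FSimp X) (hev : 2 ∣ Nat.card X) (gold : Cit.ROne.Gold X) (hB : CloEnd.Bend X) : False := by
  obtain ⟨S, hS⟩ := exists_sylow h hz
  have c := st.comZ h an
  refine h.false_of_closed cls c3 hz f hev gold hB S (A := AZ (RG.ZZ Om) z) ?_ ?_
    (fun x hx y hy => c.AZ_comm hz.zz x hx y hy) (st.closed h l0 an S hS)
  · intro h1
    have h2 := ComZ.self_mem hz.zz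
    rw [h1, mem_bot] at h2
    exact hz.z1 h h2
  · rw [AZ, closure_le]
    rintro u ⟨hu, -⟩
    exact h.zmemX f hev hu

end Fin

end Cfsg.Agent.Cit.Nil.RTwoM
end
end

-- part: Cit/Nil/CV1/MainR
section
set_option linter.all false
open scoped Cfsg.Agent.FastGrp

/-!
# (6b)(CV), rank one: R1 for reduced worlds

`Red.r1_top` : a reduced world with LEMMA T has `R1 Om ⊤`.
-/

set_option autoImplicit false
set_option linter.style.haveILetI false
set_option linter.unusedSectionVars false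

namespace Cfsg.Agent.Cit.CV1

open Subgroup Cfsg Cit Tau CV

universe u

variable {G : Type u} [Group G] [Finite G] {Om : Set (Subgroup G)} {U : Subgroup G → Subgroup G}
  {K L M N S T : Subgroup G}

/-- the Sylow subgroups in the two senses -/
theorem syl_top (S : Sylow 2 G) : Syl (S : Subgroup G) ⊤ :=
  ⟨le_top, S.isPGroup', by
    haveI : Fact (Nat.Prime 2) := ⟨Nat.prime_two⟩
    rw [relIndex_top_right]; exact S.not_dvd_index⟩

theorem LW.noClo (h : LW Om U) : Nil.CV1.TFree.NoClo Om := by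
  intro S T u hu hu' h0 K hK hKT
  exact (h.closure' (syl_top S) (syl_top T) ⟨hu, fun K hK => h0 K hK.1 hK.2⟩ hu').2 K ⟨hK, hKT⟩

theorem LW.tf (h : LW Om U) (hn : ∀ K ∈ Om, ∀ N ∈ Om, ¬ TT U K (zz N)) : Nil.CV1.TFree.TF Om := by
  intro S K hK hz
  exact (h.mem_Phi_of_not_tt (syl_top S) hK hz fun L hL => hn L hL.1 K hK).2

/-- the T-type end -/
theorem Red.no_tt (r : Red Om U) (hT : LemT Om U) (hR : ¬ R1 Om ⊤) (hK : K ∈ Om) (hN : N ∈ Om) (ht : TT U K (zz N)) :
    False := by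
  have h := r.lw hT
  obtain ⟨S, hS, hKS⟩ := exists_top (r.two K hK)
  have hKI : K ∈ II Om U S := ⟨⟨hK, hKS⟩, N, hN, ht⟩
  have honly : ∀ L ∈ II Om U S, L = K := fun L hL => r.subsingleton hT hR hS hL hKI
  -- two orthogonal members
  obtain ⟨A, hA, B, hB, hAB⟩ : ∃ A ∈ Om, ∃ B ∈ Om, Orth A B := by
    by_contra hh
    push Not at hh
    exact hR fun A hA B hB _ _ ho _ => hh A hA B hB ho
  have h2 : IsPGroup 2 (B ⊔ A : Subgroup G) := two_sup_comm (r.two A hA) (r.two B hB) hAB.2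
  obtain ⟨S₂, hS₂, hle⟩ := exists_top h2
  have hn2 : 1 < (Phi Om S₂).ncard := by
    rw [Set.one_lt_ncard (Set.toFinite _)]
    exact ⟨A, ⟨hA, le_sup_right.trans hle⟩, B, ⟨hB, le_sup_left.trans hle⟩, hAB.1⟩
  rw [ncard_Phi_eq h.hO hS₂ hS] at hn2
  obtain ⟨L, hL, hLK⟩ := Set.exists_ne_of_one_lt_ncard hn2 K
  have hLF : L ∈ FF Om U S := ⟨hL, fun M hM htM => hLK (honly L ⟨hL, M, hM, htM⟩)⟩
  refine r.false_of_closed hT hR hS (P := PP Om U S K) (h.PP_le hKI.1) ?_ ?_ (h.PP_inf_WF hS hKI) hLF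
  · intro x hx g hg
    obtain ⟨M, hM, hgM⟩ := h.pp_closed hS hKI hx hg
    rwa [honly M hM] at hgM
  · intro hh
    have h3 : zz K ∈ PP Om U S K := subset_closure (Or.inl (h.zz_mem_XX hK))
    rw [hh, mem_bot] at h3
    exact r.hyp.zz_ne hK h3

/-- **R1 for reduced worlds** -/
theorem Red.r1_top (r : Red Om U) (hT : LemT Om U) (hev : Comp.EvQ G)
    (hgold : ∀ E : Subgroup G, IsSimpleGroup E → Cit.ROne.Gold E) : R1 Om ⊤ := by
  haveI : Fact (Nat.Prime 2) := ⟨Nat.prime_two⟩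
  by_contra hR
  have h := r.lw hT
  obtain ⟨K, hK⟩ : Om.Nonempty := by
    by_contra hh
    rw [Set.not_nonempty_iff_eq_empty] at hh
    refine hR fun K hK => ?_
    rw [hh] at hK
    exact absurd hK (Set.notMem_empty K)
  refine Nil.CV1.TFree.tfree_false r.toRW (oddCore_eq_bot_of_OO r.core) ?_ hev hgold
    (h.tf fun K hK N hN ht => r.no_tt hT hR hK hN ht) h.noClo hK
  exact r.two_eq_bot hT (Lib.Cores.pCore_normal 2) (Lib.Cores.pCore_isPGroup 2)

/-- LEMMA T in a reduced world -/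
theorem Red.lemT (r : Red Om U) : LemT Om U := CV1.lemT r.toRW fun _ he => r.ih _ (r.centralizer_ne_top he)

/-- **R1 for all worlds of rank one** -/
theorem r1_all (hev : ∀ (G : Type u) [Group G] [Finite G], Comp.EvQ G)
    (hgold : ∀ (G : Type u) [Group G] [Finite G], IsSimpleGroup G → Cit.ROne.Gold G)
    (w : RW Om U) (H : Subgroup G) : R1 Om H :=
  r1_of_red (fun G _ _ _ _ r => r.r1_top r.lemT (hev G) fun E hE => hgold E hE) w H

end Cfsg.Agent.Cit.CV1
end

-- part: Cit/Nil/RTwoM/UEnd_mg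
section
prune_inst 0x10200450220000001800008000000000000000000000012100020003080001a0400801306000000020084000000040014400200000000000000200000000000020000000000000000000005800000000000000000000000000000000000000000000000
set_option linter.all false
open scoped Cfsg.Agent.FastGrp

-- part: Cit/Nil/RTwoM/Rot
section
/-!
# S1309, (6b), (C3), `r = 2`, any `m`: rotations

* `Rot z K c` : `c` normalises `K` and moves the axes of `K`;
* `C3R Om` : every member has a rotation; `C3R.of_c3` : from `Nil.C3`; `C3R.c3e`;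
* `C3R.exists_ncs` : the rotation may be chosen normalising `C_S`;
* **`C3R.exists_cent`** : `|C_S| ≤ 3`: the rotation may be chosen in `C(T_S)`.
-/

set_option autoImplicit false
set_option linter.style.haveILetI false
set_option linter.unusedSectionVars false

namespace Cfsg.Agent.Cit.Nil.RTwoM

open Subgroup Cfsg Cfsg.Agent.Cit
open RG (WR CP Ov InO)
open RI (CS)
open RTwo (Q3 Act)

variable {G : Type*} [Group G] {Om : Set (Subgroup G)} {K L M X A : Subgroup G} {a c d s t u v x y z g k n : G}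

/-- `c` normalises `K` and moves the axes -/
def Rot (z : G) (K : Subgroup G) (c : G) : Prop :=
  cj c K = K ∧ ∀ y ∈ K, y * y = z → c * y * c⁻¹ ≠ y ∧ c * y * c⁻¹ ≠ z * y

/-- (C3) : every member has a rotation -/
def C3R (Om : Set (Subgroup G)) : Prop := ∀ z K, Mem Om z K → ∃ c, Rot z K c

set_option maxRecDepth 100000 in
theorem perm_six (σ : Equiv.Perm (Fin 3)) : σ ^ 6 = 1 := by
  have h5 : ∀ σ : Equiv.Perm (Fin 3), ∀ i, (σ ^ 3) ((σ ^ 3) i) = i := by decide +kernel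
  have h6 : σ ^ 6 = σ ^ 3 * σ ^ 3 := by rw [← pow_add]
  rw [h6]
  exact Equiv.ext fun i => h5 σ i

theorem act_pow' {x : Fin 3 → G} {σ : Equiv.Perm (Fin 3)} (hz : z * z = 1) (hg : g * z = z * g)
    (ha : Act z x x g σ) (n : ℕ) : g ^ n * z = z * g ^ n ∧ Act z x x (g ^ n) (σ ^ n) := by
  induction n with
  | zero => simp only [pow_zero, one_mul, mul_one, true_and]; exact Act.one x z
  | succ n ih =>
    obtain ⟨h1, h2⟩ := ih
    rw [pow_succ, pow_succ]
    refine ⟨?_, ha.comp hz h2 h1⟩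
    rw [mul_assoc, hg, ← mul_assoc, h1, mul_assoc]

section Fin

variable [Finite G]

/-- a 3-element acting nontrivially on a member is a rotation -/
theorem Rot.of_three (h : WM Om) (hK : Mem Om z K) {c : G} (hcK : cj c K = K) (hc3 : IsPGroup 3 (zpowers c)) {q : G}
    (hq : q ∈ K) (hcq : c * q ≠ q * c) : Rot z K c := by
  refine ⟨hcK, fun y hy hyy => ?_⟩
  have hcz : c * z = z * c := hK.of_cj h hcK
  obtain ⟨x, qx⟩ := h.exists_q3 hK
  obtain ⟨σ, hσ⟩ := qx.exists_act qx hcK hcz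
  obtain ⟨k, hk⟩ := hc3 ⟨c, mem_zpowers c⟩
  have hk' : c ^ 3 ^ k = 1 := congrArg Subtype.val hk
  have h1 := (act_pow' qx.z2 hcz hσ (3 ^ k)).2
  rw [hk'] at h1
  have h2 : σ ^ 3 ^ k = 1 := h1.unique qx (Act.one x z)
  have h3 : σ ^ 3 = 1 := by
    have h4 : ∀ σ : Equiv.Perm (Fin 3), σ ^ 6 = 1 := perm_six
    have h5 : ∀ n, σ ^ 3 ^ (n + 1) = σ ^ 3 := by
      intro n
      induction n with
      | zero => simp
      | succ n ih =>
        rw [pow_succ, pow_mul, ih, ← pow_mul, show 3 * 3 = 6 + 3 by norm_num, pow_add, h4, one_mul]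
    rcases k with _ | k
    · rw [pow_zero, pow_one] at h2
      rw [h2, one_pow]
    · rw [← h5 k]; exact h2
  have h4 : σ = 1 ∨ ∀ i, σ i ≠ i := by
    have h5 : ∀ σ : Equiv.Perm (Fin 3), σ * σ * σ = 1 → σ = 1 ∨ ∀ i, σ i ≠ i := by decide +kernel
    exact h5 σ (by rw [← h3]; simp only [pow_succ, pow_zero, one_mul])
  rcases h4 with h4 | h4
  · -- inner: `c² ∈ C(K)`
    exfalso
    subst h4
    have h5 := hσ.inner qx hcz
    have h6 : ∀ n : ℕ, ∀ k ∈ K, c ^ (2 * n) * k = k * c ^ (2 * n) := by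
      have h7 : ∀ k ∈ K, c ^ 2 * k = k * c ^ 2 := by
        intro k hk
        have h8 : c * (c * k * c⁻¹) * c⁻¹ = k := by
          rcases qx.inner_cases h5 with h9 | ⟨j, h9⟩
          · rw [h9 k hk, h9 k hk]
          · have hk' : x j * k * (x j)⁻¹ ∈ K := mul_mem (mul_mem (qx.mem j) hk) (inv_mem (qx.mem j))
            rw [h9 k hk, h9 _ hk']
            calc x j * (x j * k * (x j)⁻¹) * (x j)⁻¹ = (x j * x j) * k * (x j * x j)⁻¹ := by group
              _ = k := by rw [qx.sq, ← hK.comm_z h hk, mul_inv_cancel_right]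
        rw [← mul_inv_eq_iff_eq_mul]
        calc c ^ 2 * k * (c ^ 2)⁻¹ = c * (c * k * c⁻¹) * c⁻¹ := by rw [pow_two]; group
          _ = k := h8
      intro n k hk
      rw [pow_mul]
      exact (show Commute (c ^ 2) k from h7 k hk).pow_left n
    -- `c = c^{odd}`
    obtain ⟨m, hm⟩ : Odd (3 ^ k) := Odd.pow (by decide)
    have h7 : c ^ (2 * m) * c = 1 := by rw [← pow_succ, ← hm, hk']
    have h8 := h6 m q hq
    apply hcq
    have h9 : c = (c ^ (2 * m))⁻¹ := by rw [eq_inv_iff_mul_eq_one, ← pow_succ', ← hm, hk']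
    rw [h9, inv_mul_eq_iff_eq_mul, ← mul_assoc, h8, mul_inv_cancel_right]
  · obtain ⟨i, hi⟩ := qx.of_sq hy hyy
    have key : ∀ w, (w = x i ∨ w = z * x i) → c * y * c⁻¹ = w → False := by
      intro w hw hcy
      have e : c * (z * x i) * c⁻¹ = z * (c * x i * c⁻¹) := by
        calc c * (z * x i) * c⁻¹ = (c * z) * x i * c⁻¹ := by group
          _ = (z * c) * x i * c⁻¹ := by rw [hcz]
          _ = _ := by group
      have h5 : c * y * c⁻¹ = x (σ i) ∨ c * y * c⁻¹ = z * x (σ i) := by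
        rcases hi with rfl | rfl
        · exact hσ i
        · rw [e]
          rcases hσ i with h6 | h6
          · right; rw [h6]
          · left; rw [h6, qx.zzx]
      rw [hcy] at h5
      apply h4 i
      rcases hw with rfl | rfl <;> rcases h5 with h5 | h5
      · exact (qx.inj (Or.inl h5)).symm
      · exact (qx.inj (Or.inr h5)).symm
      · exact qx.inj (Or.inr h5.symm)
      · exact (qx.inj (Or.inl (mul_left_cancel h5))).symm
    constructor
    · intro h5; exact key y hi h5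
    · intro h5
      refine key (z * y) ?_ h5
      rcases hi with rfl | rfl
      · exact Or.inr rfl
      · left; exact qx.zzx _

/-- `Nil.C3 K` gives (C3) for the class of `K` -/
theorem C3R.of_c3 {K : Subgroup G} (h : WM (cls K)) (h3 : Nil.C3 K) : C3R (cls K) := by
  obtain ⟨Q, hQ, hQ8, c, hcK, hcQ, hc3, q, hq, hcq⟩ := h3
  have hQK : Q = K := eq_of_le_of_card_ge hQ.1 (by rw [hQ8, h.card K (self_mem_cls K)])
  subst hQK
  intro z L hL
  obtain ⟨g, hg⟩ := hL.1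
  have hL0 : Mem (cls Q) (g⁻¹ * z * g) Q := by
    have h1 := hL.cj h g⁻¹
    rw [hg, cj_inv_cj, inv_inv] at h1
    exact h1
  obtain ⟨-, h2⟩ := Rot.of_three h hL0 (mem_normalizer_iff_cj.1 hcK) hc3 hq hcq
  have hcc : cj (g * c * g⁻¹) L = L := by
    rw [hg, cj_mul, cj_mul, cj_inv_cj, mem_normalizer_iff_cj.1 hcK]
  refine ⟨g * c * g⁻¹, hcc, fun y hy hyy => ?_⟩
  obtain ⟨h5, h6⟩ := h2 (g⁻¹ * y * g) (by rw [hg, mem_cj] at hy; exact hy) (by rw [← hyy]; group)
  have h4 : c * (g⁻¹ * y * g) * c⁻¹ = g⁻¹ * (g * c * g⁻¹ * y * (g * c * g⁻¹)⁻¹) * g := by group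
  constructor
  · intro h3
    apply h5
    rw [h4, h3]
  · intro h3
    apply h6
    rw [h4, h3]
    group

theorem C3R.c3e (c3 : C3R Om) (h : WM Om) : C3E Om := by
  intro z K hK y hy hyy
  obtain ⟨c, hc, h1⟩ := c3 z K hK
  exact ⟨c, hK.of_cj h hc, hc, h1 y hy hyy⟩

/-- the square of a rotation is a rotation -/
theorem Rot.sq (h : WM Om) (hK : Mem Om z K) (hc : Rot z K c) : Rot z K (c * c) := by
  have hcz : c * z = z * c := hK.of_cj h hc.1
  refine ⟨by rw [cj_mul, hc.1, hc.1], fun y hy hyy => ?_⟩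
  have hcy : c * y * c⁻¹ ∈ K := by
    have := conj_mem_cj (g := c) hy
    rwa [hc.1] at this
  have hcyy : c * y * c⁻¹ * (c * y * c⁻¹) = z := by
    calc c * y * c⁻¹ * (c * y * c⁻¹) = c * (y * y) * c⁻¹ := by group
      _ = z := by rw [hyy, hcz, mul_inv_cancel_right]
  obtain ⟨h1, h2⟩ := hc.2 y hy hyy
  obtain ⟨h3, h4⟩ := hc.2 _ hcy hcyy
  -- the third axis
  obtain ⟨w, hw⟩ : ∃ w, w = y * (c * y * c⁻¹) := ⟨_, rfl⟩
  have hne : y * (c * y * c⁻¹) ≠ (c * y * c⁻¹) * y := by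
    intro h5
    rcases hK.of_comm h hy hyy hcy h5 with h6 | h6 | h6 | h6
    · rw [h6, one_mul] at hcyy; exact hK.inZ.z1 h hcyy.symm
    · rw [h6, hK.inZ.z2 h] at hcyy; exact hK.inZ.z1 h hcyy.symm
    · exact h1 h6
    · exact h2 h6
  obtain ⟨b, qb, hb0, hb1⟩ := hK.exists_q2 h hy hyy hcy hcyy hne
  have hb2 : b 2 = y * (c * y * c⁻¹) := by
    have h5 := qb.mul 0
    simp only [zero_add] at h5
    rw [hb0, hb1] at h5
    exact h5.symm
  have key : ∀ w, (w = y ∨ w = z * y) → c * c * y * (c * c)⁻¹ = w → False := by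
    intro w hw hcw
    have e1 : c * (c * y * c⁻¹) * c⁻¹ = w := by rw [← hcw]; group
    -- `c b₂ c⁻¹ = (c y c⁻¹) w`
    have e2 : c * b 2 * c⁻¹ = (c * y * c⁻¹) * w := by
      rw [hb2, ← e1]; group
    obtain ⟨h5, h6⟩ := hc.2 (b 2) (qb.mem 2) (qb.sq 2)
    have e3 : (c * y * c⁻¹) * y = z * b 2 := by
      have h7 := qb.sw (i := 1) (j := 0) (by decide)
      rw [hb0, hb1] at h7
      rw [h7, hb2]
    rcases hw with rfl | rfl
    · rw [e2, e3] at h6
      exact h6 rfl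
    · rw [e2, ← mul_assoc, hK.comm_z h hcy, mul_assoc, e3, qb.zzx] at h5
      exact h5 rfl
  exact ⟨fun h5 => key y (Or.inl rfl) h5, fun h5 => key (z * y) (Or.inr rfl) h5⟩

/-- a rotation normalising `C_S` -/
theorem C3R.exists_ncs (c3 : C3R Om) (h : WM Om) (S : Sylow 2 G) (hK : Mem Om z K) (hKS : K ≤ (S : Subgroup G)) :
    ∃ c, Rot z K c ∧ NCS Om (S : Subgroup G) c := by
  haveI : Fact (Nat.Prime 2) := ⟨Nat.prime_two⟩
  obtain ⟨c, hc⟩ := c3 z K hK
  -- `H = C(K)`, `P1` a Sylow subgroup of `H` containing `S ∩ H`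
  obtain ⟨H, hH⟩ : ∃ H, H = centralizer (K : Set G) := ⟨_, rfl⟩
  obtain ⟨P1, hP1, hSP⟩ := exists_syl_ge (C := H) (P := (S : Subgroup G) ⊓ H) (S.isPGroup'.to_le inf_le_left) inf_le_right
  have hHK : ∀ x ∈ H, ∀ k ∈ K, x * k = k * x := by
    intro x hx k hk
    rw [hH, mem_centralizer_iff] at hx
    exact (hx k hk).symm
  have hcH : cj c H = H := by
    have key : ∀ c, cj c K = K → ∀ x ∈ H, c * x * c⁻¹ ∈ H := by
      intro c hcK x hx
      rw [hH, mem_centralizer_iff]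
      intro k hk
      have hk' : c⁻¹ * k * c ∈ K := by
        rw [← mem_cj, hcK]; exact hk
      have h1 := hHK x hx _ hk'
      calc k * (c * x * c⁻¹) = c * ((c⁻¹ * k * c) * x) * c⁻¹ := by group
        _ = c * (x * (c⁻¹ * k * c)) * c⁻¹ := by rw [h1]
        _ = _ := by group
    ext x
    rw [mem_cj]
    constructor
    · intro hx
      have h1 := key c hc.1 _ hx
      rwa [show c * (c⁻¹ * x * c) * c⁻¹ = x by group] at h1
    · intro hx
      have hcK' : cj c⁻¹ K = K := by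
        have h1 : cj c⁻¹ (cj c K) = K := cj_inv_cj c K
        rwa [hc.1] at h1
      have h1 := key c⁻¹ hcK' _ hx
      rwa [inv_inv] at h1
  obtain ⟨e, he, heP⟩ := (show Syl (cj c P1) H by
    have h1 := hP1.cj c
    rwa [hcH] at h1).exists_conj hP1
  -- `c' = e c`
  have hcP : cj (e * c) P1 = P1 := by rw [cj_mul]; exact heP
  have hact : ∀ y ∈ K, (e * c) * y * (e * c)⁻¹ = c * y * c⁻¹ := by
    intro y hy
    have h1 : c * y * c⁻¹ ∈ K := by
      have := conj_mem_cj (g := c) hy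
      rwa [hc.1] at this
    calc (e * c) * y * (e * c)⁻¹ = e * (c * y * c⁻¹) * e⁻¹ := by group
      _ = c * y * c⁻¹ := by rw [hHK e he _ h1, mul_inv_cancel_right]
  have hK' : cj (e * c) K = K := by
    ext x
    rw [cj_mul, hc.1, mem_cj]
    constructor
    · intro hx
      have h1 := hHK e he _ hx
      have h2 : x = e⁻¹ * x * e := by
        calc x = (e * (e⁻¹ * x * e)) * e⁻¹ := by group
          _ = ((e⁻¹ * x * e) * e) * e⁻¹ := by rw [h1]
          _ = _ := by group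
      rw [h2]; exact hx
    · intro hx
      have h1 := hHK e he _ hx
      have h2 : e⁻¹ * x * e = x := by rw [mul_assoc, ← h1]; group
      rw [h2]; exact hx
  refine ⟨e * c, ⟨hK', fun y hy hyy => ?_⟩, ?_⟩
  · rw [hact y hy]; exact hc.2 y hy hyy
  -- the members in `S`
  have hKP : IsPGroup 2 (K ⊔ P1 : Subgroup G) := by
    refine (h.isPGroup hK.1).to_sup_of_normal_right' hP1.2.1 ?_
    intro k hk
    rw [mem_normalizer_iff]
    intro x
    have key : ∀ k ∈ K, ∀ x ∈ P1, k * x * k⁻¹ ∈ P1 := by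
      intro k hk x hx
      rw [← hHK x (hP1.1 hx) k hk, mul_inv_cancel_right]; exact hx
    refine ⟨key k hk x, fun hx => ?_⟩
    have h1 := key k⁻¹ (inv_mem hk) _ hx
    rwa [inv_inv, show k⁻¹ * (k * x * k⁻¹) * k = x by group] at h1
  obtain ⟨S1, hS1⟩ := hKP.exists_le_sylow
  obtain ⟨g, hg⟩ := MulAction.exists_smul_eq G S S1
  have hgS : (S1 : Subgroup G) = cj g S := by
    rw [← hg]
    rfl
  have h1 := ncard_cj h g (S : Subgroup G)
  rw [← hgS] at h1
  have hD : ∀ L ∈ Om, L ≤ (S : Subgroup G) → L = K ∨ L ≤ P1 := by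
    intro L hL hLS
    by_cases hLK : L = K
    · exact Or.inl hLK
    · right
      refine le_trans (le_inf hLS ?_) hSP
      intro l hl
      rw [hH, mem_centralizer_iff]
      exact fun k hk => com h S.isPGroup' hK.1 hL hKS hLS (Ne.symm hLK) k hk l hl
  have h2 : {L | L ∈ Om ∧ L ≤ (S : Subgroup G)} ⊆ {L | L ∈ Om ∧ L ≤ (S1 : Subgroup G)} := by
    rintro L ⟨hL, hLS⟩
    refine ⟨hL, ?_⟩
    rcases hD L hL hLS with rfl | h3
    · exact le_sup_left.trans hS1
    · exact (h3.trans le_sup_right).trans hS1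
  have h3 : {L | L ∈ Om ∧ L ≤ (S : Subgroup G)} = {L | L ∈ Om ∧ L ≤ (S1 : Subgroup G)} :=
    Set.eq_of_subset_of_ncard_le h2 (le_of_eq h1) (Set.toFinite _)
  rintro v ⟨L, hL, hLS⟩
  have hL' := h.wr.Ov_cj hL (e * c)
  refine ⟨cj (e * c) L, hL', ?_⟩
  have h4 : cj (e * c) L ≤ (S1 : Subgroup G) := by
    rcases hD L hL.1 hLS with rfl | h5
    · rw [hK']; exact le_sup_left.trans hS1
    · have h6 := cj_mono (e * c) h5
      rw [hcP] at h6
      exact (h6.trans le_sup_right).trans hS1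
  have h5 : cj (e * c) L ∈ {L | L ∈ Om ∧ L ≤ (S : Subgroup G)} := by rw [h3]; exact ⟨hL'.1, h4⟩
  exact h5.2

/-- **a rotation in `C(T_S)`** if `|C_S| ≤ 3` -/
theorem C3R.exists_cent (c3 : C3R Om) (h : WM Om) (S : Sylow 2 G) (hm : (CS Om (S : Subgroup G)).ncard ≤ 3)
    (hK : Mem Om z K) (hKS : K ≤ (S : Subgroup G)) :
    ∃ c, Rot z K c ∧ ∀ t ∈ TT Om (S : Subgroup G), c * t = t * c := by
  obtain ⟨c, hc, hn⟩ := c3.exists_ncs h S hK hKS
  have hcz : c * z = z * c := hK.of_cj h hc.1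
  have hzS : z ∈ CS Om (S : Subgroup G) := ⟨K, hK, hKS⟩
  refine ⟨c * c, hc.sq h hK, ?_⟩
  have key : ∀ v ∈ CS Om (S : Subgroup G), (c * c) * v = v * (c * c) := by
    intro v hv
    by_contra hne
    obtain ⟨v1, hv1⟩ : ∃ v1, v1 = c * v * c⁻¹ := ⟨_, rfl⟩
    obtain ⟨v2, hv2⟩ : ∃ v2, v2 = c * v1 * c⁻¹ := ⟨_, rfl⟩
    have m1 := hn v hv
    rw [← hv1] at m1
    have m2 := hn v1 m1
    rw [← hv2] at m2
    have n1 : v2 ≠ v := by
      intro h1
      apply hne
      rw [← mul_inv_eq_iff_eq_mul]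
      calc c * c * v * (c * c)⁻¹ = c * (c * v * c⁻¹) * c⁻¹ := by group
        _ = v := by rw [← hv1, ← hv2, h1]
    have n2 : v1 ≠ v := by
      intro h1
      apply n1
      rw [hv2, h1, ← hv1, h1]
    have n3 : v2 ≠ v1 := by
      intro h1
      apply n2
      have h2 : c * v1 * c⁻¹ = c * v * c⁻¹ := by rw [← hv2, h1, hv1]
      exact mul_left_cancel (mul_right_cancel h2)
    have inj : ∀ w w' : G, c * w * c⁻¹ = c * w' * c⁻¹ → w = w' := fun w w' h1 => mul_left_cancel (mul_right_cancel h1)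
    have hczz : c * z * c⁻¹ = z := by rw [hcz, mul_inv_cancel_right]
    have n4 : v ≠ z := by
      intro h1
      apply n2
      rw [hv1, h1, hczz]
    have n5 : v1 ≠ z := by
      intro h1
      apply n4
      refine inj v z ?_
      rw [← hv1, h1, hczz]
    have n6 : v2 ≠ z := by
      intro h1
      apply n5
      refine inj v1 z ?_
      rw [← hv2, h1, hczz]
    have h1 : ({z, v, v1, v2} : Set G) ⊆ CS Om (S : Subgroup G) := by
      rintro w (rfl | rfl | rfl | hw)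
      · exact hzS
      · exact hv
      · exact m1
      · rw [Set.mem_singleton_iff] at hw
        rw [hw]; exact m2
    have h2 := Set.ncard_le_ncard h1 (Set.toFinite _)
    have h3 : ({z, v, v1, v2} : Set G).ncard = 4 := by
      rw [Set.ncard_insert_of_notMem, Set.ncard_insert_of_notMem, Set.ncard_pair n3.symm]
      · rintro (h4 | h4)
        · exact n2 h4.symm
        · exact n1 h4.symm
      · rintro (h4 | h4 | h4)
        · exact n4 h4.symm
        · exact n5 h4.symm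
        · exact n6 h4.symm
    omega
  intro t ht
  have h1 : TT Om (S : Subgroup G) ≤ centralizer ({c * c} : Set G) := by
    refine (closure_le _).2 fun u hu => mem_centralizer_singleton_iff.2 ?_
    exact (key u hu).symm
  exact (mem_centralizer_singleton_iff.1 (h1 ht)).symm

end Fin

end Cfsg.Agent.Cit.Nil.RTwoM
end

-- part: Cit/Nil/RTwoM/EndT
section
/-!
# S1309, (6b), (C3), `r = 2`, any `m`, `LAMBDA0`: `CENT ⟹ StarC` for `|T| > 4`

* `CENT Om` : `x ∈ Z` normalising `C_S` commutes with `Z(s)`, all `s ∈ T_S#`;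
* `CENT.comm_a0` : (H): `x ∈ Z ∩ C(z)` centralises `Z(z) = {z} ∪ a0(z)`;
* `FF Om z = Z ∩ C(z)`; `CENT.FF_eq` : constant on `Z(s)`, `s ∈ T_S#`;
* `DS Om z` : the `y ∈ Z` with `FF y = FF z`; `CENT.norm` : `C(s)` normalises `⟨DS z⟩`;
* **`StarC.of_cent`**.
-/

set_option autoImplicit false
set_option linter.style.haveILetI false
set_option linter.unusedSectionVars false

namespace Cfsg.Agent.Cit.Nil.RTwoM

open Subgroup Cfsg Cfsg.Agent.Cit

open RG (WR CP Ov InO)
open RI (CS)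

variable {G : Type*} [Group G] {Om : Set (Subgroup G)} {K L M : Subgroup G} {a c d s t u v x y z g k n : G}

/-- (CENT) -/
def CENT (Om : Set (Subgroup G)) : Prop := ∀ (S : Sylow 2 G), ∀ x, InZ Om x → NCS Om (S : Subgroup G) x →
  ∀ s ∈ TT Om (S : Subgroup G), s ≠ 1 → ∀ y ∈ ZS Om s, x * y = y * x

/-- `Z ∩ C(z)` -/
def FF (Om : Set (Subgroup G)) (z : G) : Set G := {x | InZ Om x ∧ x * z = z * x}

/-- the `y` with the same `Z ∩ C(y)` -/
def DS (Om : Set (Subgroup G)) (z : G) : Set G := {y | InZ Om y ∧ FF Om y = FF Om z}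

section Fin

variable [Finite G]

/-- the J-ARGUMENT for `|T| > 4` -/
theorem JH.of_four {A T : Subgroup G} (j : JH Om A T x) (h : WM Om) (hT : 4 < Nat.card T) : T ≤ CX Om x := by
  rcases j.dich h with h1 | h1
  · exact h1.1
  exfalso
  have h3 : ∃ s ∈ T, ∃ t ∈ T, s ≠ 1 ∧ t ≠ 1 ∧ s ≠ t := by
    by_contra hcon
    push Not at hcon
    have hnt : Nontrivial T := Finite.one_lt_card_iff_nontrivial.1 (by omega)
    obtain ⟨s, hs⟩ := exists_ne (1 : T)
    have hs1 : (s : G) ≠ 1 := fun h2 => hs (Subtype.ext h2)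
    have h5 : (T : Set G) ⊆ ({1, (s : G)} : Set G) := by
      intro t ht
      by_cases ht1 : t = 1
      · exact Or.inl ht1
      · exact Or.inr (hcon s s.2 t ht hs1 ht1).symm
    have h6 := Set.ncard_le_ncard h5 (Set.toFinite _)
    have e1 := Set.ncard_insert_le (1 : G) {(s : G)}
    have e2 := Set.ncard_singleton (s : G)
    have h8 : Nat.card T = (T : Set G).ncard := rfl
    omega
  have jf : JF Om A T x := { j with ff := h1, three := h3 }
  obtain ⟨K, hK⟩ := j.inZ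
  obtain ⟨p, hp, s, hs, a, -, -, -, -, -, -, -, hall, -⟩ := jf.main h hK
  have hcl : ∀ t : T, (t : G) ∈ ({1, s, p, p * s} : Set G) := by
    intro t
    rcases hall t t.2 with h4 | h4 | h4 | h4 <;> rw [h4] <;> simp only [_root_.Set.mem_insert_iff, _root_.Set.mem_singleton_iff, _root_.true_or, _root_.right_eq_mul, _root_.or_true, _root_.left_eq_mul, _root_.mul_eq_right, _root_.mul_eq_left]
  have h5 : (T : Set G) ⊆ ({1, s, p, p * s} : Set G) := fun t ht => hcl ⟨t, ht⟩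
  have h6 := Set.ncard_le_ncard h5 (Set.toFinite _)
  have h7 : ({1, s, p, p * s} : Set G).ncard ≤ 4 := by
    have e1 := Set.ncard_insert_le (1 : G) {s, p, p * s}
    have e2 := Set.ncard_insert_le s {p, p * s}
    have e3 := Set.ncard_insert_le p {p * s}
    have e4 := Set.ncard_singleton (p * s)
    omega
  have h8 : Nat.card T = (T : Set G).ncard := rfl
  omega

theorem CS_subset_ZS' (h : WM Om) {S : Subgroup G} (hS : IsPGroup 2 S) (hz : z ∈ CS Om S) (hu : u ∈ CS Om S) :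
    u ∈ ZS Om z := CS_subset_ZS h hS (CS.mem_TT hz) hu

theorem FF_cj (h : WM Om) (g : G) : x ∈ FF Om z ↔ g * x * g⁻¹ ∈ FF Om (g * z * g⁻¹) := by
  have key : ∀ (g x z : G), x ∈ FF Om z → g * x * g⁻¹ ∈ FF Om (g * z * g⁻¹) := by
    rintro g x z ⟨hx, hc⟩
    refine ⟨hx.conj h g, ?_⟩
    calc g * x * g⁻¹ * (g * z * g⁻¹) = g * (x * z) * g⁻¹ := by group
      _ = g * (z * x) * g⁻¹ := by rw [hc]
      _ = _ := by group
  refine ⟨key g x z, fun h1 => ?_⟩
  have h2 := key g⁻¹ _ _ h1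
  rwa [inv_inv, show g⁻¹ * (g * x * g⁻¹) * g = x by group, show g⁻¹ * (g * z * g⁻¹) * g = z by group] at h2

theorem FF_image (h : WM Om) (g : G) : FF Om (g * z * g⁻¹) = (fun x => g * x * g⁻¹) '' FF Om z := by
  ext x
  constructor
  · intro hx
    refine ⟨g⁻¹ * x * g, ?_, by group⟩
    rw [FF_cj h g, show g * (g⁻¹ * x * g) * g⁻¹ = x by group]
    exact hx
  · rintro ⟨y, hy, rfl⟩
    exact (FF_cj h g).1 hy

theorem FF_ncard (h : WM Om) (cl : OneCl Om) (hz : InZ Om z) (hy : InZ Om y) : (FF Om y).ncard = (FF Om z).ncard := by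
  obtain ⟨g, rfl⟩ := cl z y hz hy
  rw [FF_image h, Set.ncard_image_of_injective _ (fun a b hab => mul_left_cancel (mul_right_cancel hab))]

namespace CENT

variable (ce : CENT Om)

include ce

/-- **(H)** -/
theorem comm_a0 (h : WM Om) (hz : InZ Om z) (hx : InZ Om x) (hc : x * z = z * x) (hy : y ∈ ZS Om z) : x * y = y * x := by
  obtain ⟨S, hS, hn⟩ := exists_NCS h hz hx hc.symm
  exact ce S x hx (NCS_of_mem h hn) z (CS.mem_TT hS) (hz.z1 h) y hy

theorem ncs (h : WM Om) {S : Sylow 2 G} (hz : z ∈ CS Om (S : Subgroup G)) (hx : InZ Om x) (hc : x * z = z * x) :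
    NCS Om (S : Subgroup G) x :=
  NCS_of_comm fun _ hu => ce.comm_a0 h (CS.inZ hz) hx hc (CS_subset_ZS' h S.isPGroup' hz hu)

/-- `Z ∩ C(y)` is constant on `Z(s)` -/
theorem FF_eq (h : WM Om) (cl : OneCl Om) {S : Sylow 2 G} (hz : z ∈ CS Om (S : Subgroup G))
    (hs : s ∈ TT Om (S : Subgroup G)) (hs1 : s ≠ 1) (hy : y ∈ ZS Om s) : FF Om y = FF Om z := by
  have h1 : FF Om z ⊆ FF Om y := fun x hx => ⟨hx.1, ce S x hx.1 (ce.ncs h hz hx.1 hx.2) s hs hs1 y hy⟩
  exact (Set.eq_of_subset_of_ncard_le h1 (le_of_eq (FF_ncard h cl (CS.inZ hz) hy.1)) (Set.toFinite _)).symm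

theorem mem_DS (h : WM Om) (cl : OneCl Om) {S : Sylow 2 G} (hz : z ∈ CS Om (S : Subgroup G))
    (hs : s ∈ TT Om (S : Subgroup G)) (hs1 : s ≠ 1) (hy : y ∈ ZS Om s) : y ∈ DS Om z :=
  ⟨hy.1, ce.FF_eq h cl hz hs hs1 hy⟩

theorem CS_sub (h : WM Om) (cl : OneCl Om) {S : Sylow 2 G} (hz : z ∈ CS Om (S : Subgroup G))
    (hu : u ∈ CS Om (S : Subgroup G)) : u ∈ DS Om z :=
  ce.mem_DS h cl hz (CS.mem_TT hz) ((CS.inZ hz).z1 h) (CS_subset_ZS' h S.isPGroup' hz hu)

omit ce in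
theorem DS_comm (hx : x ∈ DS Om z) (hy : y ∈ DS Om z) : x * y = y * x := by
  have h1 : x ∈ FF Om x := ⟨hx.1, rfl⟩
  rw [hx.2, ← hy.2] at h1
  exact h1.2

omit ce in
theorem cl_comm (hx : x ∈ _root_.Subgroup.closure (DS Om z)) (hy : y ∈ closure (DS Om z)) : x * y = y * x := by
  have h1 : _root_.Subgroup.closure (DS Om z) ≤ centralizer (closure (DS Om z) : Set G) := by
    rw [closure_le]
    intro a ha
    rw [SetLike.mem_coe, mem_centralizer_iff]
    have h2 : closure (DS Om z) ≤ centralizer {a} := by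
      rw [closure_le]
      intro b hb
      rw [SetLike.mem_coe, mem_centralizer_singleton_iff]
      exact DS_comm hb ha
    intro b hb
    exact mem_centralizer_singleton_iff.1 (h2 hb)
  exact ((mem_centralizer_iff.1 (h1 hx)) y hy).symm

omit ce in
theorem cl_sq (h : WM Om) (hx : x ∈ _root_.Subgroup.closure (DS Om z)) : x * x = 1 := by
  induction hx using closure_induction with
  | mem a ha => exact ha.1.z2 h
  | one => exact one_mul 1
  | mul a b ha hb iha ihb =>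
    have h1 := cl_comm ha hb
    calc a * b * (a * b) = a * (b * a) * b := by group
      _ = a * (a * b) * b := by rw [h1]
      _ = (a * a) * (b * b) := by group
      _ = 1 := by rw [iha, ihb, one_mul]
  | inv a ha iha => rw [← mul_inv_rev, iha, inv_one]

/-- `C(s)` normalises `⟨DS z⟩` -/
theorem norm (h : WM Om) (cl : OneCl Om) {S : Sylow 2 G} (hz : z ∈ CS Om (S : Subgroup G))
    (hs : s ∈ TT Om (S : Subgroup G)) (hs1 : s ≠ 1) (hc : g * s = s * g) (ha : a ∈ _root_.Subgroup.closure (DS Om z)) :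
    g * a * g⁻¹ ∈ closure (DS Om z) := by
  have hzs := CS_subset_ZS h S.isPGroup' hs hz
  have key : ∀ y ∈ DS Om z, g * y * g⁻¹ ∈ DS Om z := by
    rintro y ⟨hy, hyz⟩
    refine ⟨hy.conj h g, ?_⟩
    rw [FF_image h, hyz, ← FF_image h]
    exact ce.FF_eq h cl hz hs hs1 (ZS_conj h hzs hc)
  have h2 : _root_.Subgroup.closure (DS Om z) ≤ cj g⁻¹ (closure (DS Om z)) := by
    rw [closure_le]
    intro y hy
    rw [SetLike.mem_coe, mem_cj, inv_inv]
    exact _root_.Subgroup.subset_closure (key y hy)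
  have h3 := h2 ha
  rwa [mem_cj, inv_inv] at h3

end CENT

end Fin

end Cfsg.Agent.Cit.Nil.RTwoM
end

-- part: Cit/Nil/RTwoM/UPsi
section
/-!
# S1309, (6b), (C3), `r = 2`, any `m`, `LAMBDA0 ⟹ StarC` (helper762's uniform proof): definitions, (0.1), (0.2)

* `Psi Om S x`, `RotS Om S`, `CaseI Om`, `AA Om S`, `Free Om S x`, `OneA Om S x z u`, `OneC Om S x z u`;
* `exists_psi` (0.1) : `s ∈ T_S#`, `w ∈ Z(s)`, `x ∈ Z ∩ C(s) ∩ C(w)`: some `P` with `s ∈ T_P`, `w ∈ C_P`, `x ∈ Ψ_P`;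
* `exists_ncp` (0.2) : `y ∈ Z(s) - C_P`, `s ∈ T_P#`: `y` is not a C-partner of some element of `C_P`.
-/

set_option autoImplicit false
set_option linter.style.haveILetI false
set_option linter.unusedSectionVars false

namespace Cfsg.Agent.Cit.Nil.RTwoM

open Subgroup Cfsg Cfsg.Agent.Cit
open RG (WR CP Ov InO)
open RI (CS)

variable {G : Type*} [Group G] {Om : Set (Subgroup G)} {K L M X A : Subgroup G} {a c d s t u v w x y z g k n : G}

/-- `x ∈ Ψ_S` : `x ∈ Z` normalises `C_S` -/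
def Psi (Om : Set (Subgroup G)) (S : Subgroup G) (x : G) : Prop := InZ Om x ∧ NCS Om S x

/-- every member in `S` is rotated by `C(T_S)` -/
def RotS (Om : Set (Subgroup G)) (S : Subgroup G) : Prop :=
  ∀ z K, Mem Om z K → K ≤ S → ∃ c, Rot z K c ∧ ∀ t ∈ TT Om S, c * t = t * c

/-- the group generated by the `A(t)`, `t ∈ T_S#` -/
def AA (Om : Set (Subgroup G)) (S : Subgroup G) : Subgroup G := _root_.Subgroup.closure {y | ∃ t ∈ TT Om S, t ≠ 1 ∧ y ∈ ZS Om t}

/-- `T_x = 1` -/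
def Free (Om : Set (Subgroup G)) (S : Subgroup G) (x : G) : Prop := ∀ t ∈ TT Om S, t ∈ CX Om x → t = 1

/-- the exceptional type (1a) -/
structure OneA (Om : Set (Subgroup G)) (S : Subgroup G) (x z u : G) : Prop where
  hz : z ∈ CS Om S
  hu : u ∈ CS Om S
  ti : TI Om x z
  sw : Swp Om x u

/-- the exceptional type (1c) -/
structure OneC (Om : Set (Subgroup G)) (S : Subgroup G) (x z u : G) : Prop where
  hz : z ∈ CS Om S
  hu : u ∈ CS Om S
  ne : z ≠ u
  all : ∀ v ∈ CS Om S, v = z ∨ v = u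
  swz : Swp Om x z
  swu : Swp Om x u
  inn : ∃ K k, Mem Om x K ∧ k ∈ K ∧ k * k = x ∧ As K (z * u) k

section Fin

variable [Finite G]

theorem Psi.of_mem (h : WM Om) {S : Subgroup G} (hx : InZ Om x) (hxS : x ∈ S) : Psi Om S x := ⟨hx, NCS_of_mem h hxS⟩

theorem Psi.comm_TT (h : WM Om) (l0 : L0 Om) {S : Subgroup G} (hS : IsPGroup 2 S) (hx : Psi Om S x) (ht : t ∈ TT Om S) :
    x * t = t * x := comm_TT_of_NCS h l0 hS hx.1 hx.2 ht

/-- an element of `Z` commuting with `C_S` lies in `Ψ_S` -/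
theorem Psi.of_comm {S : Subgroup G} (hx : InZ Om x) (hc : ∀ z ∈ CS Om S, x * z = z * x) : Psi Om S x :=
  ⟨hx, NCS_of_comm hc⟩

/-- `Z(s) ⊆ Ψ_S` for `s ∈ T_S#` -/
theorem Psi.of_ZS (h : WM Om) (l0 : L0 Om) (an : ANT Om) (S : Sylow 2 G) (hs : s ∈ TT Om (S : Subgroup G)) (hs1 : s ≠ 1)
    (hy : y ∈ ZS Om s) : Psi Om (S : Subgroup G) y :=
  Psi.of_comm hy.1 fun _ hz => ZS_comm h l0 (an S s hs hs1) hy (CS_subset_ZS h S.isPGroup' hs hz)

/-- Sylow subgroups containing the members in `S` -/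
theorem CS_eq_of_le (h : WM Om) (S S' : Sylow 2 G)
    (hD : ∀ K ∈ Om, K ≤ (S : Subgroup G) → K ≤ (S' : Subgroup G)) :
    ∀ K ∈ Om, K ≤ (S' : Subgroup G) ↔ K ≤ (S : Subgroup G) := by
  haveI : Fact (Nat.Prime 2) := ⟨Nat.prime_two⟩
  obtain ⟨g, hg⟩ := MulAction.exists_smul_eq G S S'
  have hgS : (S' : Subgroup G) = cj g S := by
    rw [← hg]
    rfl
  have h1 := ncard_cj h g (S : Subgroup G)
  rw [← hgS] at h1
  have h2 : {K | K ∈ Om ∧ K ≤ (S : Subgroup G)} ⊆ {K | K ∈ Om ∧ K ≤ (S' : Subgroup G)} := fun K hK =>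
    ⟨hK.1, hD K hK.1 hK.2⟩
  have h3 : {K | K ∈ Om ∧ K ≤ (S : Subgroup G)} = {K | K ∈ Om ∧ K ≤ (S' : Subgroup G)} :=
    Set.eq_of_subset_of_ncard_le h2 (le_of_eq h1) (Set.toFinite _)
  intro K hK
  refine ⟨fun hKS => ?_, hD K hK⟩
  have h5 : K ∈ {K | K ∈ Om ∧ K ≤ (S : Subgroup G)} := by rw [h3]; exact ⟨hK, hKS⟩
  exact h5.2

theorem CS_congr (_ : WM Om) {S S' : Subgroup G} (hD : ∀ K ∈ Om, K ≤ S' ↔ K ≤ S) : CS Om S' = CS Om S := by
  ext z
  constructor
  · rintro ⟨K, hK, hKS⟩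
    exact ⟨K, hK, (hD K hK.1).1 hKS⟩
  · rintro ⟨K, hK, hKS⟩
    exact ⟨K, hK, (hD K hK.1).2 hKS⟩

/-- **(0.1)** -/
theorem exists_psi (h : WM Om) (S : Sylow 2 G) (hs : s ∈ TT Om (S : Subgroup G)) (hw : w ∈ ZS Om s)
    (hx : InZ Om x) (hxs : x * s = s * x) (hxw : x * w = w * x) :
    ∃ P : Sylow 2 G, s ∈ TT Om (P : Subgroup G) ∧ w ∈ CS Om (P : Subgroup G) ∧ x ∈ (P : Subgroup G) ∧
      Psi Om (P : Subgroup G) x := by
  haveI : Fact (Nat.Prime 2) := ⟨Nat.prime_two⟩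
  -- `R_w ⟨x⟩`
  have hR2 : IsPGroup 2 (RZ Om w) := by rw [← RR_eq]; exact h.wr.RR_two hw.1.zz
  have hx2 : IsPGroup 2 (zpowers x) := by
    refine IsPGroup.of_card (n := 1) ?_
    rw [Nat.card_zpowers, hx.orderOf h, pow_one]
  have hn : zpowers x ≤ normalizer (RZ Om w : Set G) := by
    rw [zpowers_le, mem_normalizer_iff]
    intro r
    refine ⟨fun hr => RZ_conj_comm h hxw hr, fun hr => ?_⟩
    have hc' : x⁻¹ * w = w * x⁻¹ := by rw [hx.inv h]; exact hxw
    have h1 := RZ_conj_comm h hc' hr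
    rwa [inv_inv, show x⁻¹ * (x * r * x⁻¹) * x = r by group] at h1
  have h1 : IsPGroup 2 (zpowers x ⊔ RZ Om w : Subgroup G) := hx2.to_sup_of_normal_right' hR2 hn
  have h2 : (zpowers x ⊔ RZ Om w : Subgroup G) ≤ centralizer {s} := by
    refine sup_le ?_ (RZ_le fun K hK => Mem.le_cent hK hw)
    rw [zpowers_le, mem_centralizer_singleton_iff]
    exact hxs
  obtain ⟨P1, hP1, hle1⟩ := exists_syl_ge h1 h2
  -- the members in `S`
  let D : Subgroup G := sSup {K | K ∈ Om ∧ K ≤ (S : Subgroup G)}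
  have hDS : D ≤ (S : Subgroup G) := sSup_le fun K hK => hK.2
  have hDs : D ≤ centralizer {s} := by
    refine sSup_le fun K hK => ?_
    have h3 : zz K ∈ CS Om (S : Subgroup G) := ⟨K, ⟨hK.1, rfl⟩, hK.2⟩
    exact Mem.le_cent (z := zz K) ⟨hK.1, rfl⟩ (CS_subset_ZS h S.isPGroup' hs h3)
  obtain ⟨P2, hP2, hle2⟩ := exists_syl_ge (S.isPGroup'.to_le hDS) hDs
  obtain ⟨S2, hS2⟩ := hP2.2.1.exists_le_sylow
  have hmem := CS_eq_of_le h S S2 fun K hK hKS =>
    ((le_sSup (show K ∈ {K | K ∈ Om ∧ K ≤ (S : Subgroup G)} from ⟨hK, hKS⟩)).trans hle2).trans hS2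
  have hCS := CS_congr h hmem
  have hTT : TT Om (S2 : Subgroup G) = TT Om (S : Subgroup G) := by rw [TT, TT, hCS]
  obtain ⟨c, hc, hcP⟩ := hP2.exists_conj hP1
  rw [mem_centralizer_singleton_iff] at hc
  refine ⟨c • S2, ?_, ?_, ?_, ?_⟩
  · change s ∈ TT Om (cj c (S2 : Subgroup G))
    rw [TT_cj h, hTT, mem_cj]
    have h3 : c⁻¹ * s * c = s := by rw [mul_assoc, ← hc, inv_mul_cancel_left]
    rw [h3]; exact hs
  · obtain ⟨K, hK⟩ := hw.1
    refine ⟨K, hK, ?_⟩
    change K ≤ cj c (S2 : Subgroup G)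
    have h3 : K ≤ P1 := (hK.le_RZ.trans le_sup_right).trans hle1
    rw [← hcP] at h3
    exact h3.trans (cj_mono c hS2)
  · change x ∈ cj c (S2 : Subgroup G)
    have h3 : x ∈ P1 := hle1 (mem_sup_left (mem_zpowers x))
    rw [← hcP] at h3
    exact cj_mono c hS2 h3
  · refine Psi.of_mem h hx ?_
    change x ∈ cj c (S2 : Subgroup G)
    have h3 : x ∈ P1 := hle1 (mem_sup_left (mem_zpowers x))
    rw [← hcP] at h3
    exact cj_mono c hS2 h3

/-- **(0.2)** -/
theorem exists_ncp (h : WM Om) (S : Sylow 2 G) (hy : InZ Om y) (hn : y ∉ CS Om (S : Subgroup G)) :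
    ∃ w ∈ CS Om (S : Subgroup G), w ≠ y ∧ ¬ CP Om w y := by
  by_contra hcon
  push Not at hcon
  refine hn (mem_CS_of_clique h S hy fun w hw => ?_)
  by_cases hwy : w = y
  · exact Or.inl hwy
  · exact Or.inr (hcon w hw hwy)

end Fin

end Cfsg.Agent.Cit.Nil.RTwoM
end

-- part: Cit/Nil/RTwoM/UEnd
section
/-!
# S1309, (6b), (C3), `r = 2`, any `m`, `LAMBDA0 ⟹ StarC` (helper762's uniform proof), section 6

* `RZero Om`, `ROneA Om` : the statements (R0), (R1a);
* `OneC.exists_two` : (R1c), the form for section 6;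
* **`StarC.of_r0`** : `CENT`, (R0), (R1a) imply `StarC`.
-/

set_option autoImplicit false
set_option linter.style.haveILetI false
set_option linter.unusedSectionVars false

namespace Cfsg.Agent.Cit.Nil.RTwoM

open Subgroup Cfsg Cfsg.Agent.Cit
open RG (WR CP Ov InO)
open RI (CS)

variable {G : Type*} [Group G] {Om : Set (Subgroup G)} {K L M X A : Subgroup G} {a c d s t u v w x y z g k n : G}

/-- (R0) -/
def RZero (Om : Set (Subgroup G)) : Prop := ∀ (S : Sylow 2 G) (x : G), Psi Om (S : Subgroup G) x →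
  Free Om (S : Subgroup G) x → x ∈ AA Om (S : Subgroup G) ∨ (Nat.card (TT Om (S : Subgroup G)) = 4 ∧
    ((∃ z u, OneA Om (S : Subgroup G) x z u) ∨ ∃ z u, OneC Om (S : Subgroup G) x z u))

/-- (R1a), the form for section 6 -/
def ROneA (Om : Set (Subgroup G)) : Prop := ∀ (S : Sylow 2 G) (x z u : G), Psi Om (S : Subgroup G) x →
  Nat.card (TT Om (S : Subgroup G)) = 4 → OneA Om (S : Subgroup G) x z u →
    x ∈ AA Om (S : Subgroup G) ∨ ∃ y, InZ Om y ∧ CP Om z y ∧ z * y ∈ CX Om x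

section Fin

variable [Finite G]

theorem Swp.not_cases (hs : Swp Om x z) (h : WM Om) (hx : InZ Om x) (hz : InZ Om z) :
    ¬ (z = x ∨ CP Om z x ∨ TI Om z x) := by
  have hO : Out Om x z := ⟨hs.1, Or.inl hs⟩
  have hni := hO.not_inn h hx
  rintro (h1 | h1 | h1)
  · rw [h1] at hs
    obtain ⟨K, hK⟩ := hx
    exact hs.2 K hK (mem_normalizer_iff_cj.1 (le_normalizer (hK.zmem h)))
  · exact hni (inn_of_cp h hz h1.symm)
  · exact hni (h1.symm h).inn

/-- **(R1c)** -/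
theorem OneC.exists_two {S : Subgroup G} (o : OneC Om S x z u) (h : WM Om) (hS : IsPGroup 2 S) :
    ∃ k1 k2 z2, z2 = k2 * z * k2⁻¹ ∧ Psi Om S z2 ∧ k1 * (z * u) = (z * u) * k1 ∧
      k1 * (z * z2) * k1⁻¹ = x * (z * z2) ∧ ∀ K2, Mem Om z2 K2 → ∀ a, ¬ As K2 (z * u) a := by
  obtain ⟨K, k1, hK, hk1, hkk, hAs⟩ := o.inn
  have hzZ := CS.inZ o.hz
  have huZ := CS.inZ o.hu
  have hzz := hzZ.z2 h
  have hzu : z * u = u * z := CS.comm o.hz h hS o.hu
  obtain ⟨k2, hk2, hkk2, hne⟩ := hK.exists_nc h hk1 hkk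
  have hx := hK.inZ
  have hxx := hx.z2 h
  have hxz : z * x = x * z := o.swz.1
  have hxu : u * x = x * u := o.swu.1
  have hxk : ∀ k ∈ K, k * x = x * k := fun k hk => hK.comm_z h hk
  -- `(zu) k₂ (zu)⁻¹ = x k₂`
  have e1 : (z * u) * k2 * (z * u)⁻¹ = x * k2 := by
    rw [hAs.2 k2 hk2]
    exact hK.anti h hk2 hkk2 hk1 hkk (fun h1 => hne h1.symm)
  -- the element of `K^z`
  have hl : z * k2 * z⁻¹ ∈ cj z K := conj_mem_cj hk2
  have hcm : ∀ k ∈ K, k * (z * k2 * z⁻¹) = (z * k2 * z⁻¹) * k := fun k hk => o.swz.cm h hK hk hk2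
  have hzi : z⁻¹ = z := hzZ.inv h
  have hk2i : k2⁻¹ = x * k2 := hK.inv_eq h hk2 hkk2
  obtain ⟨g2, hg2⟩ : ∃ g2, g2 = (z * k2 * z⁻¹) * k2⁻¹ := ⟨_, rfl⟩
  have e2 : z * (k2 * z * k2⁻¹) = g2 := by rw [hg2, hzi]; group
  have e3 : k1 * g2 * k1⁻¹ = x * g2 := by
    have h1 : k1 * k2⁻¹ * k1⁻¹ = x * k2⁻¹ := by
      have h2 : k1 * k2 * k1⁻¹ = x * k2 := hK.anti h hk2 hkk2 hk1 hkk (fun h1 => hne h1.symm)
      rw [hk2i]
      calc k1 * (x * k2) * k1⁻¹ = (k1 * x) * k2 * k1⁻¹ := by group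
        _ = (x * k1) * k2 * k1⁻¹ := by rw [hxk k1 hk1]
        _ = x * (k1 * k2 * k1⁻¹) := by group
        _ = _ := by rw [h2]
    calc k1 * g2 * k1⁻¹ = (k1 * (z * k2 * z⁻¹)) * k2⁻¹ * k1⁻¹ := by rw [hg2]; group
      _ = ((z * k2 * z⁻¹) * k1) * k2⁻¹ * k1⁻¹ := by rw [hcm k1 hk1]
      _ = (z * k2 * z⁻¹) * (k1 * k2⁻¹ * k1⁻¹) := by group
      _ = (z * k2 * z⁻¹) * (x * k2⁻¹) := by rw [h1]
      _ = ((z * k2 * z⁻¹) * x) * k2⁻¹ := by group
      _ = (x * (z * k2 * z⁻¹)) * k2⁻¹ := by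
          have h3 : (z * k2 * z⁻¹) * x = x * (z * k2 * z⁻¹) := (o.swz.mem h hK).comm_z h hl
          rw [h3]
      _ = x * g2 := by rw [hg2]; group
  refine ⟨k1, k2, k2 * z * k2⁻¹, rfl, ?_, hAs.comm.symm, ?_, ?_⟩
  · -- `z₂` commutes with `z`, `u`
    have hc1 : (k2 * z * k2⁻¹) * z = z * (k2 * z * k2⁻¹) := by
      have h1 := hcm k2 hk2
      have h2 : k2⁻¹ * (z * k2 * z⁻¹) = (z * k2 * z⁻¹) * k2⁻¹ := by
        rw [inv_mul_eq_iff_eq_mul, ← mul_assoc, h1, mul_inv_cancel_right]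
      have hLz : Mem Om x (cj z K) := o.swz.mem h hK
      have hlz : (z * k2 * z⁻¹) * (z * k2 * z⁻¹) = x := by
        calc (z * k2 * z⁻¹) * (z * k2 * z⁻¹) = z * (k2 * k2) * z⁻¹ := by group
          _ = x := by rw [hkk2, hxz, mul_inv_cancel_right]
      have hli : (z * k2 * z⁻¹)⁻¹ = x * (z * k2 * z⁻¹) := hLz.inv_eq h hl hlz
      rw [hzi] at h1 h2 hli hlz
      have hk2x : k2 * x = x * k2 := hxk k2 hk2
      calc (k2 * z * k2⁻¹) * z = k2 * (z * k2⁻¹ * z) := by group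
        _ = k2 * (z * k2 * z)⁻¹ := by
            rw [show (z * k2 * z)⁻¹ = z⁻¹ * k2⁻¹ * z⁻¹ by group, hzi]
        _ = k2 * (x * (z * k2 * z)) := by rw [hli]
        _ = x * (k2 * (z * k2 * z)) := by rw [← mul_assoc, hk2x, mul_assoc]
        _ = x * ((z * k2 * z) * k2) := by rw [h1]
        _ = (z * k2 * z) * (x * k2) := by
            have h3 : (z * k2 * z) * x = x * (z * k2 * z) := by
              have := hLz.comm_z h hl
              rwa [hzi] at this
            rw [← mul_assoc, ← h3, mul_assoc]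
        _ = (z * k2 * z) * k2⁻¹ := by rw [hk2i]
        _ = z * (k2 * z * k2⁻¹) := by group
    have hc2 : (k2 * z * k2⁻¹) * (z * u) = (z * u) * (k2 * z * k2⁻¹) := by
      have h1 : (z * u) * (k2 * z * k2⁻¹) * (z * u)⁻¹ = k2 * z * k2⁻¹ := by
        have h2 : (z * u) * z * (z * u)⁻¹ = z := by
          rw [show (z * u) * z * (z * u)⁻¹ = z * (u * z) * (z * u)⁻¹ by group, ← hzu]
          group
        calc (z * u) * (k2 * z * k2⁻¹) * (z * u)⁻¹
            = ((z * u) * k2 * (z * u)⁻¹) * ((z * u) * z * (z * u)⁻¹) * ((z * u) * k2 * (z * u)⁻¹)⁻¹ := by group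
          _ = (x * k2) * z * (x * k2)⁻¹ := by rw [e1, h2]
          _ = (k2 * x) * z * (k2 * x)⁻¹ := by rw [hxk k2 hk2]
          _ = k2 * (x * z * x⁻¹) * k2⁻¹ := by group
          _ = k2 * z * k2⁻¹ := by rw [← hxz, mul_inv_cancel_right]
      rw [mul_inv_eq_iff_eq_mul] at h1
      exact h1.symm
    refine Psi.of_comm (hzZ.conj h k2) fun v hv => ?_
    rcases o.all v hv with rfl | rfl
    · exact hc1
    · have h3 : v = z * (z * v) := by rw [← mul_assoc, hzz, one_mul]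
      calc (k2 * z * k2⁻¹) * v = (k2 * z * k2⁻¹) * (z * (z * v)) := by rw [← h3]
        _ = ((k2 * z * k2⁻¹) * z) * (z * v) := by group
        _ = (z * (k2 * z * k2⁻¹)) * (z * v) := by rw [hc1]
        _ = z * ((k2 * z * k2⁻¹) * (z * v)) := by group
        _ = z * ((z * v) * (k2 * z * k2⁻¹)) := by rw [hc2]
        _ = (z * (z * v)) * (k2 * z * k2⁻¹) := by group
        _ = _ := by rw [← h3]
  · rw [e2]; exact e3
  · -- `z u` acts on the members over `z₂` as `x` on those over `z`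
    intro K2 hK2 b hb
    have h1 := hb.conj k2⁻¹
    have hM : Mem Om z (cj k2⁻¹ K2) := by
      have h2 := hK2.cj h k2⁻¹
      rwa [inv_inv, show k2⁻¹ * (k2 * z * k2⁻¹) * k2 = z by group] at h2
    have e4 : k2⁻¹ * (z * u) * k2⁻¹⁻¹ = x * (z * u) := by
      rw [inv_inv]
      have h2 : (z * u) * k2 = x * k2 * (z * u) := by rw [← e1]; group
      calc k2⁻¹ * (z * u) * k2 = k2⁻¹ * ((z * u) * k2) := by group
        _ = k2⁻¹ * (x * k2 * (z * u)) := by rw [h2]
        _ = k2⁻¹ * (k2 * x * (z * u)) := by rw [hxk k2 hk2]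
        _ = x * (z * u) := by group
    rw [e4] at h1
    have hz1 : As (cj k2⁻¹ K2) z 1 := hM.as_z h
    have hu1 : As (cj k2⁻¹ K2) u 1 := by
      rw [As.one_iff]
      have hcp : CP Om z u := CS.cp o.hz h hS o.hu o.ne
      exact mem_CX.1 (cp_cx h huZ hcp) _ hM
    have h3 := h1.mul ((hz1.mul hu1).inv)
    rw [mul_inv_cancel_right, one_mul, inv_one, mul_one] at h3
    -- `x` is inner on a member over `z`
    refine o.swz.not_cases h hx hzZ (inn_cases h hM hx fun k hk => ?_)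
    rw [h3.2 k hk]
    exact hM.comm_or h hk h3.1

namespace StarC

/-- **the end of CASE I** -/
theorem of_r0 (ce : CENT Om) (r0 : RZero Om) (r1 : ROneA Om) (h : WM Om) (cl : OneCl Om) : StarC Om := by
  intro S x y hx hy hxS hyS
  by_cases hne : ∃ z, z ∈ CS Om (S : Subgroup G)
  swap
  · exfalso
    obtain ⟨S', hS'⟩ := exists_sylow h hx
    obtain ⟨g, hg⟩ := MulAction.exists_smul_eq G S' S
    have hgS : (S : Subgroup G) = cj g S' := by
      rw [← hg]
      rfl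
    have h1 := cj_CS h g hS'
    rw [← hgS] at h1
    exact hne ⟨_, h1⟩
  obtain ⟨z0, hz0⟩ := hne
  -- facts on `F` and `D`
  have hFc : ∀ f ∈ FF Om z0, ∀ a ∈ _root_.Subgroup.closure (DS Om z0), f * a = a * f := by
    intro f hf
    have h2 : closure (DS Om z0) ≤ centralizer {f} := by
      rw [closure_le]
      intro b hb
      rw [SetLike.mem_coe, mem_centralizer_singleton_iff]
      have h3 : f ∈ FF Om b := by rw [hb.2]; exact hf
      exact h3.2.symm
    exact fun a ha => (mem_centralizer_singleton_iff.1 (h2 ha)).symm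
  have hnot : ∀ x, InZ Om x → x ∉ DS Om z0 → x ∉ closure (DS Om z0) := by
    intro x hx hxD hxA
    apply hxD
    have h1 : FF Om z0 ⊆ FF Om x := fun f hf => ⟨hf.1, hFc f hf x hxA⟩
    exact ⟨hx, (Set.eq_of_subset_of_ncard_le h1 (le_of_eq (FF_ncard h cl (CS.inZ hz0) hx)) (Set.toFinite _)).symm⟩
  have hZs : ∀ t ∈ TT Om (S : Subgroup G), t ≠ 1 → ∀ y ∈ ZS Om t, y ∈ DS Om z0 := fun t ht ht1 y hy =>
    ce.mem_DS h cl hz0 ht ht1 hy
  -- `x ∈ Ψ - D` is of type (1c)
  have key : ∀ x, Psi Om (S : Subgroup G) x → x ∉ DS Om z0 → ∃ z u, OneC Om (S : Subgroup G) x z u := by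
    intro x hxP hxD
    have hxA := hnot x hxP.1 hxD
    have hfree : Free Om (S : Subgroup G) x := by
      intro t ht htx
      by_contra ht1
      exact hxD (hZs t ht ht1 x ⟨hxP.1, htx⟩)
    have hAA : x ∉ AA Om (S : Subgroup G) := by
      intro h1
      apply hxA
      have h2 : AA Om (S : Subgroup G) ≤ closure (DS Om z0) := by
        rw [AA, closure_le]
        rintro y ⟨t, ht, ht1, hy⟩
        exact _root_.Subgroup.subset_closure (hZs t ht ht1 y hy)
      exact h2 h1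
    rcases r0 S x hxP hfree with h1 | ⟨h4, ⟨z, u, o⟩ | h1⟩
    · exact absurd h1 hAA
    · exfalso
      obtain ⟨y, hyZ, hcp, hzy⟩ := (r1 S x z u hxP h4 o).resolve_left hAA
      have hzZ := CS.inZ o.hz
      obtain ⟨P, hzP, hyP⟩ := exists_sylow_of_cp h hzZ hyZ hcp
      have hs : z * y ∈ TT Om (P : Subgroup G) := mul_mem (CS.mem_TT hzP) (CS.mem_TT hyP)
      have hs1 : z * y ≠ 1 := by
        intro h2
        apply hcp.1
        rw [eq_inv_of_mul_eq_one_left h2, hyZ.inv h]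
      have h2 : FF Om x = FF Om z := ce.FF_eq h cl hzP hs hs1 ⟨hxP.1, hzy⟩
      have h3 := ce.CS_sub h cl hz0 o.hz
      exact hxD ⟨hxP.1, h2.trans h3.2⟩
    · exact h1
  have hall : ∀ x, Psi Om (S : Subgroup G) x → x ∈ DS Om z0 := by
    intro x hxP
    by_contra hxD
    obtain ⟨z, u, o⟩ := key x hxP hxD
    have hxA := hnot x hxP.1 hxD
    obtain ⟨k1, k2, z2, -, hz2P, hk1, hk1g, hno⟩ := o.exists_two h S.isPGroup'
    have hzu : z * u = u * z := CS.comm o.hz h S.isPGroup' o.hu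
    have hs : z * u ∈ TT Om (S : Subgroup G) := mul_mem (CS.mem_TT o.hz) (CS.mem_TT o.hu)
    have hs1 : z * u ≠ 1 := by
      intro h2
      apply o.ne
      rw [eq_inv_of_mul_eq_one_left h2, (CS.inZ o.hu).inv h]
    have hz2D : z2 ∉ DS Om z0 := by
      intro h1
      apply hxA
      have h2 : z * z2 ∈ closure (DS Om z0) :=
        mul_mem (_root_.Subgroup.subset_closure (ce.CS_sub h cl hz0 o.hz)) (_root_.Subgroup.subset_closure h1)
      have h3 := ce.norm h cl hz0 hs hs1 hk1 h2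
      rw [hk1g] at h3
      have h4 := mul_mem h3 (inv_mem h2)
      rwa [mul_inv_cancel_right] at h4
    obtain ⟨z', u', o'⟩ := key z2 hz2P hz2D
    have hzu' : z' * u' = z * u := by
      rcases o.all z' o'.hz with h1 | h1 <;> rcases o.all u' o'.hu with h2 | h2
      · exact absurd (h1.trans h2.symm) o'.ne
      · rw [h1, h2]
      · rw [h1, h2, hzu]
      · exact absurd (h1.trans h2.symm) o'.ne
    obtain ⟨K2, b, hK2, -, -, hb⟩ := o'.inn
    rw [hzu'] at hb
    exact hno K2 hK2 b hb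
  exact CENT.DS_comm (hall x ⟨hx, hxS⟩) (hall y ⟨hy, hyS⟩)

end StarC

end Fin

end Cfsg.Agent.Cit.Nil.RTwoM
end

-- part: Cit/Nil/RTwoM/U/RegDef
section
/-!
# S1309, (6b), (C3), `r = 2`, any `m`, `LAMBDA0`: the interface between 4.1 and 5.1 (helper762's text)

* `RegSW Om` : over each `w ∈ C_P` there is a self-centralising `B ≤ R_w` which `Z ∩ C(T_P)` centralises.
-/

set_option autoImplicit false

namespace Cfsg.Agent.Cit.Nil.RTwoM

open Subgroup Cfsg Cfsg.Agent.Cit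
open RI (CS)

variable {G : Type*} [Group G]

/-- world SW: the elements of `Z` normalising `C_P` centralise a self-centralising subgroup of `R_w`, `w ∈ C_P` -/
def RegSW (Om : Set (Subgroup G)) : Prop := ∀ (P : Sylow 2 G), ∀ w ∈ CS Om (P : Subgroup G), ∃ B : Subgroup G,
  B ≤ RZ Om w ∧ (∀ r ∈ RZ Om w, (∀ b ∈ B, r * b = b * r) → r ∈ B) ∧
    ∀ x, InZ Om x → NCS Om (P : Subgroup G) x → ∀ b ∈ B, x * b = b * x

end Cfsg.Agent.Cit.Nil.RTwoM
end

-- part: Cit/Nil/RTwoM/RZero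
section
/-!
# S1309, (6b), (C3), `r = 2`, any `m`: (R0) of helper762 (#19890): the J-ARGUMENT with `A(t)` depending on `t`

* `JG Om A T x` : `A t` elementary abelian, `T ≤ A t`, normalised by `C_{R_x}(t)`, `x ∉ A(s) A(t)` (`s, t ∈ T#`);
* `JG.comm_mem`, `JG.ne_x`, `JG.comm`, `JG.dich`; `JGF` : faithful, at least 3 elements; **`JGF.main`**, `JGF.card_le`;
* **`r_zero`** (R0) for `A t = NZ Om t`.
-/

set_option autoImplicit false
set_option linter.style.haveILetI false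
set_option linter.unusedSectionVars false

namespace Cfsg.Agent.Cit.Nil.RTwoM

open Subgroup Cfsg Cfsg.Agent.Cit

open RTwo (Q3)
open RG (WR CP Ov InO Tr)
open RI (CS)

variable {G : Type*} [Group G] {Om : Set (Subgroup G)} {K L M : Subgroup G}
  {a b c d e g k l n q r s t u v w x y z : G}

section Fin

variable [Finite G]

/-- the hypotheses of the J-ARGUMENT, `A` depending on `t` -/
structure JG (Om : Set (Subgroup G)) (A : G → Subgroup G) (T : Subgroup G) (x : G) : Prop where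
  inZ : InZ Om x
  comm' : ∀ t ∈ T, t ≠ 1 → ∀ a ∈ A t, ∀ b ∈ A t, a * b = b * a
  sq' : ∀ t ∈ T, t ≠ 1 → ∀ a ∈ A t, a * a = 1
  nin : ∀ s ∈ T, s ≠ 1 → ∀ t ∈ T, t ≠ 1 → ∀ a ∈ A s, ∀ b ∈ A t, x ≠ a * b
  le : ∀ t ∈ T, t ≠ 1 → T ≤ A t
  tx : ∀ t ∈ T, t * x = x * t
  nor : ∀ t ∈ T, t ≠ 1 → ∀ r ∈ RZ Om x, t * r = r * t → ∀ a ∈ A t, r * a * r⁻¹ ∈ A t

variable {A : G → Subgroup G} {T : Subgroup G}

theorem JG.nin' (j : JG Om A T x) (ht : t ∈ T) (ht1 : t ≠ 1) : x ∉ A t := fun h1 =>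
  j.nin t ht ht1 t ht ht1 x h1 1 (one_mem _) (mul_one x).symm

theorem JG.sq (j : JG Om A T x) (ht : t ∈ T) : t * t = 1 := by
  by_cases ht1 : t = 1
  · rw [ht1, one_mul]
  · exact j.sq' t ht ht1 t (j.le t ht ht1 ht)

theorem JG.inv (j : JG Om A T x) (ht : t ∈ T) : t⁻¹ = t := inv_eq_of_mul_eq_one_right (j.sq ht)

theorem JG.cm (j : JG Om A T x) (hs : s ∈ T) (ht : t ∈ T) : s * t = t * s := by
  by_cases ht1 : t = 1
  · rw [ht1, one_mul, mul_one]
  · exact j.comm' t ht ht1 s (j.le t ht ht1 hs) t (j.le t ht ht1 ht)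

/-- `[T, C_{R_x}(t)] ≤ A t ⊓ R_x` -/
theorem JG.comm_mem (j : JG Om A T x) (h : WM Om) (ht : t ∈ T) (ht1 : t ≠ 1) (hr : r ∈ RZ Om x) (hc : t * r = r * t)
    (hs : s ∈ T) : s * r * s⁻¹ * r⁻¹ ∈ A t ∧ s * r * s⁻¹ * r⁻¹ ∈ RZ Om x := by
  constructor
  · have h1 := j.nor t ht ht1 r hr hc s⁻¹ (j.le t ht ht1 (inv_mem hs))
    have h2 : s * r * s⁻¹ * r⁻¹ = s * (r * s⁻¹ * r⁻¹) := by group
    rw [h2]
    exact mul_mem (j.le t ht ht1 hs) h1
  · exact mul_mem (RZ_conj_comm h (j.tx s hs) hr) (inv_mem hr)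

/-- `t` moves no `r ∈ C_{R_x}(s)` to `x r` -/
theorem JG.ne_x (j : JG Om A T x) (h : WM Om) (ht : t ∈ T) (ht1 : t ≠ 1) (hr : r ∈ RZ Om x) (hc : t * r = r * t)
    (hs : s ∈ T) : s * r * s⁻¹ ≠ x * r := by
  intro h1
  have h2 := (j.comm_mem h ht ht1 hr hc hs).1
  rw [h1, mul_inv_cancel_right] at h2
  exact j.nin' ht ht1 h2

/-- `A t ⊓ R_x` centralises `C_{R_x}(t)` -/
theorem JG.comm (j : JG Om A T x) (h : WM Om) (ht : t ∈ T) (ht1 : t ≠ 1) (hr : r ∈ RZ Om x) (hc : t * r = r * t)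
    (hg : g ∈ A t) (hgx : g ∈ RZ Om x) : r * g = g * r := by
  have h1 := j.nor t ht ht1 r hr hc g hg
  rcases RZ_commutator h j.inZ hgx hr with h2 | h2
  · rw [← mul_inv_eq_iff_eq_mul, h2]
  · exfalso
    rw [h2] at h1
    apply j.nin' ht ht1
    have := mul_mem h1 (inv_mem hg)
    rwa [mul_inv_cancel_right] at this

/-- an element of `A t ⊓ K` is `1` -/
theorem JG.eq_one (j : JG Om A T x) (h : WM Om) (ht : t ∈ T) (ht1 : t ≠ 1) (hK : Mem Om x K) (hg : g ∈ A t)
    (hgK : g ∈ K) : g = 1 := by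
  rcases hK.sq_cases h hgK with h1 | h1 | h1
  · exact h1
  · rw [h1] at hg; exact absurd hg (j.nin' ht ht1)
  · rw [j.sq' t ht ht1 g hg] at h1
    exact absurd h1.symm (j.inZ.z1 h)

/-- **the dichotomy** : `T` centralises `R_x`, or `T` acts faithfully on `R_x` -/
theorem JG.dich (j : JG Om A T x) (h : WM Om) :
    (T ≤ CX Om x ∧ ∀ t ∈ T, t ≠ 1 → ∀ g ∈ A t, g ∈ RZ Om x → g = 1) ∨ ∀ t ∈ T, t ∈ CX Om x → t = 1 := by
  by_cases h0 : ∀ t ∈ T, t ∈ CX Om x → t = 1
  · exact Or.inr h0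
  left
  push Not at h0
  obtain ⟨t, ht, htx, ht1⟩ := h0
  have hJ : ∀ t ∈ T, t ≠ 1 → t ∈ CX Om x → ∀ g ∈ A t, g ∈ RZ Om x → g = 1 := by
    intro t ht ht1 htx g hg hgx
    have h1 : g ∈ CX Om x := by
      rw [mem_CX]
      intro K hK k hk
      exact (j.comm h ht ht1 (hK.le_RZ hk) (CX_comm (hK.le_RZ hk) htx) hg hgx).symm
    rcases RZ_CX h j.inZ hgx h1 with h2 | h2
    · exact h2
    · rw [h2] at hg; exact absurd hg (j.nin' ht ht1)
  have hle : T ≤ CX Om x := by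
    intro s hs
    rw [mem_CX]
    intro K hK k hk
    obtain ⟨h1, h2⟩ := j.comm_mem h ht ht1 (hK.le_RZ hk) (CX_comm (hK.le_RZ hk) htx) hs
    have h3 := hJ t ht ht1 htx _ h1 h2
    rw [mul_inv_eq_one, mul_inv_eq_iff_eq_mul] at h3
    exact h3
  exact ⟨hle, fun t ht ht1 g hg hgx => hJ t ht ht1 (hle ht) g hg hgx⟩

/-- `T` acts faithfully on `R_x` and has at least three elements -/
structure JGF (Om : Set (Subgroup G)) (A : G → Subgroup G) (T : Subgroup G) (x : G) : Prop extends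
    JG Om A T x where
  ff : ∀ t ∈ T, t ∈ CX Om x → t = 1
  three : ∃ s ∈ T, ∃ t ∈ T, s ≠ 1 ∧ t ≠ 1 ∧ s ≠ t

/-- a transposition on `K` inverts its axis, so do the other `s ∈ T#` fixing `K` -/
theorem JG.axis (j : JG Om A T x) (h : WM Om) (hK : Mem Om x K) (ht : t ∈ T) (ha : Tr t K a) (hs : s ∈ T) (hs1 : s ≠ 1)
    (hsK : cj s K = K) : s * a * s⁻¹ = x * a := by
  have hst := j.cm hs ht
  have hsx := j.tx s hs
  have haa := Tr.sq' ha hK
  have hm : s * a * s⁻¹ ∈ K := by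
    have := conj_mem_cj (g := s) ha.mem
    rwa [hsK] at this
  have h1 : t * (s * a * s⁻¹) * t⁻¹ = x * (s * a * s⁻¹) := by
    calc t * (s * a * s⁻¹) * t⁻¹ = (t * s) * a * (t * s)⁻¹ := by group
      _ = (s * t) * a * (s * t)⁻¹ := by rw [hst]
      _ = s * (t * a * t⁻¹) * s⁻¹ := by group
      _ = s * (x * a) * s⁻¹ := by rw [Tr.inv' ha hK h]
      _ = (s * x) * a * s⁻¹ := by group
      _ = _ := by rw [hsx]; group
  have h2 : (s * a * s⁻¹) * (s * a * s⁻¹) = x := by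
    calc (s * a * s⁻¹) * (s * a * s⁻¹) = s * (a * a) * s⁻¹ := by group
      _ = x := by rw [haa, hsx, mul_inv_cancel_right]
  rcases Tr.cases ha hK h hm (Or.inr h1) with h4 | h4 | h4 | h4
  · rw [h4, one_mul] at h2; exact absurd h2.symm (hK.inZ.z1 h)
  · rw [h4, hK.inZ.z2 h] at h2; exact absurd h2.symm (hK.inZ.z1 h)
  · exfalso
    have h5 : s * a = a * s := by rw [← mul_inv_eq_iff_eq_mul, h4]
    exact j.ne_x h hs hs1 (hK.le_RZ ha.mem) h5 ht (Tr.inv' ha hK h)
  · exact h4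

/-- if `t ∈ T` is a transposition on `K`, the elements of `T` fixing `K` are `1` and `t` -/
theorem JG.fix_of_tr (j : JG Om A T x) (h : WM Om) (hK : Mem Om x K) (ht : t ∈ T) (ht1 : t ≠ 1) (htK : cj t K = K)
    (ha : Tr t K a) (hs : s ∈ T) (hsK : cj s K = K) : s = 1 ∨ s = t := by
  by_contra hcon
  push Not at hcon
  have haa := Tr.sq' ha hK
  have h1 := j.axis h hK ht ha hs hcon.1 hsK
  have h2 : s * t ≠ 1 := by
    intro h3
    apply hcon.2
    rw [eq_inv_of_mul_eq_one_left h3, j.inv ht]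
  have h3 : (s * t) * a * (s * t)⁻¹ = a := by
    calc (s * t) * a * (s * t)⁻¹ = s * (t * a * t⁻¹) * s⁻¹ := by group
      _ = s * (x * a) * s⁻¹ := by rw [Tr.inv' ha hK h]
      _ = (s * x) * a * s⁻¹ := by group
      _ = (x * s) * a * s⁻¹ := by rw [j.tx s hs]
      _ = x * (s * a * s⁻¹) := by group
      _ = x * (x * a) := by rw [h1]
      _ = a := by rw [← mul_assoc, hK.inZ.z2 h, one_mul]
  rw [mul_inv_eq_iff_eq_mul] at h3
  exact j.ne_x h (mul_mem hs ht) h2 (hK.le_RZ ha.mem) h3 ht (Tr.inv' ha hK h)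

/-- **no element of `T` is outer on a member it fixes** -/
theorem JGF.no_tr (j : JGF Om A T x) (h : WM Om) (hK : Mem Om x K) (ht : t ∈ T) (htK : cj t K = K)
    (ha : Tr t K a) : False := by
  have jh := j.toJG
  have ht1 : t ≠ 1 := by
    rintro rfl
    have h1 := Tr.inv' ha hK h
    rw [one_mul, inv_one, mul_one] at h1
    exact hK.inZ.z1 h (mul_eq_right.1 h1.symm)
  obtain ⟨p, hp, hp1, hpt⟩ : ∃ p ∈ T, p ≠ 1 ∧ p ≠ t := by
    obtain ⟨s, hs, s', hs', h1, h2, h3⟩ := j.three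
    by_cases h4 : s = t
    · exact ⟨s', hs', h2, fun h5 => h3 (h4.trans h5.symm)⟩
    · exact ⟨s, hs, h1, h4⟩
  have hpK : cj p K ≠ K := fun h1 => by
    rcases jh.fix_of_tr h hK ht ht1 htK ha hp h1 with h2 | h2
    · exact hp1 h2
    · exact hpt h2
  have hsw : Swp Om x p := Swp.of_one h hK (j.tx p hp) hpK
  have hpp := j.sq hp
  have htt := j.sq ht
  have htp := j.cm ht hp
  have haa := Tr.sq' ha hK
  have hsw' : Swp Om x (p * t) := by
    refine Swp.of_one h hK (j.tx _ (mul_mem hp ht)) ?_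
    rw [cj_mul, htK]; exact hpK
  obtain ⟨b, hb, hbb, hba, hba'⟩ := hK.exists_off h ha.mem haa
  have hcom := ha.com b hb (by rw [hbb, hK.2]) hba hba'
  have htb : t * b * t⁻¹ ∈ K := by
    have := conj_mem_cj (g := t) hb
    rwa [htK] at this
  -- `q_p(a) ∈ A p` for every swap `p` commuting with `t`
  have key : ∀ p, p ∈ T → Swp Om x p → p ≠ 1 ∧ qq p a ∈ A p := by
    intro p hp hsw
    have hpp := j.sq hp
    have htp := j.cm ht hp
    have hp1 : p ≠ 1 := by
      rintro rfl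
      exact hsw.2 K hK (cj_one K)
    refine ⟨hp1, ?_⟩
    have h1 := (jh.comm_mem h hp hp1 (qq_mem hsw h hK hb) (qq_comm hsw h hpp hK hb) ht).1
    have h2 : t * qq p b * t⁻¹ = qq p (t * b * t⁻¹) := by
      rw [qq, qq]
      calc t * (b * (p * b * p⁻¹)) * t⁻¹ = (t * b * t⁻¹) * ((t * p) * b * (t * p)⁻¹) := by group
        _ = (t * b * t⁻¹) * ((p * t) * b * (p * t)⁻¹) := by rw [htp]
        _ = _ := by group
    have h3 : t * qq p b * t⁻¹ * (qq p b)⁻¹ = qq p (t * b * t⁻¹ * b⁻¹) := by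
      rw [h2, mul_inv_eq_iff_eq_mul, ← qq_mul hsw h hK (mul_mem htb (inv_mem hb)) hb, inv_mul_cancel_right]
    rw [h3] at h1
    rcases hcom with h4 | h4
    · rwa [h4] at h1
    · have h5 : qq p a⁻¹ = qq p a := by
        rw [hK.inv_eq h ha.mem haa, qq_mul hsw h hK (hK.zmem h) ha.mem, qq_z hsw hK.inZ h, one_mul]
      rwa [h4, h5] at h1
  obtain ⟨g1, h1⟩ := key p hp hsw
  obtain ⟨g2, h2⟩ := key (p * t) (mul_mem hp ht) hsw'
  have h3 : qq (p * t) a = x * qq p a := by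
    rw [qq, qq]
    calc a * (p * t * a * (p * t)⁻¹) = a * (p * (t * a * t⁻¹) * p⁻¹) := by group
      _ = a * (p * (x * a) * p⁻¹) := by rw [Tr.inv' ha hK h]
      _ = a * ((p * x) * a * p⁻¹) := by group
      _ = a * x * (p * a * p⁻¹) := by rw [hsw.1]; group
      _ = _ := by rw [hK.comm_z h ha.mem]; group
  rw [h3] at h2
  exact j.nin (p * t) (mul_mem hp ht) g2 p hp g1 (x * qq p a) h2 (qq p a)⁻¹ (inv_mem h1)
    (mul_inv_cancel_right _ _).symm

/-- the elements of `T` fixing a member act on it as inner automorphisms -/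
theorem JGF.exists_as (j : JGF Om A T x) (h : WM Om) (hK : Mem Om x K) (ht : t ∈ T) (htK : cj t K = K) :
    ∃ a, As K t a := by
  rcases h.wr.inn_or_tr hK.1 htK (j.sq ht) with ⟨y, hy, h1⟩ | ⟨a, ha⟩
  · exact ⟨y, hy, h1⟩
  · exact (j.no_tr h hK ht htK ha).elim

/-- the elements of `T#` fixing the members act on both as elements of order 4 -/
theorem JGF.sq_of_as (j : JGF Om A T x) (h : WM Om) (hK : Mem Om x K) (ht : t ∈ T) (ht1 : t ≠ 1)
    (ha : As K t a) : a * a = x := by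
  have jh := j.toJG
  obtain ⟨L, hL, hne, -⟩ := hK.other h
  by_contra hcon
  -- `t` is trivial on `K`
  have htK : ∀ k ∈ K, t * k = k * t := by
    rcases hK.sq_cases h ha.1 with h1 | h1 | h1
    · rw [h1] at ha; exact As.one_iff.1 ha
    · rw [h1] at ha
      intro k hk
      have h2 := ha.2 k hk
      rw [← hK.comm_z h hk, mul_inv_cancel_right, mul_inv_eq_iff_eq_mul] at h2
      exact h2
    · exact absurd h1 hcon
  have htL : cj t L = L := by
    rcases cj_cases h hK hL hne (j.tx t ht) with h1 | h1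
    · exact h1.2
    · exfalso
      apply hne
      rw [← h1.1]
      exact ha.cj_eq.symm
  obtain ⟨b, hb⟩ := j.exists_as h hL ht htL
  -- `b` of order 4
  have hbb : b * b = x := by
    rcases hL.sq_cases h hb.1 with h1 | h1 | h1
    · exfalso
      apply ht1
      apply j.ff t ht
      rw [mem_CX]
      intro M hM k hk
      rcases hK.cases hL h hne hM with rfl | rfl
      · exact htK k hk
      · rw [h1] at hb; exact As.one_iff.1 hb k hk
    · exfalso
      apply ht1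
      apply j.ff t ht
      rw [mem_CX]
      intro M hM k hk
      rcases hK.cases hL h hne hM with rfl | rfl
      · exact htK k hk
      · have h2 := hb.2 k hk
        rw [h1, ← hM.comm_z h hk, mul_inv_cancel_right, mul_inv_eq_iff_eq_mul] at h2
        exact h2
    · exact h1
  -- `J = 1`
  have hJ : ∀ g ∈ A t, g ∈ RZ Om x → g = 1 := by
    intro g hg hgx
    refine jh.eq_one h ht ht1 hL hg (RZ_cent_mem h hL hK hne.symm hgx fun k hk => ?_)
    exact (jh.comm h ht ht1 (hK.le_RZ hk) (htK k hk) hg hgx).symm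
  have hT : ∀ s ∈ T, ∀ r ∈ RZ Om x, t * r = r * t → s * r = r * s := by
    intro s hs r hr hc
    obtain ⟨h1, h2⟩ := jh.comm_mem h ht ht1 hr hc hs
    have h3 := hJ _ h1 h2
    rw [mul_inv_eq_one, mul_inv_eq_iff_eq_mul] at h3
    exact h3
  -- `T = {1, t}`
  have hone : ∀ s ∈ T, s = 1 ∨ s = t := by
    intro s hs
    have h1 : ∀ k ∈ K, s * k = k * s := fun k hk => hT s hs k (hK.le_RZ hk) (htK k hk)
    have hsL : cj s L = L := by
      rcases cj_cases h hK hL hne (j.tx s hs) with h2 | h2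
      · exact h2.2
      · exfalso
        apply hne
        rw [← h2.1]
        exact ((As.one_iff.2 h1).cj_eq).symm
    obtain ⟨c, hc⟩ := j.exists_as h hL hs hsL
    have h2 : s * b = b * s := hT s hs b (hL.le_RZ hb.1) hb.comm
    have h3 : b * c = c * b := by
      have h4 := hc.2 b hb.1
      rw [h2, mul_inv_cancel_right, eq_mul_inv_iff_mul_eq] at h4
      exact h4
    have h5 : ∀ {u d : G}, u ∈ T → (∀ k ∈ K, u * k = k * u) → As L u d → (d = 1 ∨ d = x) → u = 1 := by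
      intro u d hu hu1 hd hd1
      apply j.ff u hu
      rw [mem_CX]
      intro M hM k hk
      rcases hK.cases hL h hne hM with rfl | rfl
      · exact hu1 k hk
      · rcases hd1 with hd1 | hd1
        · rw [hd1] at hd; exact As.one_iff.1 hd k hk
        · have h2 := hd.2 k hk
          rw [hd1, ← hM.comm_z h hk, mul_inv_cancel_right, mul_inv_eq_iff_eq_mul] at h2
          exact h2
    have h6 : ∀ k ∈ K, (s * t) * k = k * (s * t) := fun k hk => by
      rw [mul_assoc, htK k hk, ← mul_assoc, h1 k hk, mul_assoc]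
    have h7 : s * t = 1 → s = t := fun h8 => by
      rw [eq_inv_of_mul_eq_one_left h8, jh.inv ht]
    rcases hL.of_comm h hb.1 hbb hc.1 h3 with h4 | h4 | h4 | h4
    · exact Or.inl (h5 hs h1 hc (Or.inl h4))
    · exact Or.inl (h5 hs h1 hc (Or.inr h4))
    · right
      refine h7 (h5 (mul_mem hs ht) h6 (hc.mul hb) (Or.inr ?_))
      rw [h4, hbb]
    · right
      refine h7 (h5 (mul_mem hs ht) h6 (hc.mul hb) (Or.inl ?_))
      rw [h4, mul_assoc, hbb, hK.inZ.z2 h]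
  obtain ⟨s, hs, s', hs', h1, h2, h3⟩ := j.three
  apply h3
  rw [(hone s hs).resolve_left h1, (hone s' hs').resolve_left h2]

/-- at most one element of `T#` fixes the members -/
theorem JGF.unique (j : JGF Om A T x) (h : WM Om) (hK : Mem Om x K) (hs : s ∈ T) (hs1 : s ≠ 1) (hsK : cj s K = K)
    (ht : t ∈ T) (ht1 : t ≠ 1) (htK : cj t K = K) : s = t := by
  have jh := j.toJG
  obtain ⟨L, hL, hne, -⟩ := hK.other h
  have key : ∀ {K : Subgroup G}, Mem Om x K → cj s K = K → cj t K = K → ∀ k ∈ K, (s * t) * k = k * (s * t) := by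
    intro K hK hsK htK k hk
    obtain ⟨a, ha⟩ := j.exists_as h hK hs hsK
    obtain ⟨b, hb⟩ := j.exists_as h hK ht htK
    have haa := j.sq_of_as h hK hs hs1 ha
    have hbb := j.sq_of_as h hK ht ht1 hb
    have hab : a * b = b * a := by
      by_contra hcon
      refine jh.ne_x h ht ht1 (hK.le_RZ hb.1) hb.comm hs ?_
      rw [ha.2 b hb.1]
      exact hK.anti h hb.1 hbb ha.1 haa (fun h1 => hcon h1.symm)
    have h1 := ha.mul hb
    have h2 : a * b = 1 ∨ a * b = x := by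
      rcases hK.of_comm h ha.1 haa hb.1 hab with h3 | h3 | h3 | h3
      · rw [h3, one_mul] at hbb; exact absurd hbb.symm (hK.inZ.z1 h)
      · rw [h3, hK.inZ.z2 h] at hbb; exact absurd hbb.symm (hK.inZ.z1 h)
      · right; rw [h3, haa]
      · left; rw [h3, ← mul_assoc, hK.comm_z h ha.1, mul_assoc, haa, hK.inZ.z2 h]
    rcases h2 with h2 | h2
    · rw [h2] at h1; exact As.one_iff.1 h1 k hk
    · have h3 := h1.2 k hk
      rw [h2, ← hK.comm_z h hk, mul_inv_cancel_right, mul_inv_eq_iff_eq_mul] at h3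
      exact h3
  have hsL : cj s L = L := by
    rcases cj_cases h hK hL hne (j.tx s hs) with h1 | h1
    · exact h1.2
    · exact absurd (hsK.symm.trans h1.1) hne
  have htL : cj t L = L := by
    rcases cj_cases h hK hL hne (j.tx t ht) with h1 | h1
    · exact h1.2
    · exact absurd (htK.symm.trans h1.1) hne
  have h1 : s * t = 1 := by
    apply j.ff _ (mul_mem hs ht)
    rw [mem_CX]
    intro M hM k hk
    rcases hK.cases hL h hne hM with rfl | rfl
    · exact key hM hsK htK k hk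
    · exact key hM hsL htL k hk
  rw [eq_inv_of_mul_eq_one_left h1, jh.inv ht]

/-- **the J-ARGUMENT** : `T = {1, s, p, p s}`, `p` a swap, `s` acts on `K` as `a` and on `K^p` as `p a p⁻¹`, and
`x a (p a p⁻¹) ∈ A s` -/
theorem JGF.main (j : JGF Om A T x) (h : WM Om) (hK : Mem Om x K) :
    ∃ p ∈ T, ∃ s ∈ T, ∃ a ∈ K, Swp Om x p ∧ s ≠ 1 ∧ s ≠ p ∧ a * a = x ∧ As K s a ∧ As (cj p K) s (p * a * p⁻¹) ∧
      (∀ t ∈ T, t = 1 ∨ t = s ∨ t = p ∨ t = p * s) ∧ x * qq p a ∈ A s ∧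
      (∀ g ∈ A s, g ∈ RZ Om x → g = 1 ∨ g = x * qq p a) := by
  have jh := j.toJG
  -- a swap
  obtain ⟨p, hp, hpK⟩ : ∃ p ∈ T, cj p K ≠ K := by
    by_contra hcon
    push Not at hcon
    obtain ⟨s, hs, s', hs', h1, h2, h3⟩ := j.three
    exact h3 (j.unique h hK hs h1 (hcon s hs) hs' h2 (hcon s' hs'))
  have hsw : Swp Om x p := Swp.of_one h hK (j.tx p hp) hpK
  have hpp := j.sq hp
  have hL := hsw.mem h hK
  have hne := hsw.ne hK
  -- an element fixing `K`
  obtain ⟨s, hs, hs1, hsK⟩ : ∃ s ∈ T, s ≠ 1 ∧ cj s K = K := by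
    obtain ⟨s, hs, s', hs', h1, h2, h3⟩ := j.three
    by_cases h4 : cj s K = K
    · exact ⟨s, hs, h1, h4⟩
    by_cases h5 : cj s' K = K
    · exact ⟨s', hs', h2, h5⟩
    refine ⟨s * s', mul_mem hs hs', fun h6 => h3 ?_, ?_⟩
    · rw [eq_inv_of_mul_eq_one_left h6, jh.inv hs']
    · rcases cj_cases h hK hL hne (j.tx s hs) with h6 | h6
      · exact absurd h6.1 h4
      rcases cj_cases h hK hL hne (j.tx s' hs') with h7 | h7
      · exact absurd h7.1 h5
      rw [cj_mul, h7.1, h6.2]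
  have hsp : s ≠ p := by
    rintro rfl
    exact hpK hsK
  obtain ⟨a, ha⟩ := j.exists_as h hK hs hsK
  have haa := j.sq_of_as h hK hs hs1 ha
  have hb : As (cj p K) s (p * a * p⁻¹) := ha.conj_comm (j.cm hp hs)
  -- `x q_p(a) ∈ A s`
  have hpa : p * a * p⁻¹ ∈ cj p K := conj_mem_cj ha.1
  have hJ : x * qq p a ∈ A s := by
    have h1 := (jh.comm_mem h hs hs1 (hK.le_RZ ha.1) ha.comm hp).1
    have h2 : p * a * p⁻¹ * a⁻¹ = x * qq p a := by
      rw [hK.inv_eq h ha.1 haa, qq, ← hsw.cm h hK (mul_mem (hK.zmem h) ha.1) ha.1, mul_assoc]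
    rwa [h2] at h1
  refine ⟨p, hp, s, hs, a, ha.1, hsw, hs1, hsp, haa, ha, hb, fun t ht => ?_, hJ, fun g hg hgx => ?_⟩
  · by_cases h1 : cj t K = K
    · by_cases h2 : t = 1
      · exact Or.inl h2
      · exact Or.inr (Or.inl (j.unique h hK ht h2 h1 hs hs1 hsK))
    · right; right
      have h2 : cj (p * t) K = K := by
        rcases cj_cases h hK hL hne (j.tx t ht) with h6 | h6
        · exact absurd h6.1 h1
        rw [cj_mul, h6.1, ← cj_mul, hpp, cj_one]
      have h3 : ∀ g : G, p * (p * g) = g := fun g => by rw [← mul_assoc, hpp, one_mul]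
      by_cases h4 : p * t = 1
      · left
        rw [← h3 t, h4, mul_one]
      · right
        rw [← j.unique h hK (mul_mem hp ht) h4 h2 hs hs1 hsK, h3]
  · -- `g` commutes with `C_{R_x}(s)`
    obtain ⟨k, hk, l, hl, rfl⟩ := (mem_RZ hK hL h hne).1 hgx
    have c1 : a * (k * l) = (k * l) * a := jh.comm h hs hs1 (hK.le_RZ ha.1) ha.comm hg hgx
    have c2 : a * k = k * a := by
      have h1 : l * a = a * l := (hK.comm hL h hne ha.1 hl).symm
      have h2 : (a * k) * l = (k * a) * l := by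
        rw [mul_assoc, c1, mul_assoc, h1, mul_assoc]
      exact mul_right_cancel h2
    have c3 : (p * a * p⁻¹) * (k * l) = (k * l) * (p * a * p⁻¹) :=
      jh.comm h hs hs1 (hL.le_RZ hpa) hb.comm hg hgx
    have c4 : (p * a * p⁻¹) * l = l * (p * a * p⁻¹) := by
      have h1 : k * (p * a * p⁻¹) = (p * a * p⁻¹) * k := hK.comm hL h hne hk hpa
      have h2 : k * ((p * a * p⁻¹) * l) = k * (l * (p * a * p⁻¹)) := by
        rw [← mul_assoc, h1, mul_assoc, c3, mul_assoc]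
      exact mul_left_cancel h2
    have hpapa : (p * a * p⁻¹) * (p * a * p⁻¹) = x := by
      calc (p * a * p⁻¹) * (p * a * p⁻¹) = p * (a * a) * p⁻¹ := by group
        _ = x := by rw [haa, hsw.1, mul_inv_cancel_right]
    have hxx := hK.inZ.z2 h
    have hg2 := j.sq' s hs hs1 _ hg
    have hklc : l * k = k * l := (hK.comm hL h hne hk hl).symm
    have hsq : (k * k) * (l * l) = 1 := by
      rw [← hg2]
      calc (k * k) * (l * l) = k * (k * l) * l := by group
        _ = k * (l * k) * l := by rw [hklc]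
        _ = _ := by group
    have hkx : ∀ {u : G}, u ∈ K → u * x = x * u := fun hu => hK.comm_z h hu
    have hlx : ∀ {u : G}, u ∈ cj p K → u * x = x * u := fun hu => hL.comm_z h hu
    -- `g ∈ {1, x, a a^p, x a a^p}`
    have hfin : k * l = 1 ∨ k * l = x ∨ k * l = qq p a ∨ k * l = x * qq p a := by
      rcases hK.of_comm h ha.1 haa hk c2 with h1 | h1 | h1 | h1 <;>
        rcases hL.of_comm h hpa hpapa hl c4 with h2 | h2 | h2 | h2
      · left; rw [h1, h2, one_mul]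
      · right; left; rw [h1, h2, one_mul]
      · exfalso
        rw [h1, h2, hpapa, one_mul, one_mul] at hsq
        exact hK.inZ.z1 h hsq
      · exfalso
        have h3 : x * (p * a * p⁻¹) * (x * (p * a * p⁻¹)) = x := by
          calc x * (p * a * p⁻¹) * (x * (p * a * p⁻¹)) = x * ((p * a * p⁻¹) * x) * (p * a * p⁻¹) := by group
            _ = x * (x * (p * a * p⁻¹)) * (p * a * p⁻¹) := by rw [hlx hpa]
            _ = (x * x) * ((p * a * p⁻¹) * (p * a * p⁻¹)) := by group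
            _ = x := by rw [hxx, hpapa, one_mul]
        rw [h1, h2, h3, one_mul, one_mul] at hsq
        exact hK.inZ.z1 h hsq
      · right; left; rw [h1, h2, mul_one]
      · left; rw [h1, h2, hxx]
      · exfalso
        rw [h1, h2, hpapa, hxx, one_mul] at hsq
        exact hK.inZ.z1 h hsq
      · exfalso
        have h3 : x * (p * a * p⁻¹) * (x * (p * a * p⁻¹)) = x := by
          calc x * (p * a * p⁻¹) * (x * (p * a * p⁻¹)) = x * ((p * a * p⁻¹) * x) * (p * a * p⁻¹) := by group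
            _ = x * (x * (p * a * p⁻¹)) * (p * a * p⁻¹) := by rw [hlx hpa]
            _ = (x * x) * ((p * a * p⁻¹) * (p * a * p⁻¹)) := by group
            _ = x := by rw [hxx, hpapa, one_mul]
        rw [h1, h2, h3, hxx, one_mul] at hsq
        exact hK.inZ.z1 h hsq
      · exfalso
        rw [h1, h2, haa, one_mul, mul_one] at hsq
        exact hK.inZ.z1 h hsq
      · exfalso
        rw [h1, h2, haa, hxx, mul_one] at hsq
        exact hK.inZ.z1 h hsq
      · right; right; left; rw [h1, h2]; rfl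
      · right; right; right
        rw [h1, h2, ← mul_assoc, hkx ha.1, mul_assoc]; rfl
      · exfalso
        have h3 : x * a * (x * a) = x := by
          calc x * a * (x * a) = x * (a * x) * a := by group
            _ = x * (x * a) * a := by rw [hkx ha.1]
            _ = (x * x) * (a * a) := by group
            _ = x := by rw [hxx, haa, one_mul]
        rw [h1, h2, h3, one_mul, mul_one] at hsq
        exact hK.inZ.z1 h hsq
      · exfalso
        have h3 : x * a * (x * a) = x := by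
          calc x * a * (x * a) = x * (a * x) * a := by group
            _ = x * (x * a) * a := by rw [hkx ha.1]
            _ = (x * x) * (a * a) := by group
            _ = x := by rw [hxx, haa, one_mul]
        rw [h1, h2, h3, hxx, mul_one] at hsq
        exact hK.inZ.z1 h hsq
      · right; right; right
        rw [h1, h2, mul_assoc]; rfl
      · right; right; left
        rw [h1, h2]
        calc x * a * (x * (p * a * p⁻¹)) = x * (a * x) * (p * a * p⁻¹) := by group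
          _ = x * (x * a) * (p * a * p⁻¹) := by rw [hkx ha.1]
          _ = (x * x) * (a * (p * a * p⁻¹)) := by group
          _ = _ := by rw [hxx, one_mul]; rfl
    rcases hfin with h1 | h1 | h1 | h1
    · exact Or.inl h1
    · rw [h1] at hg; exact absurd hg (j.nin' hs hs1)
    · exfalso
      rw [h1] at hg
      apply j.nin' hs hs1
      have := mul_mem hJ (inv_mem hg)
      rwa [mul_inv_cancel_right] at this
    · exact Or.inr h1

theorem JGF.card_le (j : JGF Om A T x) (h : WM Om) : Nat.card T ≤ 4 := by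
  classical
  obtain ⟨K, hK⟩ := j.inZ
  obtain ⟨p, -, s, -, a, -, -, -, -, -, -, -, h1, -⟩ := j.main h hK
  have h2 : (T : Set G) ⊆ (({1, s, p, p * s} : Finset G) : Set G) := by
    intro t ht
    rcases h1 t ht with h2 | h2 | h2 | h2 <;> simp only [h2, _root_.Finset.coe_insert, _root_.Finset.coe_singleton, _root_.Set.mem_insert_iff, _root_.Set.mem_singleton_iff, _root_.true_or, _root_.right_eq_mul, _root_.or_true, _root_.left_eq_mul, _root_.mul_eq_right, _root_.mul_eq_left]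
  have h3 := Set.ncard_le_ncard h2 (Finset.finite_toSet _)
  rw [Set.ncard_coe_finset] at h3
  exact h3.trans Finset.card_le_four

end Fin

end Cfsg.Agent.Cit.Nil.RTwoM
end

-- part: Cit/Nil/RTwoM/ROneA
section
/-!
# S1309, (6b), (C3), `r = 2`, any `m`: (R1a), (R1c) of helper762 (#19890)

* `RZ_cent_two` : the elements of `R_x` commuting with `a ∈ K`, `b ∈ L`; `NZ_le_CX`;
* `Form.exists_chi` : some `k` has `χ = 1`;
* **`r_one_a`** (R1a) : `(x, z)` type I, `u` a swap at `x`, `(z, u)` a C-pair, `|T| = 4`: `x ∈ N_z` or `x ∈ Z(z y)`,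
  `y ∈ a0(z)`;
* **`r_one_c`** (R1c) : `z`, `u` swaps at `x`, `z u` inner at `x`: `x = e z₂ z₃`, `z u` not inner at `z_j`.
-/

set_option autoImplicit false
set_option linter.style.haveILetI false
set_option linter.unusedSectionVars false

namespace Cfsg.Agent.Cit.Nil.RTwoM

open Subgroup Cfsg Cfsg.Agent.Cit

open RTwo (Q3)
open RG (WR CP Ov InO Tr)
open RI (CS)
open Blk (sm sg sm_zero sm_one)

variable {G : Type*} [Group G] {Om : Set (Subgroup G)} {K L M : Subgroup G} {D : Set G}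
  {a b c d e g k l n q r s t u v w x y z : G}

section Fin

variable [Finite G]

/-- the elements of `R_x` of square `1` commuting with `a ∈ K` and `b ∈ L` -/
theorem RZ_cent_two (h : WM Om) (hK : Mem Om x K) (hL : Mem Om x L) (hne : K ≠ L) (ha : a ∈ K) (haa : a * a = x)
    (hb : b ∈ L) (hbb : b * b = x) (hg : g ∈ RZ Om x) (hgg : g * g = 1) (hag : a * g = g * a)
    (hbg : b * g = g * b) : g = 1 ∨ g = x ∨ g = a * b ∨ g = x * (a * b) := by
  obtain ⟨k, hk, l, hl, rfl⟩ := (mem_RZ hK hL h hne).1 hg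
  have hxx := hK.inZ.z2 h
  have c1 : a * k = k * a := by
    have h1 : l * a = a * l := (hK.comm hL h hne ha hl).symm
    have h2 : (a * k) * l = (k * a) * l := by rw [mul_assoc, hag, mul_assoc, h1, mul_assoc]
    exact mul_right_cancel h2
  have c2 : b * l = l * b := by
    have h1 : k * b = b * k := hK.comm hL h hne hk hb
    have h2 : k * (b * l) = k * (l * b) := by rw [← mul_assoc, h1, mul_assoc, hbg, mul_assoc]
    exact mul_left_cancel h2
  have hklc : l * k = k * l := (hK.comm hL h hne hk hl).symm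
  have hsq : (k * k) * (l * l) = 1 := by
    rw [← hgg]
    calc (k * k) * (l * l) = k * (k * l) * l := by group
      _ = k * (l * k) * l := by rw [hklc]
      _ = _ := by group
  have hx1 := hK.inZ.z1 h
  have hkx : ∀ {u : G}, u ∈ K → u * x = x * u := fun hu => hK.comm_z h hu
  have hlx : ∀ {u : G}, u ∈ L → u * x = x * u := fun hu => hL.comm_z h hu
  have hzq : ∀ {u : G}, u * x = x * u → u * u = x → (x * u) * (x * u) = x := by
    intro u hu huu
    calc (x * u) * (x * u) = x * (u * x) * u := by group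
      _ = x * (x * u) * u := by rw [hu]
      _ = (x * x) * (u * u) := by group
      _ = x := by rw [hxx, huu, one_mul]
  rcases hK.of_comm h ha haa hk c1 with h1 | h1 | h1 | h1 <;>
    rcases hL.of_comm h hb hbb hl c2 with h2 | h2 | h2 | h2
  · left; rw [h1, h2, one_mul]
  · right; left; rw [h1, h2, one_mul]
  · exfalso; rw [h1, h2, hbb, one_mul, one_mul] at hsq; exact hx1 hsq
  · exfalso; rw [h1, h2, hzq (hlx hb) hbb, one_mul, one_mul] at hsq; exact hx1 hsq
  · right; left; rw [h1, h2, mul_one]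
  · left; rw [h1, h2, hxx]
  · exfalso; rw [h1, h2, hbb, hxx, one_mul] at hsq; exact hx1 hsq
  · exfalso; rw [h1, h2, hzq (hlx hb) hbb, hxx, one_mul] at hsq; exact hx1 hsq
  · exfalso; rw [h1, h2, haa, one_mul, mul_one] at hsq; exact hx1 hsq
  · exfalso; rw [h1, h2, haa, hxx, mul_one] at hsq; exact hx1 hsq
  · right; right; left; rw [h1, h2]
  · right; right; right; rw [h1, h2, ← mul_assoc, hkx ha, mul_assoc]
  · exfalso; rw [h1, h2, hzq (hkx ha) haa, one_mul, mul_one] at hsq; exact hx1 hsq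
  · exfalso; rw [h1, h2, hzq (hkx ha) haa, hxx, mul_one] at hsq; exact hx1 hsq
  · right; right; right; rw [h1, h2, mul_assoc]
  · right; right; left
    rw [h1, h2]
    calc x * a * (x * b) = x * (a * x) * b := by group
      _ = x * (x * a) * b := by rw [hkx ha]
      _ = (x * x) * (a * b) := by group
      _ = _ := by rw [hxx, one_mul]

theorem NZ_le_CX (h : WM Om) (hz : InZ Om z) : NZ Om z ≤ CX Om z := by
  refine (closure_le _).2 fun u hu => ?_
  rcases ZS_eq h hz hu with rfl | h1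
  · exact z_mem_CX h
  · exact cp_cx h hu.1 h1.2

/-- the action of `[u, a]` -/
theorem swp_commutator (h : WM Om) (hK : Mem Om x K) (hs : Swp Om x u) (ha : a ∈ K) (haa : a * a = x) :
    u * a * u⁻¹ * a⁻¹ = x * qq u a := by
  rw [hK.inv_eq h ha haa, qq, ← hs.cm h hK (mul_mem (hK.zmem h) ha) ha, mul_assoc]

/-- some `k` has `χ = 1` -/
theorem Form.exists_chi {N : Type*} [AddCommGroup N] {ι : N → G} {β : N → N → ZMod 2} (F : Form Om D ι β)
    (nil : NilS Om D) (h : WM Om) (E : Emb D ι) {b w : N} (hb : ι b ∈ D) (hw : β b w = 1) (hK : Mem Om (ι b) K) :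
    ∃ k ∈ K, k * k = ι b ∧ ∃ a, ι a = ι b * qq (ι w) k ∧ ι (w + a) = k * ι w * k⁻¹ ∧ ι a ∈ RZ Om (ι b) ∧
      β w a = 1 := by
  have hs := (F.swp hb).1 hw
  have hbb := hK.inZ.z2 h
  obtain ⟨x, hx⟩ := h.exists_q3 hK
  obtain ⟨a, a1, a2, a3⟩ := F.exists_ak nil h E hb hw hK (hx.mem 0) (hx.sq 0)
  obtain ⟨b', b1, b2, b3⟩ := F.exists_ak nil h E hb hw hK (hx.mem 1) (hx.sq 1)
  obtain ⟨c, c1, c2, c3⟩ := F.exists_ak nil h E hb hw hK (hx.mem 2) (hx.sq 2)
  have h6 : c = a + b' + b := by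
    apply E.inj
    rw [E.add, E.add, c1, a1, b1]
    have h7 : x 2 = x 0 * x 1 := (hx.mul 0).symm
    rw [h7, qq_mul hs h hK (hx.mem 0) (hx.mem 1)]
    have e1 : ι b * qq (ι w) (x 1) = qq (ι w) (x 1) * ι b := (RZ_le_centralizer h (qq_mem hs h hK (hx.mem 1))).symm
    calc ι b * (qq (ι w) (x 0) * qq (ι w) (x 1)) = (ι b * qq (ι w) (x 0)) * qq (ι w) (x 1) * (ι b * ι b) := by
          rw [hbb]; group
      _ = (ι b * qq (ι w) (x 0)) * (qq (ι w) (x 1) * ι b) * ι b := by group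
      _ = _ := by rw [← e1]
  have hwb : β w b = 1 := by rw [F.symm, hw]
  have h7 : β w c = β w a + β w b' + 1 := by rw [h6, F.addr, F.addr, hwb]
  rcases Blk.z2 (β w a) with h8 | h8
  · rcases Blk.z2 (β w b') with h9 | h9
    · refine ⟨_, hx.mem 2, hx.sq 2, c, c1, c2, c3, ?_⟩
      rw [h7, h8, h9]; decide
    · exact ⟨_, hx.mem 1, hx.sq 1, b', b1, b2, b3, h9⟩
  · exact ⟨_, hx.mem 0, hx.sq 0, a, a1, a2, a3, h8⟩

/-- **(R1a)** with the factor `b` -/
theorem r_one_a_b (h : WM Om) (l0 : L0 Om) (an : ANt Om z) (hu : InZ Om u) (hzu : CP Om z u) (hti : TI Om x z)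
    (hs : Swp Om x u) (h4 : ∀ e, InZ Om e → CP Om z e → CP Om u e → e = z * u) :
    x ∈ NZ Om z ∨ ∃ y ∈ A0 Om z, ∃ a k, a ∈ RZ Om x ∧ a * z = z * a ∧ k ∈ RZ Om u ∧ k * z = z * k ∧
      y = (k * a) * u * (k * a)⁻¹ ∧ x ∈ ZS Om (z * y) ∧ a * u * a⁻¹ ∈ ZS Om z ∧ Swp Om u (a * u * a⁻¹) ∧
      ∃ b ∈ NZ Om z, x * b ∈ RZ Om z := by
  by_cases hxN : x ∈ NZ Om z
  · exact Or.inl hxN
  right
  have hx := hti.inZ
  have hz := hti.inT
  have nil := nilS_ZS' h l0 an
  have hxx := hx.z2 h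
  have huu := hu.z2 h
  obtain ⟨K, hK⟩ := hx
  obtain ⟨a, ha, haa⟩ := hti.exists_as h hK
  have haz : a * z = z * a := ha.comm.symm
  have hux : u * x = x * u := hs.1
  have huz : u * z = z * u := (cp_comm h hz hu hzu).symm
  have hL := hs.mem h hK
  have hne := hs.ne hK
  have hza' : As (cj u K) z (u * a * u⁻¹) := ha.conj_comm huz
  have hua : u * a * u⁻¹ ∈ cj u K := conj_mem_cj ha.1
  have huaa : (u * a * u⁻¹) * (u * a * u⁻¹) = x := by
    calc (u * a * u⁻¹) * (u * a * u⁻¹) = u * (a * a) * u⁻¹ := by group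
      _ = x := by rw [haa, hux, mul_inv_cancel_right]
  -- `b' = [u, a]`
  obtain ⟨b', hb'⟩ : ∃ b', b' = x * qq u a := ⟨_, rfl⟩
  have hb'c : u * a * u⁻¹ * a⁻¹ = b' := by rw [hb', swp_commutator h hK hs ha.1 haa]
  have hqx : qq u a ∈ RZ Om x := qq_mem hs h hK ha.1
  have hb'x : b' ∈ RZ Om x := by rw [hb']; exact mul_mem (z_mem_RZ hK.inZ h) hqx
  have hu' : u⁻¹ = u := inv_eq_of_mul_eq_one_right huu
  have huD : u ∈ ZS Om z := A0_subset h hz ⟨hu, hzu⟩
  have hwD : a * u * a⁻¹ ∈ ZS Om z := ZS_conj h huD haz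
  have hwA : a * u * a⁻¹ ∈ A0 Om z := A0_conj h haz ⟨hu, hzu⟩
  have hb'w : a * u * a⁻¹ = u * b' := by
    rw [← hb'c, hu']
    have h1 : a * u * a⁻¹ = u * (u * a * u * a⁻¹) := by
      calc a * u * a⁻¹ = (u * u) * a * u * a⁻¹ := by rw [huu, one_mul]
        _ = _ := by group
    exact h1
  have hb'N : b' ∈ NZ Om z := by
    have h1 : b' = u⁻¹ * (a * u * a⁻¹) := by rw [hb'w, inv_mul_cancel_left]
    rw [h1]
    exact mul_mem (inv_mem (mem_NZ huD)) (mem_NZ hwD)
  have hb'z : b' ∈ CX Om z := NZ_le_CX h hz hb'N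
  have hqas := hs.as_qq h hK ha.1
  -- `z b' ∈ X_x`
  have hzb : z * b' ∈ CX Om x := by
    rw [mem_CX]
    have key : ∀ {L : Subgroup G} {l : G}, Mem Om x L → As L z l → As L (qq u a) l → l * l = x → ∀ k ∈ L,
        z * b' * k = k * (z * b') := by
      intro L l hL h1 h2 h3 k hk
      have h4 := h1.mul ((hL.as_z h).mul h2)
      rw [one_mul, h3, ← hb'] at h4
      have h5 := h4.2 k hk
      rw [← hL.comm_z h hk, mul_inv_cancel_right, mul_inv_eq_iff_eq_mul] at h5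
      exact h5
    intro M hM k hk
    rcases hK.cases hL h hne hM with rfl | rfl
    · exact key hK ha hqas.1 haa k hk
    · exact key hL hza' hqas.2 huaa k hk
  -- `x b' ∈ R_z`
  have hzz := hz.z2 h
  have hxb : x * b' ∈ RZ Om z := by
    rcases hti.dich h with h1 | ⟨q, hqx', hqz, hqq, hzq, hxq⟩
    · have h2 := (hti.symm h).mem_symm h (by exact hti.mem_symm h ((hti.symm h).mem_symm h h1))
      have h3 : z ∈ RZ Om x := (hti.symm h).mem_symm h h1
      have h4 : z * b' = 1 ∨ z * b' = x := RZ_CX h hK.inZ (mul_mem h3 hb'x) hzb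
      rcases h4 with h4 | h4
      · have h5 : b' = z := by rw [← hz.inv h]; exact eq_inv_of_mul_eq_one_right h4
        rw [h5]
        exact mul_mem h1 (z_mem_RZ hz h)
      · exfalso
        apply hti.not_mem_CX h
        rw [← h4]
        exact mul_mem (z_mem_CX h) hb'z
    · have h4 : q⁻¹ * b' ∈ CX Om x := by
        have := mul_mem (inv_mem hzq) hzb
        rwa [show (z * q)⁻¹ * (z * b') = q⁻¹ * b' by group] at this
      rcases RZ_CX h hK.inZ (mul_mem (inv_mem hqx') hb'x) h4 with h5 | h5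
      · exfalso
        rw [inv_mul_eq_one] at h5
        rw [h5] at hxq
        apply hti.not_mem_CX h
        have := mul_mem hxq (inv_mem hb'z)
        rwa [mul_inv_cancel_right] at this
      · rw [inv_mul_eq_iff_eq_mul] at h5
        have h6 : x * b' = q := by
          rw [h5, ← mul_assoc, ← RZ_le_centralizer h hqx', mul_assoc, hxx, mul_one]
        rw [h6]; exact hqz
  -- `x` centralises `N_z`
  have hb'b : b' * b' = 1 := NZ_sq h l0 an hb'N
  have hxN' : ∀ n ∈ NZ Om z, n * x = x * n := by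
    intro n hn
    have h1 : n * (x * b') = (x * b') * n := CX_comm hxb (NZ_le_CX h hz hn)
    have h2 : n * b' = b' * n := NZ_comm h l0 an hn hb'N
    have h3 : x = (x * b') * b' := by rw [mul_assoc, hb'b, mul_one]
    calc n * x = n * ((x * b') * b') := by rw [← h3]
      _ = (n * (x * b')) * b' := by group
      _ = (x * b') * (n * b') := by rw [h1]; group
      _ = (x * b') * b' * n := by rw [h2]; group
      _ = x * n := by rw [← h3]
  -- `N_z ⊓ R_x = {1, b'}`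
  have hJ : ∀ g ∈ NZ Om z, g ∈ RZ Om x → g = 1 ∨ g = b' := by
    intro g hg hgx
    have com : ∀ r ∈ RZ Om x, r * z = z * r → r * g = g * r := by
      intro r hr hrz
      rcases RZ_commutator h hK.inZ hgx hr with h2 | h2
      · rw [← mul_inv_eq_iff_eq_mul, h2]
      · exfalso
        have h1 := NZ_conj h hrz hg
        rw [h2] at h1
        apply hxN
        have := mul_mem h1 (inv_mem hg)
        rwa [mul_inv_cancel_right] at this
    have c1 := com a (hK.le_RZ ha.1) haz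
    have c2 := com (u * a * u⁻¹) (hL.le_RZ hua) hza'.comm.symm
    rcases RZ_cent_two h hK hL hne ha.1 haa hua huaa hgx (NZ_sq h l0 an hg) c1 c2 with h1 | h1 | h1 | h1
    · exact Or.inl h1
    · rw [h1] at hg; exact absurd hg hxN
    · exfalso
      apply hxN
      have h2 : x = b' * g⁻¹ := by
        have h3 : b' = x * g := by rw [hb', h1]; rfl
        rw [h3, mul_inv_cancel_right]
      rw [h2]
      exact mul_mem hb'N (inv_mem hg)
    · right
      rw [h1, hb']; rfl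
  -- `a` acts on `N_z`
  have hact : ∀ n ∈ NZ Om z, a * n * a⁻¹ = n ∨ a * n * a⁻¹ = n * b' := by
    intro n hn
    obtain ⟨h1, h2⟩ := LJ h (inv_mem hn) (by
      have := hxN' _ (inv_mem hn); exact this) (hK.le_RZ ha.1) haz
    have h3 : a * n * a⁻¹ = n * (n⁻¹ * a * n⁻¹⁻¹ * a⁻¹) := by group
    rcases hJ _ h1 h2 with h4 | h4
    · left; rw [h3, h4, mul_one]
    · right; rw [h3, h4]
  have hb1 : b' ≠ 1 := by
    intro h1
    rw [hb'] at h1
    have h2 : qq u a = x := by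
      rw [← hK.inZ.inv h]; exact eq_inv_of_mul_eq_one_right h1
    have h3 := hqas.1
    rw [h2] at h3
    exact hK.not_as_one h h3 haa (hK.as_z h)
  -- additive notation
  obtain ⟨N, _, _, ι, E⟩ := nil.exists_emb
  obtain ⟨β, F⟩ := nil.exists_form h E
  obtain ⟨U, hU⟩ := E.ex (g := u) (mem_NZ huD)
  obtain ⟨B, hB⟩ := E.ex (g := b') hb'N
  have two := E.two nil h
  have hUD : ι U ∈ ZS Om z := by rw [hU]; exact huD
  obtain ⟨σ, hσ⟩ := E.exists_conj (D := ZS Om z) (y := a) fun c hc => ZS_conj h hc haz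
  have hσn : ∀ n, ∃ ε : ZMod 2, σ n = n + sm ε B := by
    intro n
    rcases hact (ι n) (E.cl n) with h1 | h1
    · exact ⟨0, by rw [sm_zero, add_zero]; apply E.inj; rw [hσ, h1]⟩
    · exact ⟨1, by rw [sm_one]; apply E.inj; rw [hσ, h1, E.add, hB]⟩
  have hσU : σ U = U + B := by
    apply E.inj
    rw [hσ, E.add, hU, hB, hb'w]
  obtain ⟨W, hW⟩ : ∃ W, W = U + B := ⟨_, rfl⟩
  have hιW : ι W = a * u * a⁻¹ := by rw [hW, E.add, hU, hB, hb'w]
  have hWD : ι W ∈ ZS Om z := by rw [hιW]; exact hwD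
  -- `b' ≠ z`
  have hbz : b' ≠ z := by
    intro h1
    rw [h1] at hb'x
    have h2 := (hti.cp_iff h hb'x hu).2 hzu
    exact hs.2 K hK ((inn_of_cp h hu h2).cj_eq hK h)
  -- `(u, w)` is a swap pair
  have hUW : β U W = 1 := by
    rw [F.swp hUD, hU, hιW]
    have hneq : u ≠ a * u * a⁻¹ := by
      rw [hb'w]
      intro h1
      exact hb1 (left_eq_mul.1 h1)
    have hcm : u * (a * u * a⁻¹) = (a * u * a⁻¹) * u := nil.comm _ huD _ hwD
    rcases tri h hu hwD.1 hneq hcm with h1 | h1 | ⟨h1, -⟩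
    · exfalso
      have h2 := h4 _ hwD.1 hwA.2 h1
      rw [hb'w, ← huz] at h2
      exact hbz (mul_left_cancel h2)
    · exfalso
      have h2 := h1.inZ_mul h
      rw [hb'w, ← mul_assoc, huu, one_mul] at h2
      have hxb' : x ≠ b' := by
        rintro h3
        rw [← h3] at hb'N
        exact hxN hb'N
      have h3 := TI.of_mem_RZ h hK.inZ h2 hxb' hb'x
      rcases (cen_iff h hz h2).1 hb'z with h5 | h5
      · exact hbz h5.symm
      · exact hti.not_cp h ((h3.cp_iff h hb'x hz).2 h5.symm)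
    · exact h1.cases.resolve_right (nil.not_ff h huD (mem_NZ hwD))
  have hUB : β U B = 1 := by rw [hW, F.addr, F.alt, zero_add] at hUW; exact hUW
  -- `λ = β(b', ·)`
  have hlam : ∀ n, σ n = n + sm (β n B) B := by
    intro n
    obtain ⟨ε, hε⟩ := hσn n
    have h1 := F.conj nil h E (fun c hc => ZS_conj h hc haz) hσ U n
    rw [hσU, hε, F.addl, F.addr, F.addr, F.smr, F.smr, hUB, F.alt] at h1
    have key : ∀ ε s t : ZMod 2, s + ε * 1 + (t + ε * 0) = s → ε = t := by decide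
    have h2 := key _ _ _ h1
    rw [hε, h2, F.symm n B]
  -- `k` with `χ = 1`
  obtain ⟨M, hM⟩ := nil.inZ _ hUD
  obtain ⟨k, hk, hkk, A, hA1, hA2, hA3, hA4⟩ := F.exists_chi nil h E hUD hUW hM
  have hAU : β U A = 0 := F.perp nil h hUD hA3
  have hBW : B = U + W := by rw [hW, ← add_assoc, two, zero_add]
  have hAB : β A B = 1 := by
    rw [hBW, F.addr, F.symm A U, hAU, F.symm A W, hA4, zero_add]
  have hσA : σ A = A + B := by rw [hlam, hAB, sm_one]
  have hABw : ι (A + B) ∈ RZ Om (ι W) := by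
    have h1 := RZ_conj h a hA3
    rwa [← hσ, ← hσ, hσU, hσA, ← hW] at h1
  have hkAB : k * ι (A + B) * k⁻¹ = b' := by
    have h1 := F.act nil h E hUD hUW hM hk hA2 hA3 (A + B)
    have e1 : β (A + B) U = 1 := by rw [F.addl, F.symm A U, hAU, F.symm B U, hUB, zero_add]
    have e2 : β (A + B) A = 1 := by rw [F.addl, F.alt, F.symm B A, hAB, zero_add]
    rw [h1, sg, hA4, e1, e2]
    simp only [sm_one]
    rw [← hB]
    congr 1
    calc A + B + (A + U) + U = (A + A) + B + (U + U) := by abel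
      _ = B := by rw [two, two, zero_add, add_zero]
  -- `y`
  obtain ⟨y, hy⟩ : ∃ y, y = k * ι W * k⁻¹ := ⟨_, rfl⟩
  have hkU : k ∈ RZ Om u := by rw [← hU]; exact hM.le_RZ hk
  have hkz : k * z = z * k := cp_RZ h hzu.symm hkU (z_mem_RZ hz h)
  have hyA : y ∈ A0 Om z := by
    rw [hy, hιW]; exact A0_conj h hkz hwA
  have hyι : y = ι (W + A) := by rw [hy, hA2]
  have hb'y : b' ∈ RZ Om y := by
    have h1 := RZ_conj h k hABw
    rwa [hkAB, ← hy] at h1
  have hay : a * y = y * a := by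
    have h1 : σ (W + A) = W + A := by
      rw [hlam, F.addl, hAB, hBW, F.addr, F.alt, F.symm W U, hUW]
      rw [show (1 : ZMod 2) + 0 + 1 = 0 by decide, sm_zero, add_zero]
    have h2 := hσ (W + A)
    rw [h1, ← hyι] at h2
    rw [eq_mul_inv_iff_mul_eq] at h2
    exact h2.symm
  have hyN : y ∈ NZ Om z := by rw [hyι]; exact E.cl _
  have hyx : x * y = y * x := (hxN' y hyN).symm
  have hxy : x ≠ y := by
    rintro rfl
    exact hxN hyN
  have hyk : y = (k * a) * u * (k * a)⁻¹ := by rw [hy, hιW]; group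
  have hsw : Swp Om u (a * u * a⁻¹) := by
    have h1 := (F.swp hUD).1 hUW
    rwa [hU, hιW] at h1
  refine ⟨y, hyA, a, k, hK.le_RZ ha.1, haz, hkU, hkz, hyk, ⟨hK.inZ, ?_⟩, hwD, hsw, b', hb'N, hxb⟩
  rcases tri h hK.inZ hyA.1 hxy hyx with h1 | h1 | ⟨h1, -⟩
  · exfalso
    have h2 : b' ∈ CX Om x := by
      rw [mem_CX]
      intro M hM k hk
      exact (cp_RZ h h1 (hM.le_RZ hk) hb'y).symm
    rcases RZ_CX h hK.inZ hb'x h2 with h3 | h3
    · exact hb1 h3
    · rw [h3] at hb'N; exact hxN hb'N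
  · exact tt_II_cx h hyA.2 hti h1
  · exfalso
    rcases h1.cases with h2 | h2
    · have h3 : a ∈ cj y K := by
        rw [mem_cj]
        have h4 : y⁻¹ * a * y = a := by rw [mul_assoc, hay]; group
        rw [h4]; exact ha.1
      rcases hK.inf (h2.mem h hK) h (h2.ne hK) ha.1 h3 with h4 | h4
      · rw [h4, one_mul] at haa; exact hK.inZ.z1 h haa.symm
      · rw [h4, hxx] at haa; exact hK.inZ.z1 h haa.symm
    · exact tt_If h hyA.2 hti hyA.1 h2

/-- **(R1a)** -/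
theorem r_one_a (h : WM Om) (l0 : L0 Om) (an : ANt Om z) (hu : InZ Om u) (hzu : CP Om z u) (hti : TI Om x z)
    (hs : Swp Om x u) (h4 : ∀ e, InZ Om e → CP Om z e → CP Om u e → e = z * u) :
    x ∈ NZ Om z ∨ ∃ y ∈ A0 Om z, ∃ a k, a ∈ RZ Om x ∧ a * z = z * a ∧ k ∈ RZ Om u ∧ k * z = z * k ∧
      y = (k * a) * u * (k * a)⁻¹ ∧ x ∈ ZS Om (z * y) ∧ a * u * a⁻¹ ∈ ZS Om z ∧ Swp Om u (a * u * a⁻¹) := by
  rcases r_one_a_b h l0 an hu hzu hti hs h4 with h1 | ⟨y, hy, a, k, h1, h2, h3, h5, h6, h7, h8, h9, -⟩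
  · exact Or.inl h1
  · exact Or.inr ⟨y, hy, a, k, h1, h2, h3, h5, h6, h7, h8, h9⟩

/-- **(R1c)** -/
theorem r_one_c (h : WM Om) (hz : InZ Om z) (hu : InZ Om u) (hx : InZ Om x) (hzu : CP Om z u) (hsz : Swp Om x z)
    (hK : Mem Om x K) (ha : As K (z * u) a) (haa : a * a = x) :
    ∃ l ∈ K, l * l = x ∧ a * l ≠ l * a ∧ x = (z * a * z⁻¹ * a⁻¹) * (l * z * l⁻¹) * ((a * l) * z * (a * l)⁻¹) ∧
      z * a * z⁻¹ * a⁻¹ ∈ NZ Om (z * u) ∧
      (∀ k ∈ K, a * k ≠ k * a → k * z * k⁻¹ * z = z * (k * z * k⁻¹) ∧ k * z * k⁻¹ * u = u * (k * z * k⁻¹) ∧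
        ¬ Inn Om (k * z * k⁻¹) (z * u)) := by
  have hzz := hz.z2 h
  have hxx := hx.z2 h
  have hzc : z * u = u * z := cp_comm h hz hu hzu
  have haz : a * (z * u) = (z * u) * a := ha.comm.symm
  have hz' : z⁻¹ = z := inv_eq_of_mul_eq_one_right hzz
  obtain ⟨l, hl, hll, hal⟩ := hK.exists_nc h ha.1 haa
  -- `k z k⁻¹ = z x qq z k`
  have kz : ∀ k ∈ K, k * k = x → k * z * k⁻¹ = z * (x * qq z k) := by
    intro k hk hkk
    rw [← swp_commutator h hK hsz hk hkk, hz']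
    calc k * z * k⁻¹ = (z * z) * k * z * k⁻¹ := by rw [hzz, one_mul]
      _ = _ := by group
  have hall : (a * l) * (a * l) = x := by
    have h5 := hK.anti h ha.1 haa hl hll hal
    rw [mul_inv_eq_iff_eq_mul] at h5
    calc (a * l) * (a * l) = a * (l * a) * l := by group
      _ = a * (x * a * l) * l := by rw [h5]
      _ = (a * x) * a * (l * l) := by group
      _ = (x * a) * a * (l * l) := by rw [hK.comm_z h ha.1]
      _ = x * (a * a) * (l * l) := by group
      _ = x := by rw [haa, hll, hxx, one_mul]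
  refine ⟨l, hl, hll, hal, ?_, ?_, ?_⟩
  · rw [swp_commutator h hK hsz ha.1 haa, kz l hl hll, kz (a * l) (mul_mem ha.1 hl) hall, qq_mul hsz h hK ha.1 hl]
    have q1 := qq_sq hsz h hK ha.1
    have q2 := qq_sq hsz h hK hl
    have z1 := qq_comm hsz h hzz hK ha.1
    have z2 := qq_comm hsz h hzz hK hl
    have x1 := RZ_le_centralizer h (qq_mem hsz h hK ha.1)
    have x2 := RZ_le_centralizer h (qq_mem hsz h hK hl)
    have hzx : z * x = x * z := hsz.1
    have q12 : qq z a * qq z l = qq z l * qq z a := by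
      rw [← qq_mul hsz h hK ha.1 hl, ← qq_mul hsz h hK hl ha.1]
      have h1 := hK.anti h ha.1 haa hl hll hal
      rw [mul_inv_eq_iff_eq_mul] at h1
      rw [h1, mul_assoc, qq_mul hsz h hK (hK.zmem h) (mul_mem ha.1 hl), qq_z hsz hx h, one_mul]
    generalize qq z a = p at *
    generalize qq z l = q at *
    symm
    calc x * p * (z * (x * q)) * (z * (x * (p * q)))
        = x * p * z * x * (q * z) * x * p * q := by group
      _ = x * p * z * x * (z * q) * x * p * q := by rw [z2]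
      _ = x * p * (z * x) * z * (q * x) * p * q := by group
      _ = x * p * (x * z) * z * (x * q) * p * q := by rw [hzx, x2]
      _ = x * p * x * (z * z) * x * (q * p) * q := by group
      _ = x * p * (x * x) * (p * q) * q := by rw [hzz, q12]; group
      _ = x * (p * p) * (q * q) := by rw [hxx]; group
      _ = x := by rw [q1, q2, mul_one, mul_one]
  · have h1 : z ∈ ZS Om (z * u) := ⟨hz, mul_mem (z_mem_CX h) (cp_cx h hu hzu)⟩
    have h2 : z * a * z⁻¹ * a⁻¹ = z * (a * z⁻¹ * a⁻¹) := by group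
    rw [h2]
    exact mul_mem (mem_NZ h1) (NZ_conj h haz (inv_mem (mem_NZ h1)))
  · intro k hk hak
    have hkk : k * k = x := by
      rcases hK.sq_cases h hk with h1 | h1 | h1
      · exact absurd (by rw [h1, mul_one, one_mul]) hak
      · exact absurd (by rw [h1]; exact hK.comm_z h ha.1) hak
      · exact h1
    have e1 : k * z * k⁻¹ * z = z * (k * z * k⁻¹) := by
      rw [kz k hk hkk]
      have c1 := qq_comm hsz h hzz hK hk
      calc z * (x * qq z k) * z = z * x * (qq z k * z) := by group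
        _ = z * x * (z * qq z k) := by rw [c1]
        _ = z * (x * z) * qq z k := by group
        _ = z * (z * x) * qq z k := by rw [hsz.1]
        _ = _ := by group
    -- `z u` moves `k` to `x k`
    have h1 : (z * u) * k * (z * u)⁻¹ = x * k := by
      rw [ha.2 k hk]
      exact hK.anti h hk hkk ha.1 haa (fun h2 => hak h2.symm)
    have hzuz : (z * u) * z = z * (z * u) := by rw [mul_assoc, ← hzc]
    have e2 : (z * u) * (k * z * k⁻¹) = (k * z * k⁻¹) * (z * u) := by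
      rw [← mul_inv_eq_iff_eq_mul]
      calc (z * u) * (k * z * k⁻¹) * (z * u)⁻¹
          = ((z * u) * k * (z * u)⁻¹) * ((z * u) * z * (z * u)⁻¹) * ((z * u) * k * (z * u)⁻¹)⁻¹ := by group
        _ = (x * k) * z * (x * k)⁻¹ := by rw [h1, hzuz, mul_inv_cancel_right]
        _ = x * (k * z * k⁻¹) * x⁻¹ := by group
        _ = k * z * k⁻¹ := by
          have h3 : x * (k * z * k⁻¹) = (k * z * k⁻¹) * x := by
            have hkx := hK.comm_z h hk
            have hki : k⁻¹ * x = x * k⁻¹ := by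
              rw [inv_mul_eq_iff_eq_mul, ← mul_assoc, hkx, mul_inv_cancel_right]
            calc x * (k * z * k⁻¹) = (x * k) * z * k⁻¹ := by group
              _ = (k * x) * z * k⁻¹ := by rw [hkx]
              _ = k * (x * z) * k⁻¹ := by group
              _ = k * (z * x) * k⁻¹ := by rw [hsz.1]
              _ = k * z * (x * k⁻¹) := by group
              _ = _ := by rw [← hki]; group
          rw [h3, mul_inv_cancel_right]
    have hu' : u = z * (z * u) := by rw [← mul_assoc, hzz, one_mul]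
    refine ⟨e1, ?_, ?_⟩
    · rw [hu']
      calc k * z * k⁻¹ * (z * (z * u)) = (k * z * k⁻¹ * z) * (z * u) := by group
        _ = z * ((k * z * k⁻¹) * (z * u)) := by rw [e1]; group
        _ = _ := by rw [← e2]; group
    · intro hi
      have h2 := hi.conj h k⁻¹
      rw [show k⁻¹ * (k * z * k⁻¹) * k⁻¹⁻¹ = z by group] at h2
      -- `k⁻¹ (z u) k = x (z u)` up to order
      have h3 : k⁻¹ * (z * u) * k⁻¹⁻¹ = x * (z * u) := by
        rw [inv_inv]
        have h4 : (z * u) * k = x * k * (z * u) := by rwa [mul_inv_eq_iff_eq_mul] at h1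
        rw [mul_assoc, h4]
        have hkx := hK.comm_z h hk
        rw [← hkx]
        group
      rw [h3] at h2
      have h4 : Inn Om z (z * u) := Inn.of_CX (mul_mem (z_mem_CX h) (cp_cx h hu hzu))
      have h5 : Inn Om z x := Inn.mul_right h4 h2 hz h
      have hxz : x ≠ z := by
        rintro rfl
        obtain ⟨K', hK'⟩ := hx
        exact hsz.2 K' hK' ((Inn.of_CX (z_mem_CX h)).cj_eq hK' h)
      rcases tri h hx hz hxz hsz.1.symm with h6 | h6 | ⟨-, h6⟩
      · exact hsz.2 K hK ((inn_of_cp h hz h6).cj_eq hK h)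
      · exact hsz.2 K hK (h6.inn.cj_eq hK h)
      · exact h6.not_inn h hz h5

end Fin

end Cfsg.Agent.Cit.Nil.RTwoM
end

-- part: Cit/Nil/RTwoM/U/RZero
section
/-!
# S1309, (6b), (C3), `r = 2`, any `m`, `LAMBDA0`: (R0) (helper762, #19890)

* `AAS Om S = ⟨Z(t) : t ∈ T_S#⟩`; `TT_le_NZ`; `NZ_le_AAS`;
* `Ex4 Om S x p s` : the exceptional action `{1, I_b, p, p I_b}` of `T_S` on `R_x`;
* **`rzero`** : `x ∈ Z ∩ C(T_S)`, `C_{T_S}(R_x) = 1`: `x ∈ AAS Om S` or the exceptional action.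
-/

set_option autoImplicit false
set_option linter.style.haveILetI false
set_option linter.unusedSectionVars false

namespace Cfsg.Agent.Cit.Nil.RTwoM

open Subgroup Cfsg Cfsg.Agent.Cit

open RTwo (Q3)
open RG (WR CP Ov InO Tr)
open RI (CS)

variable {G : Type*} [Group G] {Om : Set (Subgroup G)} {K L M : Subgroup G} {D : Set G}
  {a b c d g g' k l m n p q r s t u v w x y z : G}

/-- `⟨Z(t) : t ∈ T_S#⟩` -/
def AAS (Om : Set (Subgroup G)) (S : Subgroup G) : Subgroup G :=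
  _root_.Subgroup.closure {y | ∃ t ∈ TT Om S, t ≠ 1 ∧ y ∈ ZS Om t}

/-- the exceptional action `{1, I_b, p, p I_b}` of `T_S` on `R_x` : `s` acts as `I_b`, `p` is a swap -/
structure Ex4 (Om : Set (Subgroup G)) (S : Subgroup G) (x p s : G) : Prop where
  pT : p ∈ TT Om S
  sT : s ∈ TT Om S
  swp : Swp Om x p
  s1 : s ≠ 1
  all : ∀ t ∈ TT Om S, t = 1 ∨ t = s ∨ t = p ∨ t = p * s
  as : ∀ K, Mem Om x K → ∃ a ∈ K, a * a = x ∧ As K s a ∧ As (cj p K) s (p * a * p⁻¹)

section Fin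

variable [Finite G]

theorem NZ_le_AAS {S : Subgroup G} (ht : t ∈ TT Om S) (ht1 : t ≠ 1) : NZ Om t ≤ AAS Om S :=
  closure_mono fun _ hy => ⟨t, ht, ht1, hy⟩

/-- `T_S ≤ N_t` -/
theorem TT_le_NZ (h : WM Om) {S : Subgroup G} (hS : IsPGroup 2 S) (ht : t ∈ TT Om S) : TT Om S ≤ NZ Om t :=
  _root_.Subgroup.closure_mono fun _ hz => CS_subset_ZS h hS ht hz

/-- `s ∈ T`, `r ∈ C_{R_x}(t)` : `[s, r] ∈ AAS` -/
theorem LJ_T (h : WM Om) {S : Subgroup G} (hS : IsPGroup 2 S) (hx : ∀ t ∈ TT Om S, t * x = x * t)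
    (hs : s ∈ TT Om S) (ht : t ∈ TT Om S) (ht1 : t ≠ 1) (hr : r ∈ RZ Om x) (hrt : r * t = t * r) :
    s * r * s⁻¹ * r⁻¹ ∈ AAS Om S :=
  NZ_le_AAS ht ht1 (LJ h (TT_le_NZ h hS ht hs) (hx s hs) hr hrt).1

theorem swp_mul_fix (h : WM Om) (hK : Mem Om x K) (hp : Swp Om x p) (hs : s * x = x * s) (hsK : cj s K = K) :
    Swp Om x (p * s) := by
  refine Swp.of_one h hK ?_ ?_
  · rw [mul_assoc, hs, ← mul_assoc, hp.1, mul_assoc]
  · rw [cj_mul, hsK]; exact hp.2 K hK

/-- a transposition and a swap in `T` : `x ∈ AAS` -/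
theorem rzero_tr (h : WM Om) {S : Subgroup G} (hS : IsPGroup 2 S) (hK : Mem Om x K)
    (hx : ∀ t ∈ TT Om S, t * x = x * t) (hp : p ∈ TT Om S) (hsp : Swp Om x p) (ht : t ∈ TT Om S)
    (htK : cj t K = K) (ha : Tr t K a) : x ∈ AAS Om S := by
  have haa := Tr.sq' ha hK
  have hxx := hK.inZ.z2 h
  have hsw' : Swp Om x (p * t) := swp_mul_fix h hK hsp (hx t ht) htK
  obtain ⟨b, hb, hbb, hba, hba'⟩ := hK.exists_off h ha.mem haa
  have hcom := ha.com b hb (by rw [hbb, hK.2]) hba hba'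
  have htb : t * b * t⁻¹ ∈ K := by
    have := conj_mem_cj (g := t) hb
    rwa [htK] at this
  have key : ∀ p, p ∈ TT Om S → Swp Om x p → qq p a ∈ AAS Om S := by
    intro p hp hsw
    have hpp := TT_sq h hS hp
    have htp := TT_comm h hS ht hp
    have hp1 : p ≠ 1 := by
      rintro rfl
      exact hsw.2 K hK (cj_one K)
    have h1 := LJ_T h hS hx ht hp hp1 (qq_mem hsw h hK hb) (qq_comm hsw h hpp hK hb).symm
    have h2 : t * qq p b * t⁻¹ = qq p (t * b * t⁻¹) := by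
      rw [qq, qq]
      calc t * (b * (p * b * p⁻¹)) * t⁻¹ = (t * b * t⁻¹) * ((t * p) * b * (t * p)⁻¹) := by group
        _ = (t * b * t⁻¹) * ((p * t) * b * (p * t)⁻¹) := by rw [htp]
        _ = _ := by group
    have h3 : t * qq p b * t⁻¹ * (qq p b)⁻¹ = qq p (t * b * t⁻¹ * b⁻¹) := by
      rw [h2, mul_inv_eq_iff_eq_mul, ← qq_mul hsw h hK (mul_mem htb (inv_mem hb)) hb, inv_mul_cancel_right]
    rw [h3] at h1
    rcases hcom with h4 | h4
    · rwa [h4] at h1
    · have h5 : qq p a⁻¹ = qq p a := by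
        rw [hK.inv_eq h ha.mem haa, qq_mul hsw h hK (hK.zmem h) ha.mem, qq_z hsw hK.inZ h, one_mul]
      rwa [h4, h5] at h1
  have h1 := key p hp hsp
  have h2 := key (p * t) (mul_mem hp ht) hsw'
  have h3 : qq (p * t) a = x * qq p a := by
    rw [qq, qq]
    calc a * (p * t * a * (p * t)⁻¹) = a * (p * (t * a * t⁻¹) * p⁻¹) := by group
      _ = a * (p * (x * a) * p⁻¹) := by rw [Tr.inv' ha hK h]
      _ = a * ((p * x) * a * p⁻¹) := by group
      _ = a * x * (p * a * p⁻¹) := by rw [hsp.1]; group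
      _ = _ := by rw [hK.comm_z h ha.mem]; group
  rw [h3] at h2
  have := mul_mem h2 (inv_mem h1)
  rwa [mul_inv_cancel_right] at this

/-- a nontrivial element of `T` fixing `K` which acts as `y ∈ K` : `y² = x` -/
theorem sq_of_as_T (h : WM Om) {S : Subgroup G} (hS : IsPGroup 2 S) (hK : Mem Om x K)
    (hT : ∀ t ∈ TT Om S, t ∈ CX Om x → t = 1) (hp : p ∈ TT Om S) (hsp : Swp Om x p) (ht : t ∈ TT Om S) (ht1 : t ≠ 1)
    (hy : As K t y) : y * y = x := by
  by_contra hcon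
  apply ht1
  apply hT t ht
  have hL := hsp.mem h hK
  have hy' : As (cj p K) t (p * y * p⁻¹) := hy.conj_comm (TT_comm h hS hp ht)
  have h1 : y = 1 ∨ y = x := by
    rcases hK.sq_cases h hy.1 with h1 | h1 | h1
    · exact Or.inl h1
    · exact Or.inr h1
    · exact absurd h1 hcon
  rw [mem_CX]
  intro M hM k hk
  rcases hK.cases hL h (hsp.ne hK) hM with rfl | rfl
  · have h2 := hy.2 k hk
    rcases h1 with h1 | h1
    · rw [h1, one_mul, inv_one, mul_one, mul_inv_eq_iff_eq_mul] at h2; exact h2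
    · rw [h1, ← hM.comm_z h hk, mul_inv_cancel_right, mul_inv_eq_iff_eq_mul] at h2; exact h2
  · have h2 := hy'.2 k hk
    rcases h1 with h1 | h1
    · rw [h1, mul_one, mul_inv_cancel, one_mul, inv_one, mul_one, mul_inv_eq_iff_eq_mul] at h2; exact h2
    · rw [h1, hsp.1, mul_inv_cancel_right, ← hM.comm_z h hk, mul_inv_cancel_right, mul_inv_eq_iff_eq_mul] at h2
      exact h2

/-- **(R0)** -/
theorem rzero (h : WM Om) (l0 : L0 Om) (an : ANT Om) (S : Sylow 2 G) (hx : InZ Om x)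
    (hxT : ∀ t ∈ TT Om (S : Subgroup G), t * x = x * t)
    (hT : ∀ t ∈ TT Om (S : Subgroup G), t ∈ CX Om x → t = 1) (hz : z ∈ CS Om (S : Subgroup G))
    (hu : u ∈ CS Om (S : Subgroup G)) (hzu : z ≠ u) :
    x ∈ AAS Om (S : Subgroup G) ∨ ∃ p s, Ex4 Om (S : Subgroup G) x p s := by
  obtain ⟨K, hK⟩ := hx
  have hS := S.isPGroup'
  have hxx := hK.inZ.z2 h
  have sq : ∀ {t : G}, t ∈ TT Om (S : Subgroup G) → t * t = 1 := fun ht => TT_sq h hS ht
  by_cases hsw : ∃ p ∈ TT Om (S : Subgroup G), Swp Om x p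
  · obtain ⟨p, hp, hsp⟩ := hsw
    have hpp := sq hp
    have hL := hsp.mem h hK
    have hne := hsp.ne hK
    by_cases htr : ∃ t ∈ TT Om (S : Subgroup G), ∃ a, cj t K = K ∧ Tr t K a
    · obtain ⟨t, ht, a, htK, ha⟩ := htr
      exact Or.inl (rzero_tr h hS hK hxT hp hsp ht htK ha)
    -- the elements fixing `K` are inner
    have has : ∀ t ∈ TT Om (S : Subgroup G), cj t K = K → ∃ y, As K t y := by
      intro t ht htK
      rcases h.wr.inn_or_tr hK.1 htK (sq ht) with ⟨y, hy, h1⟩ | ⟨a, ha⟩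
      · exact ⟨y, hy, h1⟩
      · exact (htr ⟨t, ht, a, htK, ha⟩).elim
    -- `x q_p(y) ∈ AAS`
    have hq : ∀ {t y : G}, t ∈ TT Om (S : Subgroup G) → t ≠ 1 → As K t y → y * y = x →
        x * qq p y ∈ AAS Om (S : Subgroup G) := by
      intro t y ht ht1 hy hyy
      have h1 := LJ_T h hS hxT hp ht ht1 (hK.le_RZ hy.1) hy.comm.symm
      have h2 : p * y * p⁻¹ * y⁻¹ = x * qq p y := by
        rw [hK.inv_eq h hy.1 hyy, qq, ← hsp.cm h hK (mul_mem (hK.zmem h) hy.1) hy.1, mul_assoc]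
      rwa [h2] at h1
    by_cases h2 : ∃ s ∈ TT Om (S : Subgroup G), ∃ t ∈ TT Om (S : Subgroup G), s ≠ 1 ∧ t ≠ 1 ∧ s ≠ t ∧ cj s K = K ∧
        cj t K = K
    · left
      obtain ⟨s, hs, t, ht, hs1, ht1, hst, hsK, htK⟩ := h2
      obtain ⟨y, hy⟩ := has s hs hsK
      obtain ⟨y', hy'⟩ := has t ht htK
      have hyy := sq_of_as_T h hS hK hT hp hsp hs hs1 hy
      have hyy' := sq_of_as_T h hS hK hT hp hsp ht ht1 hy'
      have hst1 : s * t ≠ 1 := fun h3 => hst (by
        rw [eq_inv_of_mul_eq_one_left h3, inv_eq_of_mul_eq_one_right (sq ht)])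
      have hy3 := hy.mul hy'
      have hyy3 := sq_of_as_T h hS hK hT hp hsp (mul_mem hs ht) hst1 hy3
      have q1 := hq hs hs1 hy hyy
      have q2 := hq ht ht1 hy' hyy'
      have q3 := hq (mul_mem hs ht) hst1 hy3 hyy3
      rw [qq_mul hsp h hK hy.1 hy'.1] at q3
      have h4 := mul_mem q1 q2
      have hcx : qq p y * x = x * qq p y := RZ_le_centralizer h (qq_mem hsp h hK hy.1)
      have h5 : x * qq p y * (x * qq p y') = qq p y * qq p y' := by
        calc x * qq p y * (x * qq p y') = x * (qq p y * x) * qq p y' := by group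
          _ = x * (x * qq p y) * qq p y' := by rw [hcx]
          _ = (x * x) * (qq p y * qq p y') := by group
          _ = _ := by rw [hxx, one_mul]
      rw [h5] at h4
      have := mul_mem q3 (inv_mem h4)
      rwa [mul_inv_cancel_right] at this
    · right
      have huniq : ∀ s ∈ TT Om (S : Subgroup G), ∀ t ∈ TT Om (S : Subgroup G), s ≠ 1 → t ≠ 1 → cj s K = K →
          cj t K = K → s = t := by
        intro s hs t ht hs1 ht1 hsK htK
        by_contra hcon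
        exact h2 ⟨s, hs, t, ht, hs1, ht1, hcon, hsK, htK⟩
      -- an element fixing `K`
      have hex : ∃ s ∈ TT Om (S : Subgroup G), s ≠ 1 ∧ cj s K = K := by
        have hzT := CS.mem_TT hz
        have huT := CS.mem_TT hu
        rcases cj_cases h hK hL hne (hxT z hzT) with h3 | h3
        · exact ⟨z, hzT, (CS.inZ hz).z1 h, h3.1⟩
        rcases cj_cases h hK hL hne (hxT u huT) with h4 | h4
        · exact ⟨u, huT, (CS.inZ hu).z1 h, h4.1⟩
        refine ⟨z * u, mul_mem hzT huT, fun h5 => hzu ?_, ?_⟩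
        · rw [eq_inv_of_mul_eq_one_left h5, (CS.inZ hu).inv h]
        · rw [cj_mul, h4.1, h3.2]
      obtain ⟨s, hs, hs1, hsK⟩ := hex
      refine ⟨p, s, hp, hs, hsp, hs1, fun t ht => ?_, fun M hM => ?_⟩
      · by_cases h1 : cj t K = K
        · by_cases h3 : t = 1
          · exact Or.inl h3
          · exact Or.inr (Or.inl (huniq t ht s hs h3 hs1 h1 hsK))
        · right; right
          have h3 : cj (p * t) K = K := by
            rcases cj_cases h hK hL hne (hxT t ht) with h6 | h6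
            · exact absurd h6.1 h1
            rw [cj_mul, h6.1, ← cj_mul, hpp, cj_one]
          have h4 : ∀ g : G, p * (p * g) = g := fun g => by rw [← mul_assoc, hpp, one_mul]
          by_cases h5 : p * t = 1
          · left
            rw [← h4 t, h5, mul_one]
          · right
            rw [← huniq _ (mul_mem hp ht) s hs h5 hs1 h3 hsK, h4]
      · obtain ⟨y, hy⟩ := has s hs hsK
        have hyy := sq_of_as_T h hS hK hT hp hsp hs hs1 hy
        have hps := TT_comm h hS hp hs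
        have hy' : As (cj p K) s (p * y * p⁻¹) := hy.conj_comm hps
        rcases hK.cases hL h hne hM with rfl | rfl
        · exact ⟨y, hy.1, hyy, hy, hy'⟩
        · refine ⟨p * y * p⁻¹, hy'.1, ?_, hy', ?_⟩
          · calc p * y * p⁻¹ * (p * y * p⁻¹) = p * (y * y) * p⁻¹ := by group
              _ = x := by rw [hyy, hsp.1, mul_inv_cancel_right]
          · exact hy'.conj_comm hps
  · -- no swap
    left
    push Not at hsw
    have hzT := CS.mem_TT hz
    have huT := CS.mem_TT hu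
    have typ : ∀ {v : G}, v ∈ CS Om (S : Subgroup G) → TI Om x v ∨ Ff Om x v := by
      intro v hv
      have hvT := CS.mem_TT hv
      have hv1 := (CS.inZ hv).z1 h
      have hxv : x ≠ v := by
        rintro rfl
        exact hv1 (hT _ hvT (z_mem_CX h))
      rcases tri h hK.inZ (CS.inZ hv) hxv (hxT v hvT).symm with h1 | h1 | h1
      · exact (hv1 (hT v hvT (cp_cx h (CS.inZ hv) h1))).elim
      · exact Or.inl h1
      · rcases h1.1.cases with h2 | h2
        · exact (hsw v hvT h2).elim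
        · exact Or.inr h2
    have hc := CS.cp hz h hS hu hzu
    have hzu1 : z * u ≠ 1 := fun h5 => hzu (by rw [eq_inv_of_mul_eq_one_left h5, (CS.inZ hu).inv h])
    rcases typ hz with iz | fz <;> rcases typ hu with iu | fu
    · exact (hzu1 (hT _ (mul_mem hzT huT) (tt_II_cx h hc iz iu))).elim
    · exact (tt_If h hc iz (CS.inZ hu) fu).elim
    · exact (tt_If h hc.symm iu (CS.inZ hz) fz).elim
    · obtain ⟨a, ha⟩ := fz.exists_tr h (sq hzT) hK
      have haa := Tr.sq' ha hK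
      obtain ⟨-, h2⟩ := tt_ff h l0 hc (an S _ (mul_mem hzT huT) hzu1) (CS.inZ hz) (CS.inZ hu) fz fu hK ha
      have h3 := LJ_T h hS hxT hzT (mul_mem hzT huT) hzu1 (hK.le_RZ ha.mem) h2.comm.symm
      rwa [Tr.inv' ha hK h, mul_inv_cancel_right] at h3

end Fin

end Cfsg.Agent.Cit.Nil.RTwoM
end

private theorem dce_d7652a171569 : _root_.True := by
  try have : _root_.True := by simp only [_root_.Cfsg.Agent.Cit.Nil.RTwoM.AA.eq_1]
  try have : _root_.True := by simp only [_root_.Cfsg.Agent.Cit.Nil.RTwoM.TT.eq_1]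
  exact _root_.True.intro
end

-- part: Cit/Nil/RTwoM/MThree/Types_mg
section
prune_inst 0x502200000000000080002000000000000000000121000200020800018000000030000000110008200008800000440069001000002000820000000000042020c000000000010000405801180c00000000000000000000000000000000000000000
set_option linter.all false
open scoped Cfsg.Agent.FastGrp

-- part: Cit/Nil/RTwoM/MThree/Types
section
/-!
# S1309, (6b), (C3), `r = 2`, `m = 3`, `|T| = 4` (helper545, bb #18935): (5), (6), (H)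

`x ∈ Z ∩ C(z)` moves some `u ∈ a₀(z)`.

* `five_a` : `z` of type `f` at `x`, `v ∈ a₀(z) ∩ C(x)` : `v` is a swap at `x`; `five_b`, `five_c`;
* `G8`, `H8`, `H8'` : what is used of the block theorem;
* `W3.five` (5), `W3.six_a` (6a), `W3.six_b`, `W3.six` (6), **`W3.hh`** (H).
-/

set_option autoImplicit false
set_option linter.style.haveILetI false
set_option linter.unusedSectionVars false

namespace Cfsg.Agent.Cit.Nil.RTwoM.MThree

open Subgroup Cfsg Cfsg.Agent.Cit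

open RTwo (Q3)
open RG (WR CP Ov InO Tr)
open RI (CS)

variable {G : Type*} [Group G] {Om : Set (Subgroup G)} {K L M : Subgroup G}
  {a b c d e g g' k l n q r s t u v w x y z : G}

/-- `v ∈ a₀(z)` is fixed by `x`, `x` is not of type `f` at `v`, and some moved `u` is of type I with `v` -/
def Fx (Om : Set (Subgroup G)) (z x v : G) : Prop :=
  v ∈ A0 Om z ∧ x * v = v * x ∧ ¬ Ff Om v x ∧ ∃ u ∈ A0 Om z, x * u ≠ u * x ∧ TI Om u v

/-- three fixed elements -/
def G8 (Om : Set (Subgroup G)) (z x : G) : Prop :=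
  ∃ v₁ v₂, TI Om v₁ v₂ ∧ Fx Om z x v₁ ∧ Fx Om z x v₂ ∧ Fx Om z x (v₁ * v₂)

/-- all moved `u ∈ a₀(z)` are swap pairs with `x u x⁻¹` -/
def H8 (Om : Set (Subgroup G)) : Prop := ∀ z x, InZ Om z → InZ Om x → x * z = z * x →
  (∃ u ∈ A0 Om z, x * u ≠ u * x) → (∀ u ∈ A0 Om z, x * u ≠ u * x → Swp Om u (x * u * x⁻¹)) → G8 Om z x

/-- a swap pair in `a₀(z)` : there is a type I pair in `a₀(z)` -/
def H8' (Om : Set (Subgroup G)) : Prop := ∀ z u v, InZ Om z → u ∈ A0 Om z → v ∈ A0 Om z → Swp Om u v →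
  ∃ u ∈ A0 Om z, ∃ v ∈ A0 Om z, TI Om u v

section Fin

variable [Finite G]

theorem qq_ne (hs : Swp Om z x) (h : WM Om) (hK : Mem Om z K) (hk : k ∈ K) (hkk : k * k = z) :
    qq x k ≠ 1 ∧ qq x k ≠ z := by
  have hzz := hK.inZ.z2 h
  constructor
  · intro h1
    rcases qq_eq_one hs h hK hk h1 with h2 | h2
    · rw [h2, one_mul] at hkk; exact hK.inZ.z1 h hkk.symm
    · rw [h2, hzz] at hkk; exact hK.inZ.z1 h hkk.symm
  · intro h1
    have h2 : x * k * x⁻¹ = k⁻¹ * z := by rw [eq_inv_mul_iff_mul_eq]; exact h1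
    have h3 : k⁻¹ * z ∈ K := Subgroup.mul_mem _ (Subgroup.inv_mem _ hk) (hK.zmem h)
    have h4 : x * k * x⁻¹ ∈ cj x K := conj_mem_cj hk
    rcases hs.inf h hK h3 h4 h2.symm with h5 | h5
    · have h6 : z = k := by rw [inv_mul_eq_one] at h5; exact h5.symm
      rw [← h6, hzz] at hkk; exact hK.inZ.z1 h hkk.symm
    · have h6 : k = 1 := by
        rw [inv_mul_eq_iff_eq_mul] at h5
        exact mul_eq_right.1 h5.symm
      rw [h6, one_mul] at hkk; exact hK.inZ.z1 h hkk.symm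

/-- an involution acting on `M` and fixing `c ∈ M` of order 4 acts as `1` or as `c` -/
theorem as_of_fix (h : WM Om) (hM : Mem Om x M) (hc : c ∈ M) (hcc : c * c = x) (hl : l * l = 1) (hlM : cj l M = M)
    (hlc : l * c * l⁻¹ = c) : As M l 1 ∨ As M l c := by
  rcases h.wr.inn_or_tr hM.1 hlM hl with ⟨y, hy, h1⟩ | ⟨a, ha⟩
  · have h2 : c * y = y * c := by
      have h3 := h1 c hc
      rw [hlc, eq_mul_inv_iff_mul_eq] at h3
      exact h3
    have h4 : As M l y := ⟨hy, h1⟩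
    have h5 : As M x 1 := hM.as_z h
    rcases hM.of_comm h hc hcc hy h2 with h3 | h3 | h3 | h3
    · left; rw [h3] at h4; exact h4
    · left
      rw [h3] at h4
      refine As.one_iff.2 fun k hk => ?_
      have h6 := h4.2 k hk
      rw [← hM.comm_z h hk, mul_inv_cancel_right, mul_inv_eq_iff_eq_mul] at h6
      exact h6
    · right; rw [h3] at h4; exact h4
    · right
      rw [h3] at h4
      refine ⟨hc, fun k hk => ?_⟩
      have h6 := h4.2 k hk
      have h7 : c * k * c⁻¹ ∈ M := mul_mem (mul_mem hc hk) (inv_mem hc)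
      rw [h6]
      calc x * c * k * (x * c)⁻¹ = x * (c * k * c⁻¹) * x⁻¹ := by group
        _ = (c * k * c⁻¹) * x * x⁻¹ := by rw [hM.comm_z h h7]
        _ = _ := by group
  · exfalso
    rcases Tr.comm_iff ha hM h hc hlc with h1 | h1
    · rw [h1, one_mul] at hcc; exact hM.inZ.z1 h hcc.symm
    · rw [h1, hM.inZ.z2 h] at hcc; exact hM.inZ.z1 h hcc.symm

namespace W3

variable (h : W3 Om)

include h

/-! ### (5) -/

theorem five_0 (hz : InZ Om z) (hx : InZ Om x) (hf : Ff Om x z) (hv : v ∈ A0 Om z) :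
    ¬ (x = v ∨ CP Om x v ∨ TI Om x v) := by
  rintro (h1 | h1 | h1)
  · rw [h1] at hf
    exact ff_ncp hf h.w hv.1 hz hv.2.symm
  · exact h.not_ff hv.1 (h.symm_mem hx ⟨hv.1, h1⟩) (h.symm_mem hz hv) hf
  · exact tt_If h.w hv.2.symm h1 hz hf

/-- (5), first lines -/
theorem five_a (hz : InZ Om z) (hx : InZ Om x) (hf : Ff Om x z) (hv : v ∈ A0 Om z) (hc : x * v = v * x) :
    Swp Om x v := by
  have h0 := h.five_0 hz hx hf hv
  rcases four h.w hx hv.1 (fun h1 => h0 (Or.inl h1)) hc with h1 | h1 | h1 | h1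
  · exact absurd (Or.inr (Or.inl h1)) h0
  · exact absurd (Or.inr (Or.inr h1)) h0
  · exact h1
  · exfalso
    obtain ⟨K, hK⟩ := hx
    obtain ⟨a, ha⟩ := hf.exists_tr h.w (hz.z2 h.w) hK
    have h2 := (tt_ff h.w h.l0 hv.2 (h.an1 (h.mul_mem hz hv).1) hz hv.1 hf h1 hK ha).2
    refine h.five_0 hz hK.inZ hf (h.mul_mem hz hv) (inn_cases h.w hK (h.mul_mem hz hv).1 fun k hk => ?_)
    rw [h2.2 k hk]
    exact hK.comm_or h.w hk h2.1

theorem five_b (hz : InZ Om z) (hx : InZ Om x) (hf : Ff Om x z) (hu : u ∈ A0 Om z) (hv : v ∈ A0 Om z)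
    (hcu : x * u = u * x) (hcv : x * v = v * x) : ¬ TI Om u v := by
  intro hti
  have h1 := h.five_a hz hx hf hu hcu
  have h2 := h.five_a hz hx hf hv hcv
  have hcuv : x * (u * v) = u * v * x := by rw [← mul_assoc, hcu, mul_assoc, hcv, mul_assoc]
  have h3 := h.five_a hz hx hf (h.ti_mem hz hu hv hti) hcuv
  exact (swp_mul h.w hx hcu.symm hcv.symm).2 ⟨fun _ => h2, fun _ => h1⟩ h3

/-- `q = u (x u x⁻¹)` -/
theorem qdef (hz : InZ Om z) (hx : InZ Om x) (hc : x * z = z * x) (hu : u ∈ A0 Om z)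
    (hti : TI Om u (x * u * x⁻¹)) : u * (x * u * x⁻¹) ∈ A0 Om z ∧
      x * (u * (x * u * x⁻¹)) = u * (x * u * x⁻¹) * x ∧ x * (u * (x * u * x⁻¹)) = u * x * u⁻¹ := by
  have hxx := hx.z2 h.w
  have hx' := hx.inv h.w
  have hu' := hu.1.inv h.w
  have hux := h.conj_mem hu hc
  have h1 := h.comm hz hu hux
  have h2 : x * (u * (x * u * x⁻¹)) = u * x * u⁻¹ := by
    rw [h1, hx', hu']
    calc x * (x * u * x * u) = (x * x) * u * x * u := by group
      _ = u * x * u := by rw [hxx, one_mul]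
  refine ⟨h.ti_mem hz hu hux hti, ?_, h2⟩
  rw [h2, hx', hu']
  calc u * x * u = u * x * u * (x * x) := by rw [hxx, mul_one]
    _ = u * (x * u * x) * x := by group

theorem five_c (hz : InZ Om z) (hx : InZ Om x) (hf : Ff Om x z) (hu : u ∈ A0 Om z) : ¬ TI Om u (x * u * x⁻¹) := by
  intro hti
  obtain ⟨h1, h2, h3⟩ := h.qdef hz hx hf.1.symm hu hti
  have h4 := h.five_a hz hx hf h1 h2
  refine h.pp hx h1.1 h4 ?_
  rw [h3]
  exact hx.conj h.w u

/-- the moved elements -/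
theorem moved (hz : InZ Om z) (hc : x * z = z * x) (hx : InZ Om x) (hu : u ∈ A0 Om z) (hm : x * u ≠ u * x) :
    TI Om u (x * u * x⁻¹) ∨ Swp Om u (x * u * x⁻¹) := by
  have hux := h.conj_mem hu hc
  have hne : u ≠ x * u * x⁻¹ := fun h1 => hm (by rw [eq_mul_inv_iff_mul_eq] at h1; exact h1.symm)
  rcases tri h.w hu.1 hux.1 hne (h.comm hz hu hux) with h1 | h1 | ⟨h1, -⟩
  · exact absurd h1 (h.l0 u x hu.1 hx)
  · exact Or.inl h1
  · exact Or.inr (h1.cases.resolve_right (h.not_ff hz hu hux))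

/-- **(5)** -/
theorem five (h8 : H8 Om) (hz : InZ Om z) (hx : InZ Om x) (hf : Ff Om x z) (hu : u ∈ A0 Om z) : x * u = u * x := by
  by_contra hm
  obtain ⟨v₁, v₂, h1, h2, h3, -⟩ := h8 z x hz hx hf.1.symm ⟨u, hu, hm⟩ fun w hw hwm =>
    (h.moved hz hf.1.symm hx hw hwm).resolve_left (h.five_c hz hx hf hw)
  exact h.five_b hz hx hf h2.1 h3.1 h2.2.1 h3.2.1 h1

/-! ### (6) -/

/-- **(6a)** -/
theorem six_a (hz : InZ Om z) (hx : InZ Om x) (hs : Swp Om x z) (hu : u ∈ A0 Om z) (hm : x * u ≠ u * x)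
    (hv : v ∈ A0 Om z) : ¬ TI Om x v := by
  intro hti
  have hxx := hx.z2 h.w
  have hzz := hz.z2 h.w
  have hs' := h.swp_symm hx hz hs
  have hc : x * z = z * x := hs'.1
  obtain ⟨M, hM⟩ := hx
  have hM' := hs.mem h.w hM
  have hMM := hs.ne hM
  obtain ⟨c, hcv, hcc⟩ := hti.exists_as h.w hM
  obtain ⟨K, hK⟩ := hz
  obtain ⟨y, Y⟩ := h.w.exists_q3 hK
  have hxv := hti.comm
  -- the nonswaps of `L` centralise `c`
  have key : ∀ l ∈ RZ Om z, x * l = l * x → l * l = 1 → ¬ Swp Om x l → As M l 1 ∨ As M l c := by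
    intro l hl hxl hll hns
    have hlM : cj l M = M := by
      by_contra h1
      exact hns ((swp_iff h.w hM hxl.symm).2 h1)
    have hlv : l * v = v * l := cp_RZ h.w hv.2 hl (z_mem_RZ hv.1 h.w)
    have h1 := hcv.conj_comm hlv
    rw [hlM] at h1
    refine as_of_fix h.w hM hcv.1 hcc hll hlM ?_
    refine (hM.as_unique h.w hcv h1).resolve_right fun h2 => ?_
    -- `[l, c] = x` centralises `R_v`
    refine hti.not_cp h.w (h.mem_of_cx hv.1 hM.inZ hti.ne.symm ?_).2.symm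
    have h3 : x = l * (c * l⁻¹ * c⁻¹) := by
      rw [eq_comm, show l * (c * l⁻¹ * c⁻¹) = (l * c * l⁻¹) * c⁻¹ by group, h2, mul_inv_cancel_right]
    have hlR : ∀ g ∈ RZ Om v, l * g = g * l := fun g hg => cp_RZ h.w hv.2 hl hg
    rw [h3, mem_CX]
    intro N hN k hk
    have hkR := hN.le_RZ hk
    have hvc : c⁻¹ * v = v * c⁻¹ := by
      rw [inv_mul_eq_iff_eq_mul, ← mul_assoc, ← hcv.comm, mul_inv_cancel_right]
    have h4 := RZ_conj_comm h.w hvc hkR
    rw [inv_inv] at h4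
    have h5 : l⁻¹ * (c⁻¹ * k * c) = (c⁻¹ * k * c) * l⁻¹ := by
      rw [inv_mul_eq_iff_eq_mul, ← mul_assoc, hlR _ h4, mul_inv_cancel_right]
    calc l * (c * l⁻¹ * c⁻¹) * k = l * c * (l⁻¹ * (c⁻¹ * k * c)) * c⁻¹ := by group
      _ = l * c * ((c⁻¹ * k * c) * l⁻¹) * c⁻¹ := by rw [h5]
      _ = (l * k) * (c * l⁻¹ * c⁻¹) := by group
      _ = (k * l) * (c * l⁻¹ * c⁻¹) := by rw [hlR k hkR]
      _ = _ := by group
  -- the action on the second member
  have hz' : ∀ l ∈ RZ Om z, z * l = l * z := fun l hl => (RZ_le_centralizer h.w hl).symm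
  have key2 : ∀ l ∈ RZ Om z, x * l = l * x → As M l 1 → l = 1 := by
    intro l hl hxl h1
    refine h.faith hK.inZ hM.inZ hc hu hm hl hxl ?_
    have h2 := h1.conj_comm (hz' l hl)
    rw [mul_one, mul_inv_cancel] at h2
    rw [mem_CX]
    intro N hN
    rcases hM.cases hM' h.w hMM hN with rfl | rfl
    · exact As.one_iff.1 h1
    · exact As.one_iff.1 h2
  have key3 : ∀ l ∈ RZ Om z, ∀ l' ∈ RZ Om z, x * l = l * x → x * l' = l' * x → As M l c → As M l' c → l = l' := by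
    intro l hl l' hl' h1 h2 h3 h4
    have h5 := h3.mul h4.inv
    rw [mul_inv_cancel] at h5
    have h6 : x * (l * l'⁻¹) = l * l'⁻¹ * x := by
      have h7 : x * l'⁻¹ = l'⁻¹ * x := by
        rw [eq_inv_mul_iff_mul_eq, ← mul_assoc, ← h2, mul_inv_cancel_right]
      rw [← mul_assoc, h1, mul_assoc, h7, mul_assoc]
    exact mul_inv_eq_one.1 (key2 _ (Subgroup.mul_mem _ hl (Subgroup.inv_mem _ hl')) h6 h5)
  -- `n k` : the nonswap among `qq x k`, `z qq x k`
  have key4 : ∀ k ∈ K, k * k = z → ∃ l ∈ RZ Om z, (l = qq x k ∨ l = z * qq x k) ∧ x * l = l * x ∧ l * l = 1 ∧ l ≠ 1 ∧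
      As M l c := by
    intro k hk hkk
    have h1 := qq_mem hs' h.w hK hk
    have h2 := qq_comm hs' h.w hxx hK hk
    have h3 := qq_sq hs' h.w hK hk
    obtain ⟨h4, h5⟩ := qq_ne hs' h.w hK hk hkk
    have h6 := hz' _ h1
    have h7 : x * (z * qq x k) = z * qq x k * x := by rw [← mul_assoc, hc, mul_assoc, h2, mul_assoc]
    have h8 : (z * qq x k) * (z * qq x k) = 1 := by
      calc (z * qq x k) * (z * qq x k) = (z * qq x k) * (qq x k * z) := by rw [h6]
        _ = z * (qq x k * qq x k) * z := by group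
        _ = 1 := by rw [h3, mul_one, hzz]
    have h9 : z * qq x k ≠ 1 := by
      intro h10
      apply h5
      rw [mul_eq_one_iff_inv_eq] at h10
      rw [← h10, hK.inZ.inv h.w]
    by_cases h10 : Swp Om x (qq x k)
    · have h11 : ¬ Swp Om x (z * qq x k) := by
        rw [swp_mul h.w hM.inZ hc.symm h2.symm]
        exact ⟨fun _ => h10, fun _ => hs⟩
      have h12 := Subgroup.mul_mem _ (z_mem_RZ hK.inZ h.w) h1
      exact ⟨_, h12, Or.inr rfl, h7, h8, h9, (key _ h12 h7 h8 h11).resolve_left fun h13 => h9 (key2 _ h12 h7 h13)⟩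
    · exact ⟨_, h1, Or.inl rfl, h2, h3, h4, (key _ h1 h2 h3 h10).resolve_left fun h13 => h4 (key2 _ h1 h2 h13)⟩
  obtain ⟨l₀, a0, b0, c0, -, -, d0⟩ := key4 (y 0) (Y.mem 0) (Y.sq 0)
  obtain ⟨l₁, a1, b1, c1, -, -, d1⟩ := key4 (y 1) (Y.mem 1) (Y.sq 1)
  have h1 := key3 l₀ a0 l₁ a1 c0 c1 d0 d1
  -- `qq x (y 0) = z^i qq x (y 1)`
  have h2 : qq x (y 0) = qq x (y 1) ∨ qq x (y 0) = z * qq x (y 1) := by
    have e1 : ∀ g : G, z * (z * g) = g := fun g => by rw [← mul_assoc, hzz, one_mul]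
    rw [← h1] at b1
    rcases b0 with h3 | h3 <;> rcases b1 with h4 | h4
    · left; rw [← h3, ← h4]
    · right; rw [← h3, ← h4]
    · right
      rw [← h4, h3, e1]
    · left
      exact mul_left_cancel (h3.symm.trans h4)
  have h3 : qq x (y 0 * y 1) = qq x (y 0) * qq x (y 1) := qq_mul hs' h.w hK (Y.mem 0) (Y.mem 1)
  have e0 := Y.mul 0
  simp only [zero_add] at e0
  have h4 : y 0 * y 1 ∈ K ∧ (y 0 * y 1) * (y 0 * y 1) = z := by
    rw [e0]; exact ⟨Y.mem 2, Y.sq 2⟩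
  obtain ⟨h5, h6⟩ := qq_ne hs' h.w hK h4.1 h4.2
  have h7 := qq_sq hs' h.w hK (Y.mem 1)
  rcases h2 with h2 | h2
  · rw [h2, h7] at h3; exact h5 h3
  · rw [h2, mul_assoc, h7, mul_one] at h3; exact h6 h3

theorem six_b (h8 : H8 Om) (hz : InZ Om z) (hx : InZ Om x) (hs : Swp Om x z) (hu : u ∈ A0 Om z)
    (hm : x * u ≠ u * x) : ¬ TI Om u (x * u * x⁻¹) := by
  intro hti
  have hc : x * z = z * x := hs.1.symm
  obtain ⟨h1, h2, h3⟩ := h.qdef hz hx hc hu hti
  obtain ⟨q, hq⟩ : ∃ q, q = u * (x * u * x⁻¹) := ⟨_, rfl⟩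
  rw [← hq] at h1 h2 h3
  have hne : x ≠ q := by
    intro h4
    rw [← h4] at h1
    exact sw_ncp hs h.w hx hz h1.2.symm
  have hxq : InZ Om (x * q) := by rw [h3]; exact hx.conj h.w u
  rcases four h.w hx h1.1 hne h2 with h4 | h4 | h4 | h4
  · have h5 := h.mul_mem hx ⟨h1.1, h4⟩
    rw [h3] at h5
    exact h.l0 x u hx hu.1 h5.2
  · exact h.six_a hz hx hs hu hm h1 h4
  · exact h.pp hx h1.1 h4 hxq
  · obtain ⟨g, hg⟩ := h.oc z q hz h1.1
    have hux := h.conj_mem hu hc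
    have key : ∀ v ∈ A0 Om z, g * v * g⁻¹ ∈ A0 Om q := by
      intro v hv
      refine ⟨hv.1.conj h.w g, ?_⟩
      have h5 := cp_conj h.w hv.2 g
      rwa [hg] at h5
    exact h.five_b h1.1 hx h4 (key _ hu) (key _ hux) (h.five h8 h1.1 hx h4 (key _ hu))
      (h.five h8 h1.1 hx h4 (key _ hux)) (hti.conj h.w g)

/-- **(6)** -/
theorem six (h8 : H8 Om) (hz : InZ Om z) (hx : InZ Om x) (hs : Swp Om x z) (hu : u ∈ A0 Om z) :
    x * u = u * x := by
  by_contra hm
  have hc : x * z = z * x := hs.1.symm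
  obtain ⟨v₁, v₂, hti, f1, f2, f3⟩ := h8 z x hz hx hc ⟨u, hu, hm⟩ fun w hw hwm =>
    (h.moved hz hc hx hw hwm).resolve_left (h.six_b h8 hz hx hs hw hwm)
  have key : ∀ v, Fx Om z x v → Swp Om x v := by
    rintro v ⟨hv, hxv, hnf, w, hw, hwm, hti⟩
    have hne : x ≠ v := by
      intro h4
      rw [← h4] at hv
      exact sw_ncp hs h.w hx hz hv.2.symm
    rcases four h.w hx hv.1 hne hxv with h4 | h4 | h4 | h4
    · exact absurd hti (h.not_ti hv.1 hw.1 hti.comm (h.symm_mem hx ⟨hv.1, h4⟩) fun h5 => hwm h5.symm)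
    · exact absurd h4 (h.six_a hz hx hs hu hm hv)
    · exact h4
    · exact absurd (h.ff_symm hx hv.1 h4) hnf
  exact (swp_mul h.w hx f1.2.1.symm f2.2.1.symm).2 ⟨fun _ => key _ f2, fun _ => key _ f1⟩ (key _ f3)

/-- **(H)** -/
theorem hh (h8 : H8 Om) (hz : InZ Om z) (hx : InZ Om x) (hc : x * z = z * x) (hu : u ∈ A0 Om z) :
    x * u = u * x := by
  by_contra hm
  rcases h.pf hz hx hc hu hm with h1 | h1
  · exact hm (h.six h8 hz hx h1 hu)
  · exact hm (h.five h8 hz hx h1 hu)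

end W3

end Fin

end Cfsg.Agent.Cit.Nil.RTwoM.MThree
end

-- part: Cit/Nil/RTwoM/UBw
section
/-!
# S1309, (6b), (C3), `r = 2`, any `m`, `LAMBDA0`: the canonical `B_w` (helper762's uniform proof, 4.1 (a), (d))

* `Co Om w q K x y` : coordinates of the two members over `w` with respect to a swap `q`;
* `BW Om w q = C_{R_w}(q)`; `BW_NZ` : `= N_s ⊓ R_w` for `q ∈ Z(s)`; `BW_cent` : self-centralising in `R_w`;
* **`swp_line`** : two swaps, a rotation normalising both `C_{R_w}`: the same line.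
-/

set_option autoImplicit false
set_option linter.style.haveILetI false
set_option linter.unusedSectionVars false

namespace Cfsg.Agent.Cit.Nil.RTwoM

open Subgroup Cfsg Cfsg.Agent.Cit

open RTwo (Q3 Act i_ne1 i_ne2 i_ne12)
open RG (WR CP Ov InO Tr)
open RI (CS)

variable {G : Type*} [Group G] {Om : Set (Subgroup G)} {K L M : Subgroup G}
  {b c d g g' k l m n p q r s t u v w z : G} {x y : Fin 3 → G} {i j : Fin 3}

/-- coordinates of the members over `w`, `q` a swap -/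
structure Co (Om : Set (Subgroup G)) (w q : G) (K : Subgroup G) (x y : Fin 3 → G) : Prop where
  hK : Mem Om w K
  sw : Swp Om w q
  q2 : q * q = 1
  qx : Q3 K w x
  qy : Q3 (cj q K) w y
  yx : ∀ i, q * x i * q⁻¹ = y i
  xy : ∀ i, q * y i * q⁻¹ = x i

/-- `C_{R_w}(q)` -/
def BW (Om : Set (Subgroup G)) (w q : G) : Subgroup G := RZ Om w ⊓ centralizer {q}

theorem mem_BW : r ∈ BW Om w q ↔ r ∈ RZ Om w ∧ r * q = q * r := by
  rw [BW, mem_inf, mem_centralizer_singleton_iff]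

section Fin

variable [Finite G]

theorem exists_co (h : WM Om) (hK : Mem Om w K) (hs : Swp Om w q) (hq : q * q = 1) :
    ∃ x y, Co Om w q K x y := by
  obtain ⟨x, hx⟩ := h.exists_q3 hK
  refine ⟨x, fun i => q * x i * q⁻¹, hK, hs, hq, hx, hx.conj_comm hs.1, fun i => rfl, fun i => ?_⟩
  have hq' : q⁻¹ = q := inv_eq_of_mul_eq_one_right hq
  show q * (q * x i * q⁻¹) * q⁻¹ = x i
  calc q * (q * x i * q⁻¹) * q⁻¹ = (q * q) * x i * (q * q)⁻¹ := by group
    _ = x i := by rw [hq, one_mul, inv_one, mul_one]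

namespace Co

variable (o : Co Om w q K x y)

include o

theorem hL (h : WM Om) : Mem Om w (cj q K) := o.sw.mem h o.hK

theorem ne : K ≠ cj q K := o.sw.ne o.hK

theorem cm (h : WM Om) (i j : Fin 3) : x i * y j = y j * x i := o.hK.comm (o.hL h) h o.ne (o.qx.mem i) (o.qy.mem j)

theorem mem (h : WM Om) (i j : Fin 3) : x i * y j ∈ RZ Om w :=
  mul_mem (o.hK.le_RZ (o.qx.mem i)) ((o.hL h).le_RZ (o.qy.mem j))

theorem comm (h : WM Om) (i : Fin 3) : x i * y i * q = q * (x i * y i) := by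
  rw [← mul_inv_eq_iff_eq_mul.1 (show q * (x i * y i) * q⁻¹ = x i * y i by
    calc q * (x i * y i) * q⁻¹ = (q * x i * q⁻¹) * (q * y i * q⁻¹) := by group
      _ = y i * x i := by rw [o.yx, o.xy]
      _ = x i * y i := (o.cm h i i).symm)]

theorem mem_BW (h : WM Om) (i : Fin 3) : x i * y i ∈ BW Om w q := RTwoM.mem_BW.2 ⟨o.mem h i i, o.comm h i⟩

theorem w_mem (h : WM Om) : w ∈ BW Om w q := RTwoM.mem_BW.2 ⟨z_mem_RZ o.hK.inZ h, o.sw.1.symm⟩

theorem eq_of_comm (h : WM Om) (hc : x i * y j * q = q * (x i * y j)) : i = j := by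
  have h1 : q * (x i * y j) * q⁻¹ = x i * y j := by rw [← hc, mul_inv_cancel_right]
  have h2 : y i * x j = x i * y j := by
    rw [← h1]
    calc y i * x j = (q * x i * q⁻¹) * (q * y j * q⁻¹) := by rw [o.yx, o.xy]
      _ = _ := by group
  rw [← o.cm h j i] at h2
  have h3 : (x i)⁻¹ * x j = y j * (y i)⁻¹ := by
    rw [eq_mul_inv_iff_mul_eq, mul_assoc, h2, inv_mul_cancel_left]
  rcases o.hK.inf (o.hL h) h o.ne (mul_mem (inv_mem (o.qx.mem i)) (o.qx.mem j))
    (by rw [h3]; exact mul_mem (o.qy.mem j) (inv_mem (o.qy.mem i))) with h4 | h4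
  · exact o.qx.inj (Or.inl (inv_mul_eq_one.1 h4))
  · rw [inv_mul_eq_iff_eq_mul, ← o.qx.zc] at h4
    exact (o.qx.inj (Or.inr h4)).symm

/-- elements of `C_{R_w}(q)` -/
theorem cases (h : WM Om) (hr : r ∈ BW Om w q) : r = 1 ∨ r = w ∨ ∃ i, r = x i * y i ∨ r = w * (x i * y i) := by
  obtain ⟨hr, hrq⟩ := RTwoM.mem_BW.1 hr
  obtain ⟨k, hk, h1⟩ := o.sw.fix h o.q2 o.hK hr hrq.symm
  have hz := o.hK.inZ
  have hxi : ∀ i, qq q (x i) = x i * y i := fun i => by rw [RTwoM.qq, o.yx]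
  rcases o.qx.cov k hk with h2 | h2 | ⟨i, h2⟩
  · rw [h2, qq_one, mul_one] at h1
    rcases h1 with h1 | h1
    · exact Or.inl h1
    · exact Or.inr (Or.inl h1)
  · rw [h2, qq_z o.sw hz h, mul_one] at h1
    rcases h1 with h1 | h1
    · exact Or.inl h1
    · exact Or.inr (Or.inl h1)
  · right; right
    refine ⟨i, ?_⟩
    rcases h2 with h2 | h2
    · rwa [h2, hxi] at h1
    · rwa [h2, qq_mul o.sw h o.hK (o.hK.zmem h) (o.qx.mem i), qq_z o.sw hz h, one_mul, hxi] at h1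

theorem zxy (h : WM Om) (i j : Fin 3) : w * (x i * y j) = (x i * y j) * w := by
  rw [← mul_assoc, o.qx.zc, mul_assoc, o.qy.zc, mul_assoc]

theorem sq (h : WM Om) (i j : Fin 3) : x i * y j * (x i * y j) = 1 := by
  calc x i * y j * (x i * y j) = x i * (y j * x i) * y j := by group
    _ = (x i * x i) * (y j * y j) := by rw [← o.cm h]; group
    _ = 1 := by rw [o.qx.sq, o.qy.sq, o.qx.z2]

theorem comm_ii (h : WM Om) (i j : Fin 3) : x i * y i * (x j * y j) = x j * y j * (x i * y i) := by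
  by_cases hij : i = j
  · rw [hij]
  calc x i * y i * (x j * y j) = x i * (y i * x j) * y j := by group
    _ = (x i * x j) * (y i * y j) := by rw [← o.cm h]; group
    _ = (w * (x j * x i)) * (w * (y j * y i)) := by rw [o.qx.anti hij, o.qy.anti hij]; group
    _ = w * ((x j * x i) * w) * (y j * y i) := by group
    _ = w * (w * (x j * x i)) * (y j * y i) := by
      rw [show x j * x i * w = w * (x j * x i) by rw [mul_assoc, ← o.qx.zc, ← mul_assoc, ← o.qx.zc, mul_assoc]]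
    _ = (x j * x i) * (y j * y i) := by rw [o.qx.zzx]
    _ = x j * (x i * y j) * y i := by group
    _ = x j * (y j * x i) * y i := by rw [o.cm h]
    _ = _ := by group

theorem BW_comm (h : WM Om) (hr : r ∈ BW Om w q) (hs : s ∈ BW Om w q) : r * s = s * r := by
  have key : ∀ {s}, s ∈ BW Om w q → ∀ i, s * (x i * y i) = (x i * y i) * s := by
    intro s hs i
    rcases o.cases h hs with h1 | h1 | ⟨j, h1 | h1⟩
    · rw [h1, one_mul, mul_one]
    · rw [h1]; exact o.zxy h i i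
    · rw [h1]; exact o.comm_ii h j i
    · rw [h1, mul_assoc, o.comm_ii h j i, ← mul_assoc, o.zxy h i i, mul_assoc]
  have hw : ∀ {s}, s ∈ BW Om w q → s * w = w * s := fun hs =>
    RZ_le_centralizer h (RTwoM.mem_BW.1 hs).1
  rcases o.cases h hr with h1 | h1 | ⟨j, h1 | h1⟩
  · rw [h1, one_mul, mul_one]
  · rw [h1]; exact (hw hs).symm
  · rw [h1]; exact (key hs j).symm
  · rw [h1, mul_assoc, ← key hs j, ← mul_assoc, ← hw hs, mul_assoc]

/-- `C_{R_w}(q)` is self-centralising -/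
theorem BW_cent (h : WM Om) (hr : r ∈ RZ Om w) (hc : ∀ i, r * (x i * y i) = (x i * y i) * r) : r ∈ BW Om w q := by
  obtain ⟨k, hk, l, hl, rfl⟩ := (mem_RZ o.hK (o.hL h) h o.ne).1 hr
  have kw := o.qx.zcomm hk
  have lw := o.qy.zcomm hl
  -- `[k, x i] = [l, y i]⁻¹`
  have hkl : ∀ i, (k * x i = x i * k ∧ l * y i = y i * l) ∨ (k * x i ≠ x i * k ∧ l * y i ≠ y i * l) := by
    intro i
    have ly : l * x i = x i * l := (o.hK.comm (o.hL h) h o.ne (o.qx.mem i) hl).symm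
    have ky : k * y i = y i * k := o.hK.comm (o.hL h) h o.ne hk (o.qy.mem i)
    have h1 := hc i
    have h2 : (k * x i) * (l * y i) = (x i * k) * (y i * l) := by
      calc (k * x i) * (l * y i) = k * (x i * l) * y i := by group
        _ = k * l * (x i * y i) := by rw [← ly]; group
        _ = x i * y i * (k * l) := h1
        _ = x i * (y i * k) * l := by group
        _ = _ := by rw [← ky]; group
    by_cases h3 : k * x i = x i * k
    · left
      refine ⟨h3, ?_⟩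
      rw [h3] at h2
      exact mul_left_cancel h2
    · right
      refine ⟨h3, fun h4 => h3 ?_⟩
      rw [h4] at h2
      exact mul_right_cancel h2
  have xc : ∀ i j, x i * x j = x j * x i → i = j := by
    intro i j hij
    by_contra hne
    have h1 := o.qx.sw hne
    rw [hij] at h1
    exact o.qx.zne _ h1.symm
  have yc : ∀ i j, y i * y j = y j * y i → i = j := by
    intro i j hij
    by_contra hne
    have h1 := o.qy.sw hne
    rw [hij] at h1
    exact o.qy.zne _ h1.symm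
  have hkz : ∀ {k}, (k = 1 ∨ k = w) → ∀ i, k * x i = x i * k ∧ k * y i = y i * k := by
    rintro k (rfl | rfl) i
    · simp
    · exact ⟨o.qx.zc i, o.qy.zc i⟩
  have wB := o.w_mem h
  -- `k`, `l` in the centre, or not
  rcases o.qx.cov k hk with hk1 | hk1 | ⟨a, hk1⟩
  · have hl1 : l = 1 ∨ l = w := by
      refine o.qy.center hl ?_ ?_
      · exact ((hkl 0).resolve_right fun h1 => h1.1 (hkz (Or.inl hk1) 0).1).2
      · exact ((hkl 1).resolve_right fun h1 => h1.1 (hkz (Or.inl hk1) 1).1).2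
    rcases hl1 with hl1 | hl1
    · rw [hk1, hl1, one_mul]; exact one_mem _
    · rw [hk1, hl1, one_mul]; exact wB
  · have hl1 : l = 1 ∨ l = w := by
      refine o.qy.center hl ?_ ?_
      · exact ((hkl 0).resolve_right fun h1 => h1.1 (hkz (Or.inr hk1) 0).1).2
      · exact ((hkl 1).resolve_right fun h1 => h1.1 (hkz (Or.inr hk1) 1).1).2
    rcases hl1 with hl1 | hl1
    · rw [hk1, hl1, mul_one]; exact wB
    · rw [hk1, hl1]; exact mul_mem wB wB
  · rcases o.qy.cov l hl with hl1 | hl1 | ⟨b, hl1⟩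
    · exfalso
      have h1 : ∀ i, k * x i = x i * k := fun i =>
        ((hkl i).resolve_right fun h1 => h1.2 (hkz (Or.inl hl1) i).2).1
      have h2 : ∀ i, a = i := by
        intro i
        rcases hk1 with hk1 | hk1
        · exact xc a i (by rw [← hk1]; exact h1 i)
        · have h3 := h1 i
          rw [hk1] at h3
          refine xc a i ?_
          have h4 : w * (x a * x i) = w * (x i * x a) := by
            calc w * (x a * x i) = w * x a * x i := by group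
              _ = x i * (w * x a) := h3
              _ = (x i * w) * x a := by group
              _ = _ := by rw [← o.qx.zc]; group
          exact mul_left_cancel h4
      exact absurd ((h2 0).symm.trans (h2 1)) (by decide)
    · exfalso
      have h1 : ∀ i, k * x i = x i * k := fun i =>
        ((hkl i).resolve_right fun h1 => h1.2 (hkz (Or.inr hl1) i).2).1
      have h2 : ∀ i, a = i := by
        intro i
        rcases hk1 with hk1 | hk1
        · exact xc a i (by rw [← hk1]; exact h1 i)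
        · have h3 := h1 i
          rw [hk1] at h3
          refine xc a i ?_
          have h4 : w * (x a * x i) = w * (x i * x a) := by
            calc w * (x a * x i) = w * x a * x i := by group
              _ = x i * (w * x a) := h3
              _ = (x i * w) * x a := by group
              _ = _ := by rw [← o.qx.zc]; group
          exact mul_left_cancel h4
      exact absurd ((h2 0).symm.trans (h2 1)) (by decide)
    · have h1 : k * x a = x a * k := by
        rcases hk1 with hk1 | hk1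
        · rw [hk1]
        · rw [hk1, mul_assoc, ← mul_assoc (x a), ← o.qx.zc, mul_assoc]
      have h2 : l * y a = y a * l := ((hkl a).resolve_right fun h2 => h2.1 h1).2
      have h3 : b = a := by
        rcases hl1 with hl1 | hl1
        · exact yc b a (by rw [← hl1]; exact h2)
        · rw [hl1] at h2
          refine yc b a ?_
          have h4 : w * (y b * y a) = w * (y a * y b) := by
            calc w * (y b * y a) = w * y b * y a := by group
              _ = y a * (w * y b) := h2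
              _ = (y a * w) * y b := by group
              _ = _ := by rw [← o.qy.zc]; group
          exact mul_left_cancel h4
      subst h3
      have hxy := o.mem_BW h b
      rcases hk1 with hk1 | hk1 <;> rcases hl1 with hl1 | hl1
      · rw [hk1, hl1]; exact hxy
      · rw [hk1, hl1, ← mul_assoc, ← o.qx.zc, mul_assoc]; exact mul_mem wB hxy
      · rw [hk1, hl1, mul_assoc]; exact mul_mem wB hxy
      · rw [hk1, hl1]
        have h4 : w * x b * (w * y b) = x b * y b := by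
          calc w * x b * (w * y b) = w * (x b * w) * y b := by group
            _ = w * (w * x b) * y b := by rw [← o.qx.zc]
            _ = _ := by rw [o.qx.zzx]
        rw [h4]; exact hxy

/-- modulo `w` -/
theorem mod_mem (h : WM Om) {S : Subgroup G} (hw : w ∈ S) (ha : u = x i ∨ u = w * x i) (hb : v = y j ∨ v = w * y j) :
    u * v ∈ S ↔ x i * y j ∈ S := by
  have e1 : w * x i * y j = w * (x i * y j) := mul_assoc _ _ _
  have e2 : x i * (w * y j) = w * (x i * y j) := by rw [← mul_assoc, ← o.qx.zc, mul_assoc]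
  have e3 : w * x i * (w * y j) = x i * y j := by
    calc w * x i * (w * y j) = w * (x i * w) * y j := by group
      _ = w * (w * x i) * y j := by rw [← o.qx.zc]
      _ = _ := by rw [o.qx.zzx]
  rcases ha with rfl | rfl <;> rcases hb with rfl | rfl
  · exact Iff.rfl
  · rw [e2, S.mul_mem_cancel_left hw]
  · rw [e1, S.mul_mem_cancel_left hw]
  · rw [e3]

theorem mod_mem' (h : WM Om) {S : Subgroup G} (hw : w ∈ S) (ha : u = x i ∨ u = w * x i) (hb : v = y j ∨ v = w * y j) :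
    v * u ∈ S ↔ x i * y j ∈ S := by
  have h1 : v * u = u * v := by
    rcases ha with rfl | rfl <;> rcases hb with rfl | rfl
    · exact (o.cm h i j).symm
    · rw [mul_assoc, ← o.cm h, ← mul_assoc, ← mul_assoc, o.qx.zc]
    · rw [mul_assoc, o.cm h, ← mul_assoc, ← mul_assoc, o.qy.zc]
    · rw [o.qx.zc, o.qy.zc]
      calc y j * w * (x i * w) = y j * (w * x i) * w := by group
        _ = y j * x i * (w * w) := by rw [o.qx.zc]; group
        _ = x i * y j * (w * w) := by rw [o.cm h]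
        _ = x i * (y j * w) * w := by group
        _ = x i * (w * y j) * w := by rw [o.qy.zc]
        _ = _ := by group
  rw [h1]
  exact o.mod_mem h hw ha hb

theorem eq_of_mem (h : WM Om) (hc : x i * y j ∈ BW Om w q) : i = j := o.eq_of_comm h (RTwoM.mem_BW.1 hc).2

end Co


theorem w_mem_BW (h : WM Om) (hz : InZ Om w) (hs : Swp Om w q) : w ∈ BW Om w q :=
  mem_BW.2 ⟨z_mem_RZ hz h, hs.1.symm⟩

/-- **two swaps have the same line** -/
theorem swp_line (h : WM Om) (o : Co Om w q K x y) (hp : Swp Om w p) (hpp : p * p = 1) (hd : Rot w K d)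
    (d1 : ∀ r ∈ BW Om w q, d * r * d⁻¹ ∈ BW Om w q) (d2 : ∀ r ∈ BW Om w p, d * r * d⁻¹ ∈ BW Om w p)
    (d3 : ∀ r ∈ BW Om w q, p * r * p⁻¹ ∈ BW Om w q) : ∀ r ∈ BW Om w q, r ∈ BW Om w p := by
  have hL := o.hL h
  have hK := o.hK
  have hdw := hK.of_cj h hd.1
  have wq := o.w_mem h
  have wp : w ∈ BW Om w p := w_mem_BW h hK.inZ hp
  have hdL : cj d (cj q K) = cj q K := by
    rcases cj_cases h hK hL o.ne hdw with h1 | h1
    · exact h1.2
    · exact absurd (hd.1.symm.trans h1.1) o.ne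
  obtain ⟨hpK, hpL⟩ : cj p K = cj q K ∧ cj p (cj q K) = K := by
    rcases cj_cases h hK hL o.ne hp.1 with h1 | h1
    · exact absurd h1.1 (hp.2 K hK)
    · exact h1
  obtain ⟨δ, hδ⟩ := o.qx.exists_act o.qx hd.1 hdw
  obtain ⟨δ', hδ'⟩ := o.qy.exists_act o.qy hdL hdw
  obtain ⟨σ, hσ⟩ := o.qx.exists_act o.qy hpK hp.1
  obtain ⟨τ, hτ⟩ := o.qy.exists_act o.qx hpL hp.1
  have hτσ : τ * σ = 1 := by
    have h1 := hσ.comp o.qx.z2 hτ hp.1
    rw [hpp] at h1
    exact h1.unique o.qx (Act.one x w)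
  have e1 : δ = δ' := by
    ext i
    congr 1
    have h1 := d1 _ (o.mem_BW h i)
    have h2 : d * (x i * y i) * d⁻¹ = (d * x i * d⁻¹) * (d * y i * d⁻¹) := by group
    rw [h2, o.mod_mem h wq (hδ i) (hδ' i)] at h1
    exact o.eq_of_mem h h1
  subst e1
  have e2 : σ = τ := by
    ext i
    congr 1
    have h1 := d3 _ (o.mem_BW h i)
    have h2 : p * (x i * y i) * p⁻¹ = (p * x i * p⁻¹) * (p * y i * p⁻¹) := by group
    rw [h2, o.mod_mem' h wq (hτ i) (hσ i)] at h1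
    exact (o.eq_of_mem h h1).symm
  subst e2
  -- `x a y b ∈ BW p` iff `b = σ a`
  have key : ∀ a b, x a * y b ∈ BW Om w p → b = σ a := by
    intro a b hab
    have h1 : p * (x a * y b) * p⁻¹ = x a * y b := by rw [← (mem_BW.1 hab).2, mul_inv_cancel_right]
    have h2 : p * (x a * y b) * p⁻¹ = (p * x a * p⁻¹) * (p * y b * p⁻¹) := by group
    have h3 : x a * y b = x (σ b) * y (σ a) ∨ x a * y b = w * (x (σ b) * y (σ a)) := by
      rw [h2] at h1
      rcases hσ a with h4 | h4 <;> rcases hτ b with h5 | h5 <;> rw [h4, h5] at h1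
      · left; rw [← h1, o.cm h]
      · right
        rw [← h1]
        calc y (σ a) * (w * x (σ b)) = (y (σ a) * w) * x (σ b) := by group
          _ = w * (y (σ a) * x (σ b)) := by rw [← o.qy.zc]; group
          _ = _ := by rw [o.cm h]
      · right
        rw [← h1]
        calc w * y (σ a) * x (σ b) = w * (y (σ a) * x (σ b)) := by group
          _ = _ := by rw [o.cm h]
      · left
        rw [← h1]
        calc w * y (σ a) * (w * x (σ b)) = w * (y (σ a) * w) * x (σ b) := by group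
          _ = w * (w * y (σ a)) * x (σ b) := by rw [← o.qy.zc]
          _ = y (σ a) * x (σ b) := by rw [o.qx.zzx]
          _ = _ := by rw [o.cm h]
    have h6 : ∃ ε, (ε = 1 ∨ ε = w) ∧ x a * y b = ε * (x (σ b) * y (σ a)) := by
      rcases h3 with h3 | h3
      · exact ⟨1, Or.inl rfl, by rw [one_mul]; exact h3⟩
      · exact ⟨w, Or.inr rfl, h3⟩
    obtain ⟨ε, hε, h7⟩ := h6
    have hεL : ε ∈ cj q K := by
      rcases hε with rfl | rfl
      · exact one_mem _
      · exact hL.zmem h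
    have hεx : ε * x (σ b) = x (σ b) * ε := by
      rcases hε with rfl | rfl
      · rw [one_mul, mul_one]
      · exact o.qx.zc _
    have h8 : (x (σ b))⁻¹ * x a = ε * (y (σ a) * (y b)⁻¹) := by
      rw [inv_mul_eq_iff_eq_mul, ← mul_assoc, ← mul_assoc, ← hεx, eq_mul_inv_iff_mul_eq, h7]; group
    rcases hK.inf hL h o.ne (mul_mem (inv_mem (o.qx.mem _)) (o.qx.mem a))
      (by rw [h8]; exact mul_mem hεL (mul_mem (o.qy.mem _) (inv_mem (o.qy.mem _)))) with h9 | h9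
    · have h10 := o.qx.inj (Or.inl (inv_mul_eq_one.1 h9))
      rw [← h10]
      exact (Equiv.ext_iff.1 hτσ b).symm
    · rw [inv_mul_eq_iff_eq_mul, ← o.qx.zc] at h9
      have h10 := (o.qx.inj (Or.inr h9)).symm
      rw [← h10]
      exact (Equiv.ext_iff.1 hτσ b).symm
  have memp : ∀ a, x a * y (σ a) ∈ BW Om w p := by
    intro a
    have h1 : qq p (x a) ∈ BW Om w p := mem_BW.2 ⟨qq_mem hp h hK (o.qx.mem a), (qq_comm hp h hpp hK (o.qx.mem a)).symm⟩
    rw [qq] at h1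
    rwa [o.mod_mem h wp (Or.inl rfl) (hσ a)] at h1
  have e3 : δ * σ = σ * δ := by
    ext i
    congr 1
    have h1 := d2 _ (memp i)
    have h2 : d * (x i * y (σ i)) * d⁻¹ = (d * x i * d⁻¹) * (d * y (σ i) * d⁻¹) := by group
    rw [h2, o.mod_mem h wp (hδ i) (hδ' (σ i))] at h1
    exact key _ _ h1
  have e4 : ∀ i, δ i ≠ i := by
    intro i h1
    obtain ⟨h2, h3⟩ := hd.2 (x i) (o.qx.mem i) (o.qx.sq i)
    rcases hδ i with h4 | h4 <;> rw [h1] at h4
    · exact h2 h4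
    · exact h3 h4
  have e5 : ∀ σ δ : Equiv.Perm (Fin 3), σ * σ = 1 → δ * σ = σ * δ → (∀ i, δ i ≠ i) → σ = 1 := by decide +kernel
  have e6 := e5 σ δ hτσ e3 e4
  subst e6
  intro r hr
  rcases o.cases h hr with h1 | h1 | ⟨i, h1 | h1⟩
  · rw [h1]; exact one_mem _
  · rw [h1]; exact wp
  · rw [h1]; exact memp i
  · rw [h1]; exact mul_mem wp (memp i)

/-- `C_{R_w}(q) ≤ N_s` for `q ∈ N_s` -/
theorem BW_le_NZ (h : WM Om) (hw : w ∈ ZS Om s) (hq : q ∈ NZ Om s) (hs : Swp Om w q) (hqq : q * q = 1) :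
    BW Om w q ≤ NZ Om s := by
  obtain ⟨K, hK⟩ := hw.1
  intro r hr
  obtain ⟨hr, hrq⟩ := mem_BW.1 hr
  obtain ⟨k, hk, h1⟩ := hs.fix h hqq hK hr hrq.symm
  have hwN : w ∈ NZ Om s := mem_NZ hw
  have h2 : qq q k ∈ NZ Om s := by
    have h3 := NZ_conj h (g := k⁻¹) (ZS_RZ hw (hK.le_RZ (inv_mem hk))) hq
    have h4 : k * k ∈ NZ Om s := by
      rcases hK.sq_cases h hk with h3 | h3 | h3
      · rw [h3, one_mul]; exact one_mem _
      · rw [h3, hK.inZ.z2 h]; exact one_mem _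
      · rw [h3]; exact hwN
    have h5 : qq q k = (k * k) * (k⁻¹ * q * k⁻¹⁻¹) * q⁻¹ := by rw [qq]; group
    rw [h5]
    exact mul_mem (mul_mem h4 h3) (inv_mem hq)
  rcases h1 with h1 | h1
  · rw [h1]; exact h2
  · rw [h1]; exact mul_mem hwN h2

/-- `N_s ⊓ R_w = C_{R_w}(q)` -/
theorem mem_BW_iff (h : WM Om) (l0 : L0 Om) (an : ANt Om s) (hw : w ∈ ZS Om s) (hq : q ∈ NZ Om s) (hs : Swp Om w q)
    (hr : r ∈ RZ Om w) : r ∈ BW Om w q ↔ r ∈ NZ Om s :=
  ⟨fun h1 => BW_le_NZ h hw hq hs (NZ_sq h l0 an hq) h1, fun h1 => mem_BW.2 ⟨hr, NZ_comm h l0 an h1 hq⟩⟩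

theorem BW_norm (h : WM Om) (l0 : L0 Om) (an : ANt Om s) (hw : w ∈ ZS Om s) (hq : q ∈ NZ Om s) (hs : Swp Om w q)
    (hgs : g * s = s * g) (hgw : g * w = w * g) (hr : r ∈ BW Om w q) : g * r * g⁻¹ ∈ BW Om w q := by
  have hr1 := (mem_BW.1 hr).1
  rw [mem_BW_iff h l0 an hw hq hs hr1] at hr
  rw [mem_BW_iff h l0 an hw hq hs (RZ_conj_comm h hgw hr1)]
  exact NZ_conj h hgs hr

theorem As.z_mul (h : WM Om) (hK : Mem Om w K) (ha : As K n (w * u)) : As K n u := by
  have hu : u ∈ K := by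
    have h1 := mul_mem (hK.zmem h) ha.1
    rwa [← mul_assoc, hK.inZ.z2 h, one_mul] at h1
  refine ⟨hu, fun k hk => ?_⟩
  rw [ha.2 k hk]
  have h1 : u * k * u⁻¹ ∈ K := mul_mem (mul_mem hu hk) (inv_mem hu)
  have h2 := hK.comm_z h h1
  calc w * u * k * (w * u)⁻¹ = w * (u * k * u⁻¹) * w⁻¹ := by group
    _ = u * k * u⁻¹ := by rw [← h2, mul_inv_cancel_right]

theorem As.of_mod (h : WM Om) (hK : Mem Om w K) (ha : As K n v) (hv : v = u ∨ v = w * u) : As K n u := by
  rcases hv with rfl | rfl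
  · exact ha
  · exact ha.z_mul h hK

/-- `n` acts as `x a` and `y b` -/
def Dr (K L : Subgroup G) (x y : Fin 3 → G) (n : G) (a b : Fin 3) : Prop := As K n (x a) ∧ As L n (y b)

theorem Co.exists_dr (o : Co Om w q K x y) (h : WM Om) (hti : TI Om w n) : ∃ a b, Dr K (cj q K) x y n a b := by
  obtain ⟨u, hu, huu⟩ := hti.exists_as h o.hK
  obtain ⟨v, hv, hvv⟩ := hti.exists_as h (o.hL h)
  obtain ⟨a, ha⟩ := o.qx.of_sq hu.1 huu
  obtain ⟨b, hb⟩ := o.qy.of_sq hv.1 hvv
  exact ⟨a, b, hu.of_mod h o.hK ha, hv.of_mod h (o.hL h) hb⟩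

theorem Co.dr_act (o : Co Om w q K x y) (h : WM Om) {a b : Fin 3} (hd : Dr K (cj q K) x y n a b) (hr : r ∈ RZ Om w) :
    n * r * n⁻¹ = (x a * y b) * r * (x a * y b)⁻¹ := by
  obtain ⟨k, hk, l, hl, rfl⟩ := (mem_RZ o.hK (o.hL h) h o.ne).1 hr
  have h1 := hd.1.2 k hk
  have h2 := hd.2.2 l hl
  have h3 : y b * k = k * y b := (o.hK.comm (o.hL h) h o.ne hk (o.qy.mem b)).symm
  have h4 : x a * l = l * x a := o.hK.comm (o.hL h) h o.ne (o.qx.mem a) hl
  have h5 := o.cm h a b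
  have h6 : (x a)⁻¹ * y b = y b * (x a)⁻¹ := by
    rw [inv_mul_eq_iff_eq_mul, ← mul_assoc, h5, mul_inv_cancel_right]
  have h7 : (x a)⁻¹ * l = l * (x a)⁻¹ := by
    rw [inv_mul_eq_iff_eq_mul, ← mul_assoc, h4, mul_inv_cancel_right]
  calc n * (k * l) * n⁻¹ = (n * k * n⁻¹) * (n * l * n⁻¹) := by group
    _ = (x a * k * (x a)⁻¹) * (y b * l * (y b)⁻¹) := by rw [h1, h2]
    _ = x a * k * ((x a)⁻¹ * y b) * l * (y b)⁻¹ := by group
    _ = x a * (k * y b) * ((x a)⁻¹ * l) * (y b)⁻¹ := by rw [h6]; group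
    _ = x a * (y b * k) * (l * (x a)⁻¹) * (y b)⁻¹ := by rw [h3, h7]
    _ = x a * y b * (k * l) * ((x a)⁻¹ * (y b)⁻¹) := by group
    _ = x a * y b * (k * l) * ((y b)⁻¹ * (x a)⁻¹) := by rw [← mul_inv_rev, ← h5, mul_inv_rev]
    _ = _ := by group

theorem dr_unique_l (h : WM Om) (hK : Mem Om w K) (qx : Q3 K w x) {a b : Fin 3} (h1 : As K n (x a))
    (h2 : As K n (x b)) : a = b := (qx.inj (hK.as_unique h h1 h2)).symm

theorem Q3.mul_third (qx : Q3 K w x) {a b : Fin 3} (hab : a ≠ b) :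
    ∃ c, c ≠ a ∧ c ≠ b ∧ (x a * x b = x c ∨ x a * x b = w * x c) ∧ (x b * x a = x c ∨ x b * x a = w * x c) := by
  rcases RTwo.i_cases hab with rfl | rfl
  · exact ⟨a + 2, (i_ne2 a).symm, (i_ne12 a).symm, Or.inl (qx.mul a), Or.inr (qx.mul' a)⟩
  · exact ⟨a + 1, (i_ne1 a).symm, i_ne12 a, Or.inr (qx.mul2' a), Or.inl (qx.mul2 a)⟩

theorem third_eq {a b c c' : Fin 3} (hab : a ≠ b) (h1 : c ≠ a) (h2 : c ≠ b) (h3 : c' ≠ a) (h4 : c' ≠ b) : c' = c := by
  revert a b c c'; decide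

/-- `n ∈ Z` acting as `x a` is of type I -/
theorem TI.of_as (h : WM Om) (hK : Mem Om w K) (hn : InZ Om n) (ha : As K n u) (huu : u * u = w) : TI Om w n := by
  have hne : w ≠ n := by
    rintro rfl
    exact hK.not_as_one h ha huu (hK.as_z h)
  refine TI.of_one h hK hn hne (fun k hk => ?_) fun hc => hK.not_as_one h ha huu (As.one_iff.2 hc)
  rw [ha.2 k hk]
  exact hK.comm_or h hk ha.1

/-- `m, w ∈ Z(s)` of type I: conjugate in `C(s)` -/
theorem TI.exists_conj_s (hti : TI Om w m) (h : WM Om) (hw : w ∈ ZS Om s) (hm : m ∈ ZS Om s) :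
    ∃ g, g * s = s * g ∧ g * m * g⁻¹ = w := by
  obtain ⟨K, hK⟩ := hw.1
  obtain ⟨L, hL⟩ := hm.1
  obtain ⟨v, hv, -, -, h1⟩ := hti.exists_mv h hL
  obtain ⟨v', hv', -, -, h2⟩ := (hti.symm h).exists_mv h hK
  -- `v w v⁻¹ = w m`, `v' m v'⁻¹ = m w`
  have hvs : v * s = s * v := ZS_RZ hm (hL.le_RZ hv)
  have hvs' : v' * s = s * v' := ZS_RZ hw (hK.le_RZ hv')
  refine ⟨v⁻¹ * v', ?_, ?_⟩
  · have h3 : v⁻¹ * s = s * v⁻¹ := by rw [inv_mul_eq_iff_eq_mul, ← mul_assoc, hvs, mul_inv_cancel_right]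
    rw [mul_assoc, hvs', ← mul_assoc, h3, mul_assoc]
  · calc v⁻¹ * v' * m * (v⁻¹ * v')⁻¹ = v⁻¹ * (v' * m * v'⁻¹) * v := by group
      _ = v⁻¹ * (v * w * v⁻¹) * v := by rw [h2, h1, hti.comm]
      _ = w := by group

/-- the product of a type I pair in `Z(s)` -/
theorem TI.mul_ZS (hti : TI Om m n) (h : WM Om) (hm : m ∈ ZS Om s) (hn : n ∈ ZS Om s) : m * n ∈ ZS Om s := by
  obtain ⟨L, hL⟩ := hn.1
  obtain ⟨v, hv, -, -, h1⟩ := hti.exists_mv h hL
  rw [← h1]
  exact ZS_conj h hm (ZS_RZ hn (hL.le_RZ hv))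

/-- `s' ∈ T_S#`, `q ∈ Z(s')` a swap at `w ∈ C_S` -/
structure HB (Om : Set (Subgroup G)) (S : Subgroup G) (w q : G) : Prop where
  wS : w ∈ CS Om S
  q' : ∃ s' ∈ TT Om S, s' ≠ 1 ∧ q ∈ ZS Om s'
  sw : Swp Om w q

theorem TT_le_NZ' (h : WM Om) {S : Subgroup G} (hS : IsPGroup 2 S) (ht : t ∈ TT Om S) : TT Om S ≤ NZ Om t :=
  _root_.Subgroup.closure_mono fun _ hz => CS_subset_ZS h hS ht hz

/-- `Z(s)`, `s ∈ T_S#`, centralises `T_S` -/
theorem ZS_TT (h : WM Om) (l0 : L0 Om) (an : ANT Om) (S : Sylow 2 G) (hs : s ∈ TT Om (S : Subgroup G)) (hs1 : s ≠ 1)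
    (hn : n ∈ NZ Om s) (ht : t ∈ TT Om (S : Subgroup G)) : n * t = t * n :=
  NZ_comm h l0 (an S s hs hs1) hn (TT_le_NZ' h S.isPGroup' hs ht)

/-- `C_{R_w}(q)` is normalised by `C(T_S)` -/
theorem HB.norm {S : Sylow 2 G} (hb : HB Om (S : Subgroup G) w q) (h : WM Om) (l0 : L0 Om) (an : ANT Om) (hg : ∀ t ∈ TT Om (S : Subgroup G), g * t = t * g) (hr : r ∈ BW Om w q) :
    g * r * g⁻¹ ∈ BW Om w q := by
  obtain ⟨s', hs', hs1, hq⟩ := hb.q'
  exact BW_norm h l0 (an S s' hs' hs1) (CS_subset_ZS h S.isPGroup' hs' hb.wS) (mem_NZ hq) hb.sw (hg s' hs')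
    (hg w (CS.mem_TT hb.wS)) hr

theorem HB.exists_rot {S : Sylow 2 G} (hb : HB Om (S : Subgroup G) w q) (h : WM Om) (l0 : L0 Om) (an : ANT Om)
    (rot : RotS Om (S : Subgroup G)) (o : Co Om w q K x y) :
    ∃ d, Rot w K d ∧ (∀ t ∈ TT Om (S : Subgroup G), d * t = t * d) ∧
      ∃ δ, Act w x x d δ ∧ Act w y y d δ ∧ ∀ i, δ i ≠ i := by
  have hK := o.hK
  have hL := o.hL h
  obtain ⟨d, hd, hdT⟩ := rot w K hK (CS.le hb.wS h hK)
  have hdw := hK.of_cj h hd.1
  have hdL : cj d (cj q K) = cj q K := by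
    rcases cj_cases h hK hL o.ne hdw with h1 | h1
    · exact h1.2
    · exact absurd (hd.1.symm.trans h1.1) o.ne
  obtain ⟨δ, hδ⟩ := o.qx.exists_act o.qx hd.1 hdw
  obtain ⟨δ', hδ'⟩ := o.qy.exists_act o.qy hdL hdw
  have e1 : δ = δ' := by
    ext i
    congr 1
    have h1 := hb.norm h l0 an hdT (o.mem_BW h i)
    have h2 : d * (x i * y i) * d⁻¹ = (d * x i * d⁻¹) * (d * y i * d⁻¹) := by group
    rw [h2, o.mod_mem h (o.w_mem h) (hδ i) (hδ' i)] at h1
    exact o.eq_of_mem h h1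
  subst e1
  refine ⟨d, hd, hdT, δ, hδ, hδ', fun i h1 => ?_⟩
  obtain ⟨h2, h3⟩ := hd.2 (x i) (o.qx.mem i) (o.qx.sq i)
  rcases hδ i with h4 | h4 <;> rw [h1] at h4
  · exact h2 h4
  · exact h3 h4

/-- **4.1 (a)** -/
theorem HB.cent {S : Sylow 2 G} (hb : HB Om (S : Subgroup G) w q) (h : WM Om) (l0 : L0 Om) (an : ANT Om)
    (rot : RotS Om (S : Subgroup G)) (hs : s ∈ TT Om (S : Subgroup G)) (hs1 : s ≠ 1) (hn : n ∈ ZS Om s)
    (hr : r ∈ BW Om w q) : n * r = r * n := by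
  obtain ⟨K, hK⟩ := CS.inZ hb.wS
  obtain ⟨s', hs', hs1', hq⟩ := hb.q'
  have ans' := an S s' hs' hs1'
  have ans := an S s hs hs1
  have hq2 : q * q = 1 := hq.1.z2 h
  obtain ⟨x, y, o⟩ := exists_co h hK hb.sw hq2
  have hL := o.hL h
  have hwT := CS.mem_TT hb.wS
  have hwz := CS.inZ hb.wS
  have hws : w ∈ ZS Om s := CS_subset_ZS h S.isPGroup' hs hb.wS
  have hqT : ∀ t ∈ TT Om (S : Subgroup G), q * t = t * q := fun t ht => ZS_TT h l0 an S hs' hs1' (mem_NZ hq) ht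
  have nT : ∀ {n}, n ∈ ZS Om s → ∀ t ∈ TT Om (S : Subgroup G), n * t = t * n := fun hn t ht =>
    ZS_TT h l0 an S hs hs1 (mem_NZ hn) ht
  obtain ⟨d, hd, hdT, δ, hδ, hδ', hδ1⟩ := hb.exists_rot h l0 an rot o
  have hdw := hdT w hwT
  by_cases hcase : ∃ p ∈ ZS Om s, Swp Om w p
  · obtain ⟨p, hp, hps⟩ := hcase
    have h1 := swp_line h o hps (hp.1.z2 h) hd (fun r hr => hb.norm h l0 an hdT hr)
      (fun r hr => BW_norm h l0 ans hws (mem_NZ hp) hps (hdT s hs) hdw hr)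
      (fun r hr => hb.norm h l0 an (nT hp) hr) r hr
    exact NZ_comm h l0 ans (mem_NZ hn) (BW_le_NZ h hws (mem_NZ hp) hps (hp.1.z2 h) h1)
  push Not at hcase
  have nil := nilS_ZS' h l0 ans
  -- every element of `Z(s)` is `w`, a C-partner or of type I
  have typ : ∀ m ∈ ZS Om s, w = m ∨ CP Om w m ∨ TI Om w m := by
    intro m hm
    by_cases hne : w = m
    · exact Or.inl hne
    rcases tri h hwz hm.1 hne (nT hm w hwT).symm with h1 | h1 | h1
    · exact Or.inr (Or.inl h1)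
    · exact Or.inr (Or.inr h1)
    · exfalso
      rcases h1.1.cases with h2 | h2
      · exact hcase m hm h2
      · exact nil.not_ff h hws (_root_.Subgroup.subset_closure hm) h2
  have hrR := (mem_BW.1 hr).1
  rcases typ n hn with h1 | h1 | hti
  · rw [← h1]; exact (RZ_le_centralizer h hrR).symm
  · exact CX_comm hrR (cp_cx h hn.1 h1)
  obtain ⟨a, b, dr⟩ := o.exists_dr h hti
  by_cases hab : a = b
  · subst hab
    rw [← mul_inv_eq_iff_eq_mul, o.dr_act h dr hrR, mul_inv_eq_iff_eq_mul]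
    exact o.BW_comm h (o.mem_BW h a) hr
  exfalso
  -- no element of type I has a swap partner in `Z(s)`
  have nosw : ∀ m ∈ ZS Om s, TI Om w m → ∀ v ∈ ZS Om s, ¬ Swp Om m v := by
    intro m hm htm v hv hsw
    obtain ⟨g, hgs, hgm⟩ := htm.exists_conj_s h hws hm
    have h1 := hsw.conj h g
    rw [hgm] at h1
    exact hcase _ (ZS_conj h hv hgs) h1
  -- products
  have prod : ∀ m ∈ ZS Om s, ∀ m' ∈ ZS Om s, TI Om w m → m ≠ m' → ¬ CP Om m m' → m * m' ∈ ZS Om s := by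
    intro m hm m' hm' htm hne hnc
    rcases tri h hm.1 hm'.1 hne (ZS_comm h l0 ans hm hm') with h1 | h1 | h1
    · exact absurd h1 hnc
    · exact h1.mul_ZS h hm hm'
    · exfalso
      rcases h1.1.cases with h2 | h2
      · exact nosw m hm htm m' hm' h2
      · exact nil.not_ff h hm (_root_.Subgroup.subset_closure hm') h2
  -- `n' = q n q⁻¹`
  have hqw : q * w = w * q := hqT w hwT
  have hn' : q * n * q⁻¹ ∈ ZS Om s := ZS_conj h hn (hqT s hs)
  have dr' : Dr K (cj q K) x y (q * n * q⁻¹) b a := by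
    constructor
    · have h1 := dr.2.conj q
      rw [o.xy] at h1
      have h2 : cj q (cj q K) = K := by rw [← cj_mul, hq2, cj_one]
      rwa [h2] at h1
    · have h1 := dr.1.conj q
      rwa [o.yx] at h1
  have hti' : TI Om w (q * n * q⁻¹) := TI.of_as h hK hn'.1 dr'.1 (o.qx.sq b)
  obtain ⟨c, hca, hcb, hab1, -⟩ := Q3.mul_third o.qx hab
  obtain ⟨c', hca', hcb', -, hba1⟩ := Q3.mul_third o.qy hab
  have hcc : c' = c := third_eq hab hca hcb hca' hcb'
  subst hcc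
  have hne : n ≠ q * n * q⁻¹ := by
    intro h1
    rw [← h1] at dr'
    exact hab (dr_unique_l h hK o.qx dr.1 dr'.1)
  have hnc : ¬ CP Om n (q * n * q⁻¹) := by
    intro h1
    exact hab (o.qx.inj (tt_II h h1 hti hti' hK dr.1 dr'.1)).symm
  obtain ⟨m, hm⟩ : ∃ m, m = n * (q * n * q⁻¹) := ⟨_, rfl⟩
  have hmZ : m ∈ ZS Om s := by rw [hm]; exact prod n hn _ hn' hti hne hnc
  have drm : Dr K (cj q K) x y m c' c' := by
    rw [hm]
    exact ⟨(dr.1.mul dr'.1).of_mod h hK hab1, (dr.2.mul dr'.2).of_mod h hL hba1⟩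
  -- rotate
  have rotd : ∀ m ∈ ZS Om s, ∀ c, Dr K (cj q K) x y m c c → ∃ m' ∈ ZS Om s, Dr K (cj q K) x y m' (δ c) (δ c) := by
    intro m hm c hdr
    refine ⟨d * m * d⁻¹, ZS_conj h hm (hdT s hs), ?_, ?_⟩
    · have h1 := hdr.1.conj d
      rw [hd.1] at h1
      exact h1.of_mod h hK (hδ c)
    · have h1 := hdr.2.conj d
      have hdL : cj d (cj q K) = cj q K := by
        rcases cj_cases h hK hL o.ne hdw with h1 | h1
        · exact h1.2
        · exact absurd (hd.1.symm.trans h1.1) o.ne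
      rw [hdL] at h1
      exact h1.of_mod h hL (hδ' c)
  obtain ⟨n₁, hn₁, dr₁⟩ : ∃ n₁ ∈ ZS Om s, Dr K (cj q K) x y n₁ a a := by
    obtain ⟨m₁, hm₁, e₁⟩ := rotd m hmZ c' drm
    obtain ⟨m₂, hm₂, e₂⟩ := rotd m₁ hm₁ (δ c') e₁
    have key : ∀ (δ : Equiv.Perm (Fin 3)) (a c : Fin 3), (∀ i, δ i ≠ i) → c ≠ a → δ c = a ∨ δ (δ c) = a := by decide +kernel
    rcases key δ a c' hδ1 hca with h1 | h1
    · exact ⟨m₁, hm₁, by rw [h1] at e₁; exact e₁⟩
    · exact ⟨m₂, hm₂, by rw [h1] at e₂; exact e₂⟩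
  have hti₁ : TI Om w n₁ := TI.of_as h hK hn₁.1 dr₁.1 (o.qx.sq a)
  have hne₁ : n ≠ n₁ := by
    intro h1
    rw [← h1] at dr₁
    exact hab (dr_unique_l h hL o.qy dr₁.2 dr.2)
  have hnc₁ : ¬ CP Om n n₁ := by
    intro h1
    exact hab (o.qy.inj (tt_II h h1 hti hti₁ hL dr.2 dr₁.2))
  have hM := prod n hn n₁ hn₁ hti hne₁ hnc₁
  have e1 : As K (n * n₁) 1 := by
    have h1 := dr.1.mul dr₁.1
    rw [o.qx.sq] at h1
    exact h1.of_mod h hK (Or.inr (by rw [mul_one]))
  have e2 : As (cj q K) (n * n₁) (y c') := (dr.2.mul dr₁.2).of_mod h hL hba1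
  have hMw : w ≠ n * n₁ := by
    intro h1
    rw [← h1] at e2
    exact hL.not_as_one h e2 (o.qy.sq c') (hL.as_z h)
  exact hL.not_as_one h e2 (o.qy.sq c') (As.one_iff.2 (InZ.cent_all hK hM.1 h hMw (As.one_iff.1 e1) hL))

/-- the world SW -/
def SW (Om : Set (Subgroup G)) : Prop :=
  ∃ S : Sylow 2 G, ∃ s ∈ TT Om (S : Subgroup G), s ≠ 1 ∧ ∃ a ∈ ZS Om s, ∃ b ∈ ZS Om s, Swp Om a b

/-- `w ∈ C_P ∩ C_{P'}` : an element of `C(w)` maps `C_{P'}` into `C_P` -/
theorem exists_conj_CS (h : WM Om) (P P' : Sylow 2 G) (hw : w ∈ CS Om (P : Subgroup G))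
    (hw' : w ∈ CS Om (P' : Subgroup G)) :
    ∃ c, c * w = w * c ∧ ∀ z ∈ CS Om (P' : Subgroup G), c * z * c⁻¹ ∈ CS Om (P : Subgroup G) := by
  haveI : Fact (Nat.Prime 2) := ⟨Nat.prime_two⟩
  have key : ∀ P : Sylow 2 G, w ∈ CS Om (P : Subgroup G) →
      ∃ Q, Syl Q (centralizer {w}) ∧ ∀ K ∈ Om, K ≤ (P : Subgroup G) → K ≤ Q := by
    intro P hw
    obtain ⟨D, hD⟩ : ∃ D : Subgroup G, D = sSup {K | K ∈ Om ∧ K ≤ (P : Subgroup G)} := ⟨_, rfl⟩
    have hDP : D ≤ (P : Subgroup G) := by rw [hD]; exact sSup_le fun K hK => hK.2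
    have hDs : D ≤ centralizer {w} := by
      rw [hD]
      refine sSup_le fun K hK => ?_
      have h3 : zz K ∈ CS Om (P : Subgroup G) := ⟨K, ⟨hK.1, rfl⟩, hK.2⟩
      exact Mem.le_cent (z := zz K) ⟨hK.1, rfl⟩ (CS_subset_ZS h P.isPGroup' (CS.mem_TT hw) h3)
    obtain ⟨Q, hQ, hle⟩ := exists_syl_ge (P.isPGroup'.to_le hDP) hDs
    refine ⟨Q, hQ, fun K hK hKP => ?_⟩
    refine le_trans ?_ hle
    rw [hD]
    exact le_sSup ⟨hK, hKP⟩
  obtain ⟨Q, hQ, hQm⟩ := key P hw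
  obtain ⟨Q', hQ', hQm'⟩ := key P' hw'
  obtain ⟨c, hc, hcQ⟩ := hQ'.exists_conj hQ
  obtain ⟨S1, hS1⟩ := hQ.2.1.exists_le_sylow
  have hmem := CS_eq_of_le h P S1 fun K hK hKP => (hQm K hK hKP).trans hS1
  refine ⟨c, mem_centralizer_singleton_iff.1 hc, ?_⟩
  rintro z ⟨K, hK, hKP⟩
  have hK' := Mem.cj (show Mem Om z K from hK) h c
  refine ⟨cj c K, hK', (hmem _ hK'.1).1 ?_⟩
  have h1 := cj_mono c (hQm' K hK.1 hKP)
  rw [hcQ] at h1
  exact h1.trans hS1

/-- every `w ∈ C_S` has a swap partner in some `Z(s')`, `s' ∈ T_S#` -/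
theorem SW.exists_hb (sw : SW Om) (h : WM Om) (oc : OneCl Om) (S : Sylow 2 G) (hw : w ∈ CS Om (S : Subgroup G)) :
    ∃ q, HB Om (S : Subgroup G) w q := by
  obtain ⟨S0, s0, hs0, hs1, a, ha, b, hb, hab⟩ := sw
  obtain ⟨P, hsP, haP, -, -⟩ := exists_psi h S0 hs0 ha ha.1 (ZS_comm_s h ha).symm rfl
  obtain ⟨g, hg⟩ := oc a w ha.1 (CS.inZ hw)
  have h1 : w ∈ CS Om ((g • P : Sylow 2 G) : Subgroup G) := by
    rw [← hg]; exact cj_CS h g haP
  obtain ⟨c, hcw, hc⟩ := exists_conj_CS h S (g • P) hw h1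
  have hcw' : c * w * c⁻¹ = w := by rw [hcw, mul_inv_cancel_right]
  have h2 : g * s0 * g⁻¹ ∈ TT Om ((g • P : Sylow 2 G) : Subgroup G) := by
    change g * s0 * g⁻¹ ∈ TT Om (cj g (P : Subgroup G))
    rw [TT_cj h]; exact conj_mem_cj hsP
  have h3 : ∀ t ∈ TT Om ((g • P : Sylow 2 G) : Subgroup G), c * t * c⁻¹ ∈ TT Om (S : Subgroup G) := by
    intro t ht
    have h4 : TT Om ((g • P : Sylow 2 G) : Subgroup G) ≤ (TT Om (S : Subgroup G)).comap (MulAut.conj c).toMonoidHom :=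
      (closure_le _).2 fun z hz => CS.mem_TT (hc z hz)
    exact h4 ht
  refine ⟨c * (g * b * g⁻¹) * c⁻¹, hw, ⟨c * (g * s0 * g⁻¹) * c⁻¹, h3 _ h2, ?_, ZS_cj h c (ZS_cj h g hb)⟩, ?_⟩
  · intro h4
    apply hs1
    have h5 : s0 = g⁻¹ * (c⁻¹ * (c * (g * s0 * g⁻¹) * c⁻¹) * c) * g := by group
    rw [h5, h4]; group
  · have h4 := (hab.conj h g).conj h c
    rwa [hg, hcw'] at h4

/-- elements of `R_w` centralising `C_{R_w}(q)` -/
theorem BW_cent' (h : WM Om) (hK : Mem Om w K) (hs : Swp Om w q) (hq : q * q = 1) (hr : r ∈ RZ Om w)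
    (hc : ∀ b ∈ BW Om w q, r * b = b * r) : r ∈ BW Om w q := by
  obtain ⟨x, y, o⟩ := exists_co h hK hs hq
  exact o.BW_cent h hr fun i => hc _ (o.mem_BW h i)

end Fin

end Cfsg.Agent.Cit.Nil.RTwoM
end

-- part: Cit/Nil/RTwoM/UReg
section
/-!
# S1309, (6b), (C3), `r = 2`, any `m`, `LAMBDA0` (helper762's uniform proof), 4.1 (b), (c): REG

* `ROneAR Om` : (R1a), the form for REG; `ROneAR.one`;
* `OneC.psi_of`, `OneC.exists_prod` : (R1c) : `x = e z₂ z₃`;
* **`regSW`** : `RegSW Om`.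
-/

set_option autoImplicit false
set_option linter.style.haveILetI false
set_option linter.unusedSectionVars false
set_option linter.unusedVariables false

namespace Cfsg.Agent.Cit.Nil.RTwoM

open Subgroup Cfsg Cfsg.Agent.Cit

open RTwo (Q3 Act i_ne1 i_ne2 i_ne12)
open RG (WR CP Ov InO Tr)
open RI (CS)

variable {G : Type*} [Group G] {Om : Set (Subgroup G)} {K L M : Subgroup G}
  {b c d g g' k l m n p q r s t u v w x y z k1 k2 : G}

/-- (R1a), the form for REG -/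
def ROneAR (Om : Set (Subgroup G)) : Prop := ∀ (S : Sylow 2 G) (x z u : G), Psi Om (S : Subgroup G) x →
  Nat.card (TT Om (S : Subgroup G)) = 4 → OneA Om (S : Subgroup G) x z u → x ∈ AA Om (S : Subgroup G) ∨
  ((∃ c ∈ RZ Om z, c * x ∈ NZ Om z) ∧
    ∃ k k', k ∈ RZ Om x ∧ k * z = z * k ∧ k' ∈ RZ Om u ∧ z * ((k' * k) * u * (k' * k)⁻¹) ∈ CX Om x)

section Fin

variable [Finite G]

/-- `k' k ∈ C(z)` -/
theorem ROneAR.one (r1 : ROneAR Om) (h : WM Om) : ROneA Om := by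
  intro S x z u hx h4 o
  rcases r1 S x z u hx h4 o with h1 | ⟨-, k, k', hk, hkz, hk', h1⟩
  · exact Or.inl h1
  right
  have hne : z ≠ u := by
    intro h2
    have h3 := o.sw
    rw [← h2] at h3
    obtain ⟨K, hK⟩ := hx.1
    exact h3.2 K hK (o.ti.inn.cj_eq hK h)
  have hcp := CS.cp o.hz h S.isPGroup' o.hu hne
  have hkz' : k' * z = z * k' := (cp_RZ h hcp (z_mem_RZ (CS.inZ o.hz) h) hk').symm
  have hg : (k' * k) * z * (k' * k)⁻¹ = z := by
    rw [mul_inv_eq_iff_eq_mul, mul_assoc, hkz, ← mul_assoc, hkz', mul_assoc]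
  refine ⟨_, (CS.inZ o.hu).conj h (k' * k), ?_, h1⟩
  have h2 := cp_conj h hcp (k' * k)
  rwa [hg] at h2

/-- (R1c) for a given `k₂` -/
theorem OneC.psi_of {S : Subgroup G} (o : OneC Om S x z u) (h : WM Om) (hS : IsPGroup 2 S) (hK : Mem Om x K)
    (hk1 : k1 ∈ K) (hkk : k1 * k1 = x) (hAs : As K (z * u) k1) (hk2 : k2 ∈ K) (hkk2 : k2 * k2 = x)
    (hne : k1 * k2 ≠ k2 * k1) :
    Psi Om S (k2 * z * k2⁻¹) ∧ (k2 * z * k2⁻¹) * z = z * (k2 * z * k2⁻¹) ∧
      ∀ K2, Mem Om (k2 * z * k2⁻¹) K2 → ∀ a, ¬ As K2 (z * u) a := by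
  have hzZ := CS.inZ o.hz
  have huZ := CS.inZ o.hu
  have hzz := hzZ.z2 h
  have hzu : z * u = u * z := CS.comm o.hz h hS o.hu
  have hx := hK.inZ
  have hxx := hx.z2 h
  have hxz : z * x = x * z := o.swz.1
  have hxu : u * x = x * u := o.swu.1
  have hxk : ∀ k ∈ K, k * x = x * k := fun k hk => hK.comm_z h hk
  have e1 : (z * u) * k2 * (z * u)⁻¹ = x * k2 := by
    rw [hAs.2 k2 hk2]
    exact hK.anti h hk2 hkk2 hk1 hkk (fun h1 => hne h1.symm)
  have hl : z * k2 * z⁻¹ ∈ cj z K := conj_mem_cj hk2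
  have hcm : ∀ k ∈ K, k * (z * k2 * z⁻¹) = (z * k2 * z⁻¹) * k := fun k hk => o.swz.cm h hK hk hk2
  have hzi : z⁻¹ = z := hzZ.inv h
  have hk2i : k2⁻¹ = x * k2 := hK.inv_eq h hk2 hkk2
  have hc1 : (k2 * z * k2⁻¹) * z = z * (k2 * z * k2⁻¹) := by
    have h1 := hcm k2 hk2
    have hLz : Mem Om x (cj z K) := o.swz.mem h hK
    have hlz : (z * k2 * z⁻¹) * (z * k2 * z⁻¹) = x := by
      calc (z * k2 * z⁻¹) * (z * k2 * z⁻¹) = z * (k2 * k2) * z⁻¹ := by group
        _ = x := by rw [hkk2, hxz, mul_inv_cancel_right]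
    have hli : (z * k2 * z⁻¹)⁻¹ = x * (z * k2 * z⁻¹) := hLz.inv_eq h hl hlz
    rw [hzi] at h1 hli hlz
    have hk2x : k2 * x = x * k2 := hxk k2 hk2
    calc (k2 * z * k2⁻¹) * z = k2 * (z * k2⁻¹ * z) := by group
      _ = k2 * (z * k2 * z)⁻¹ := by
          rw [show (z * k2 * z)⁻¹ = z⁻¹ * k2⁻¹ * z⁻¹ by group, hzi]
      _ = k2 * (x * (z * k2 * z)) := by rw [hli]
      _ = x * (k2 * (z * k2 * z)) := by rw [← mul_assoc, hk2x, mul_assoc]
      _ = x * ((z * k2 * z) * k2) := by rw [h1]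
      _ = (z * k2 * z) * (x * k2) := by
          have h3 : (z * k2 * z) * x = x * (z * k2 * z) := by
            have := hLz.comm_z h hl
            rwa [hzi] at this
          rw [← mul_assoc, ← h3, mul_assoc]
      _ = (z * k2 * z) * k2⁻¹ := by rw [hk2i]
      _ = z * (k2 * z * k2⁻¹) := by group
  refine ⟨?_, hc1, ?_⟩
  · have hc2 : (k2 * z * k2⁻¹) * (z * u) = (z * u) * (k2 * z * k2⁻¹) := by
      have h1 : (z * u) * (k2 * z * k2⁻¹) * (z * u)⁻¹ = k2 * z * k2⁻¹ := by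
        have h2 : (z * u) * z * (z * u)⁻¹ = z := by
          rw [show (z * u) * z * (z * u)⁻¹ = z * (u * z) * (z * u)⁻¹ by group, ← hzu]
          group
        calc (z * u) * (k2 * z * k2⁻¹) * (z * u)⁻¹
            = ((z * u) * k2 * (z * u)⁻¹) * ((z * u) * z * (z * u)⁻¹) * ((z * u) * k2 * (z * u)⁻¹)⁻¹ := by group
          _ = (x * k2) * z * (x * k2)⁻¹ := by rw [e1, h2]
          _ = (k2 * x) * z * (k2 * x)⁻¹ := by rw [hxk k2 hk2]
          _ = k2 * (x * z * x⁻¹) * k2⁻¹ := by group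
          _ = k2 * z * k2⁻¹ := by rw [← hxz, mul_inv_cancel_right]
      rw [mul_inv_eq_iff_eq_mul] at h1
      exact h1.symm
    refine Psi.of_comm (hzZ.conj h k2) fun v hv => ?_
    rcases o.all v hv with rfl | rfl
    · exact hc1
    · have h3 : v = z * (z * v) := by rw [← mul_assoc, hzz, one_mul]
      calc (k2 * z * k2⁻¹) * v = (k2 * z * k2⁻¹) * (z * (z * v)) := by rw [← h3]
        _ = ((k2 * z * k2⁻¹) * z) * (z * v) := by group
        _ = (z * (k2 * z * k2⁻¹)) * (z * v) := by rw [hc1]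
        _ = z * ((k2 * z * k2⁻¹) * (z * v)) := by group
        _ = z * ((z * v) * (k2 * z * k2⁻¹)) := by rw [hc2]
        _ = (z * (z * v)) * (k2 * z * k2⁻¹) := by group
        _ = _ := by rw [← h3]
  · intro K2 hK2 b hb
    have h1 := hb.conj k2⁻¹
    have hM : Mem Om z (cj k2⁻¹ K2) := by
      have h2 := hK2.cj h k2⁻¹
      rwa [inv_inv, show k2⁻¹ * (k2 * z * k2⁻¹) * k2 = z by group] at h2
    have e4 : k2⁻¹ * (z * u) * k2⁻¹⁻¹ = x * (z * u) := by
      rw [inv_inv]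
      have h2 : (z * u) * k2 = x * k2 * (z * u) := by rw [← e1]; group
      calc k2⁻¹ * (z * u) * k2 = k2⁻¹ * ((z * u) * k2) := by group
        _ = k2⁻¹ * (x * k2 * (z * u)) := by rw [h2]
        _ = k2⁻¹ * (k2 * x * (z * u)) := by rw [hxk k2 hk2]
        _ = x * (z * u) := by group
    rw [e4] at h1
    have hz1 : As (cj k2⁻¹ K2) z 1 := hM.as_z h
    have hu1 : As (cj k2⁻¹ K2) u 1 := by
      rw [As.one_iff]
      have hcp : CP Om z u := CS.cp o.hz h hS o.hu o.ne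
      exact mem_CX.1 (cp_cx h huZ hcp) _ hM
    have h3 := h1.mul ((hz1.mul hu1).inv)
    rw [mul_inv_cancel_right, one_mul, inv_one, mul_one] at h3
    refine o.swz.not_cases h hx hzZ (inn_cases h hM hx fun k hk => ?_)
    rw [h3.2 k hk]
    exact hM.comm_or h hk h3.1

/-- (R1c) : `x = e z₂ z₃` -/
theorem OneC.exists_prod {S : Subgroup G} (o : OneC Om S x z u) (h : WM Om) (hS : IsPGroup 2 S) :
    ∃ e z2 z3, x = e * z2 * z3 ∧ e ∈ NZ Om (z * u) ∧ (Psi Om S z2 ∧ ∀ K2, Mem Om z2 K2 → ∀ a, ¬ As K2 (z * u) a) ∧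
      (Psi Om S z3 ∧ ∀ K3, Mem Om z3 K3 → ∀ a, ¬ As K3 (z * u) a) := by
  obtain ⟨K, k1, hK, hk1, hkk, hAs⟩ := o.inn
  obtain ⟨k2, hk2, hkk2, hne⟩ := hK.exists_nc h hk1 hkk
  have hzZ := CS.inZ o.hz
  have hzi : z⁻¹ = z := hzZ.inv h
  have hzz := hzZ.z2 h
  have hx := hK.inZ
  have hxx := hx.z2 h
  have hxk : ∀ k ∈ K, k * x = x * k := fun k hk => hK.comm_z h hk
  have hanti : k2 * k1 = x * (k1 * k2) := by
    have h1 := hK.anti h hk1 hkk hk2 hkk2 hne
    rw [mul_inv_eq_iff_eq_mul] at h1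
    rw [h1, mul_assoc]
  have hk3 : k1 * k2 ∈ K := mul_mem hk1 hk2
  have hne3 : k1 * (k1 * k2) ≠ (k1 * k2) * k1 := by
    intro h1
    apply hne
    rw [mul_assoc] at h1
    exact mul_left_cancel h1
  have hkk3 : (k1 * k2) * (k1 * k2) = x := by
    calc (k1 * k2) * (k1 * k2) = k1 * (k2 * k1) * k2 := by group
      _ = k1 * (x * (k1 * k2)) * k2 := by rw [hanti]
      _ = (k1 * x) * k1 * (k2 * k2) := by group
      _ = (x * k1) * k1 * (k2 * k2) := by rw [hxk k1 hk1]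
      _ = x * (k1 * k1) * (k2 * k2) := by group
      _ = x := by rw [hkk, hkk2, hxx, one_mul]
  obtain ⟨p2, c2, n2⟩ := o.psi_of h hS hK hk1 hkk hAs hk2 hkk2 hne
  obtain ⟨p3, c3, n3⟩ := o.psi_of h hS hK hk1 hkk hAs hk3 hkk3 hne3
  refine ⟨z * (k1 * z⁻¹ * k1⁻¹), _, _, ?_, ?_, ⟨p2, n2⟩, ⟨p3, n3⟩⟩
  · -- `g_j = (z k_j z⁻¹) k_j⁻¹`
    have hcm : ∀ k ∈ K, ∀ l ∈ K, k * (z * l * z⁻¹) = (z * l * z⁻¹) * k := fun k hk l hl => o.swz.cm h hK hk hl
    have hgc : ∀ k ∈ K, ∀ l ∈ K, k⁻¹ * (z * l * z⁻¹) = (z * l * z⁻¹) * k⁻¹ := fun k hk l hl =>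
      hcm _ (inv_mem hk) l hl
    obtain ⟨l1, e1⟩ : ∃ l1, l1 = z * k1 * z⁻¹ := ⟨_, rfl⟩
    obtain ⟨l2, e2⟩ : ∃ l2, l2 = z * k2 * z⁻¹ := ⟨_, rfl⟩
    have g3 : z * ((k1 * k2) * z * (k1 * k2)⁻¹) = l1 * l2 * (k1 * k2)⁻¹ := by
      rw [e1, e2]
      calc z * ((k1 * k2) * z * (k1 * k2)⁻¹) = z * (k1 * k2) * z * (k1 * k2)⁻¹ := by group
        _ = z * (k1 * k2) * z⁻¹ * (k1 * k2)⁻¹ := by rw [hzi]
        _ = _ := by group
    have g2 : z * (k2 * z * k2⁻¹) = l2 * k2⁻¹ := by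
      rw [e2]
      calc z * (k2 * z * k2⁻¹) = z * k2 * z * k2⁻¹ := by group
        _ = _ := by rw [hzi]
    have g1 : z * (k1 * z⁻¹ * k1⁻¹) = l1 * k1⁻¹ := by rw [e1]; group
    have g3s : (z * ((k1 * k2) * z * (k1 * k2)⁻¹)) * (z * ((k1 * k2) * z * (k1 * k2)⁻¹)) = 1 := by
      have h1 : ((k1 * k2) * z * (k1 * k2)⁻¹) * ((k1 * k2) * z * (k1 * k2)⁻¹) = 1 := by
        calc ((k1 * k2) * z * (k1 * k2)⁻¹) * ((k1 * k2) * z * (k1 * k2)⁻¹)
            = (k1 * k2) * (z * z) * (k1 * k2)⁻¹ := by group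
          _ = 1 := by rw [hzz]; group
      calc (z * ((k1 * k2) * z * (k1 * k2)⁻¹)) * (z * ((k1 * k2) * z * (k1 * k2)⁻¹))
          = z * (((k1 * k2) * z * (k1 * k2)⁻¹) * z) * ((k1 * k2) * z * (k1 * k2)⁻¹) := by group
        _ = z * (z * ((k1 * k2) * z * (k1 * k2)⁻¹)) * ((k1 * k2) * z * (k1 * k2)⁻¹) := by rw [c3]
        _ = (z * z) * (((k1 * k2) * z * (k1 * k2)⁻¹) * ((k1 * k2) * z * (k1 * k2)⁻¹)) := by group
        _ = 1 := by rw [hzz, h1, one_mul]
    have g12 : z * (k1 * z⁻¹ * k1⁻¹) * (z * (k2 * z * k2⁻¹)) = x * (z * ((k1 * k2) * z * (k1 * k2)⁻¹)) := by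
      rw [g1, g2, g3]
      have h1 : k1⁻¹ * l2 = l2 * k1⁻¹ := by rw [e2]; exact hgc k1 hk1 k2 hk2
      have h2 : (k2 * k1)⁻¹ = x * (k1 * k2)⁻¹ := by
        rw [hanti, mul_inv_rev, hx.inv h]
        exact hxk _ (inv_mem hk3)
      have h3 : x * (l1 * l2) = (l1 * l2) * x := by
        have h4 : ∀ k ∈ K, x * (z * k * z⁻¹) = (z * k * z⁻¹) * x := fun k hk =>
          ((o.swz.mem h hK).comm_z h (conj_mem_cj hk)).symm
        rw [e1, e2, ← mul_assoc, h4 k1 hk1, mul_assoc, h4 k2 hk2, ← mul_assoc]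
      calc l1 * k1⁻¹ * (l2 * k2⁻¹) = l1 * (k1⁻¹ * l2) * k2⁻¹ := by group
        _ = l1 * l2 * (k2 * k1)⁻¹ := by rw [h1]; group
        _ = (l1 * l2 * x) * (k1 * k2)⁻¹ := by rw [h2]; group
        _ = _ := by rw [← h3]; group
    have h1 : z * (k1 * z⁻¹ * k1⁻¹) * (k2 * z * k2⁻¹) * ((k1 * k2) * z * (k1 * k2)⁻¹) =
        (z * (k1 * z⁻¹ * k1⁻¹) * (z * (k2 * z * k2⁻¹))) * (z * ((k1 * k2) * z * (k1 * k2)⁻¹)) := by
      calc z * (k1 * z⁻¹ * k1⁻¹) * (k2 * z * k2⁻¹) * ((k1 * k2) * z * (k1 * k2)⁻¹)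
          = z * (k1 * z⁻¹ * k1⁻¹) * ((z * z) * (k2 * z * k2⁻¹)) * ((k1 * k2) * z * (k1 * k2)⁻¹) := by
            rw [hzz, one_mul]
        _ = z * (k1 * z⁻¹ * k1⁻¹) * z * (z * (k2 * z * k2⁻¹)) * ((k1 * k2) * z * (k1 * k2)⁻¹) := by group
        _ = z * (k1 * z⁻¹ * k1⁻¹) * z * ((k2 * z * k2⁻¹) * z) * ((k1 * k2) * z * (k1 * k2)⁻¹) := by rw [← c2]
        _ = _ := by group
    rw [h1, g12, mul_assoc, g3s, mul_one]
  · have hzu : z ∈ NZ Om (z * u) := by
      have hT : z * u ∈ TT Om S := mul_mem (CS.mem_TT o.hz) (CS.mem_TT o.hu)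
      exact TT_le_NZ' h hS hT (CS.mem_TT o.hz)
    exact mul_mem hzu (NZ_conj h hAs.comm.symm (inv_mem hzu))

/-- type (1c) for `z₂` : impossible -/
theorem OneC.not_of {S : Subgroup G} (o : OneC Om S x z u) (h : WM Om) (hS : IsPGroup 2 S)
    (hno : ∀ K2, Mem Om y K2 → ∀ a, ¬ As K2 (z * u) a) (z' u' : G) : ¬ OneC Om S y z' u' := by
  intro o'
  have hzu : z * u = u * z := CS.comm o.hz h hS o.hu
  have hzu' : z' * u' = z * u := by
    rcases o.all z' o'.hz with h1 | h1 <;> rcases o.all u' o'.hu with h2 | h2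
    · exact absurd (h1.trans h2.symm) o'.ne
    · rw [h1, h2]
    · rw [h1, h2, hzu]
    · exact absurd (h1.trans h2.symm) o'.ne
  obtain ⟨K2, b, hK2, -, -, hb⟩ := o'.inn
  rw [hzu'] at hb
  exact hno K2 hK2 b hb

theorem BW_conj (h : WM Om) (g : G) (hr : r ∈ BW Om w q) : g * r * g⁻¹ ∈ BW Om (g * w * g⁻¹) (g * q * g⁻¹) := by
  obtain ⟨h1, h2⟩ := mem_BW.1 hr
  refine mem_BW.2 ⟨RZ_conj h g h1, ?_⟩
  calc g * r * g⁻¹ * (g * q * g⁻¹) = g * (r * q) * g⁻¹ := by group
    _ = g * (q * r) * g⁻¹ := by rw [h2]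
    _ = _ := by group

theorem HB.cj {S : Sylow 2 G} (hb : HB Om (S : Subgroup G) w q) (h : WM Om) (g : G) :
    HB Om ((g • S : Sylow 2 G) : Subgroup G) (g * w * g⁻¹) (g * q * g⁻¹) := by
  obtain ⟨s', hs', hs1, hq⟩ := hb.q'
  refine ⟨cj_CS h g hb.wS, ⟨g * s' * g⁻¹, ?_, ?_, ZS_cj h g hq⟩, hb.sw.conj h g⟩
  · change g * s' * g⁻¹ ∈ TT Om (Cit.cj g (S : Subgroup G))
    rw [TT_cj h]; exact conj_mem_cj hs'
  · intro h4
    apply hs1
    have h5 : s' = g⁻¹ * (g * s' * g⁻¹) * g := by group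
    rw [h5, h4]; group

/-- REG, not type (1c) -/
theorem HB.reg_aux {S : Sylow 2 G} (hb : HB Om (S : Subgroup G) w q) (h : WM Om) (l0 : L0 Om) (an : ANT Om)
    (rot : ∀ S : Sylow 2 G, RotS Om (S : Subgroup G)) (r0 : RZero Om) (r1 : ROneAR Om)
    (hx : Psi Om (S : Subgroup G) x) (hno : ∀ z u, ¬ OneC Om (S : Subgroup G) x z u) (hr : r ∈ BW Om w q) :
    x * r = r * x := by
  by_cases hf : Free Om (S : Subgroup G) x
  swap
  · unfold Free at hf
    push Not at hf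
    obtain ⟨t, ht, htx, ht1⟩ := hf
    exact hb.cent h l0 an (rot S) ht ht1 ⟨hx.1, htx⟩ hr
  have hAA : x ∈ AA Om (S : Subgroup G) → x * r = r * x := fun h1 => by
    have h2 : AA Om (S : Subgroup G) ≤ centralizer {r} := by
      rw [AA, closure_le]
      rintro y ⟨t, ht, ht1, hy⟩
      rw [SetLike.mem_coe, mem_centralizer_singleton_iff]
      exact hb.cent h l0 an (rot S) ht ht1 hy hr
    exact mem_centralizer_singleton_iff.1 (h2 h1)
  rcases r0 S x hx hf with h1 | ⟨h4, ⟨z, u, o⟩ | ⟨z, u, o⟩⟩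
  · exact hAA h1
  · rcases r1 S x z u hx h4 o with h1 | ⟨⟨c, hc, hcx⟩, k, k', hk, hkz, hk', hy⟩
    · exact hAA h1
    have hzZ := CS.inZ o.hz
    by_cases hwz : w = z
    · subst hwz
      have hne : w ≠ u := by
        intro h2
        have h3 := o.sw
        rw [← h2] at h3
        obtain ⟨K, hK⟩ := hx.1
        exact h3.2 K hK (o.ti.inn.cj_eq hK h)
      have hcp := CS.cp o.hz h S.isPGroup' o.hu hne
      have hkz' : k' * w = w * k' := (cp_RZ h hcp (z_mem_RZ hzZ h) hk').symm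
      have hg : (k' * k) * w * (k' * k)⁻¹ = w := by
        rw [mul_inv_eq_iff_eq_mul, mul_assoc, hkz, ← mul_assoc, hkz', mul_assoc]
      have hb' := hb.cj h (k' * k)
      rw [hg] at hb'
      have huS : (k' * k) * u * (k' * k)⁻¹ ∈ CS Om (((k' * k) • S : Sylow 2 G) : Subgroup G) := cj_CS h _ o.hu
      have hsT := mul_mem (CS.mem_TT hb'.wS) (CS.mem_TT huS)
      have hs1 : w * ((k' * k) * u * (k' * k)⁻¹) ≠ 1 := by
        intro h2
        have h3 := eq_inv_of_mul_eq_one_left h2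
        rw [((CS.inZ o.hu).conj h _).inv h] at h3
        apply hne
        have h5 : (k' * k) * w * (k' * k)⁻¹ = (k' * k) * u * (k' * k)⁻¹ := hg.trans h3
        exact mul_left_cancel (mul_right_cancel h5)
      have h6 := BW_conj h (k' * k) hr
      rw [hg] at h6
      have h7 := hb'.cent h l0 an (rot _) hsT hs1 ⟨hx.1, hy⟩ h6
      -- `(k' k) r (k' k)⁻¹ = k r k⁻¹`
      have h8 : k * r * k⁻¹ ∈ RZ Om w := RZ_conj_comm h hkz (mem_BW.1 hr).1
      have h9 : (k' * k) * r * (k' * k)⁻¹ = k * r * k⁻¹ := by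
        calc (k' * k) * r * (k' * k)⁻¹ = k' * (k * r * k⁻¹) * k'⁻¹ := by group
          _ = k * r * k⁻¹ := by rw [← cp_RZ h hcp h8 hk', mul_inv_cancel_right]
      rw [h9] at h7
      have hxk : k * x = x * k := RZ_le_centralizer h hk
      have hxk' : k⁻¹ * x = x * k⁻¹ := by rw [inv_mul_eq_iff_eq_mul, ← mul_assoc, hxk, mul_inv_cancel_right]
      calc x * r = x * k⁻¹ * (k * r * k⁻¹) * k := by group
        _ = k⁻¹ * (x * (k * r * k⁻¹)) * k := by rw [← hxk']; group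
        _ = k⁻¹ * ((k * r * k⁻¹) * x) * k := by rw [h7]
        _ = r * k⁻¹ * (x * k) := by group
        _ = _ := by rw [← hxk]; group
    · have hcp := CS.cp o.hz h S.isPGroup' hb.wS (Ne.symm hwz)
      have h1 : c * r = r * c := cp_RZ h hcp hc (mem_BW.1 hr).1
      have h2 : NZ Om z ≤ centralizer {r} := by
        refine (closure_le _).2 fun y hy => ?_
        rw [SetLike.mem_coe, mem_centralizer_singleton_iff]
        exact hb.cent h l0 an (rot S) (CS.mem_TT o.hz) (hzZ.z1 h) hy hr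
      have h3 := mem_centralizer_singleton_iff.1 (h2 hcx)
      have h5 : c * (x * r) = c * (r * x) := by
        rw [← mul_assoc, h3, ← mul_assoc, ← h1, mul_assoc]
      exact mul_left_cancel h5
  · exact absurd o (hno z u)

/-- **REG** -/
theorem HB.reg {S : Sylow 2 G} (hb : HB Om (S : Subgroup G) w q) (h : WM Om) (l0 : L0 Om) (an : ANT Om)
    (rot : ∀ S : Sylow 2 G, RotS Om (S : Subgroup G)) (r0 : RZero Om) (r1 : ROneAR Om)
    (hx : Psi Om (S : Subgroup G) x) (hr : r ∈ BW Om w q) : x * r = r * x := by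
  by_cases hno : ∀ z u, ¬ OneC Om (S : Subgroup G) x z u
  · exact hb.reg_aux h l0 an rot r0 r1 hx hno hr
  push Not at hno
  obtain ⟨z, u, o⟩ := hno
  obtain ⟨e, z2, z3, hprod, he, ⟨p2, n2⟩, p3, n3⟩ := o.exists_prod h S.isPGroup'
  have h2 := hb.reg_aux h l0 an rot r0 r1 p2 (o.not_of h S.isPGroup' n2) hr
  have h3 := hb.reg_aux h l0 an rot r0 r1 p3 (o.not_of h S.isPGroup' n3) hr
  have hT : z * u ∈ TT Om (S : Subgroup G) := mul_mem (CS.mem_TT o.hz) (CS.mem_TT o.hu)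
  have hT1 : z * u ≠ 1 := by
    intro h4
    apply o.ne
    rw [eq_inv_of_mul_eq_one_left h4, (CS.inZ o.hu).inv h]
  have h4 : NZ Om (z * u) ≤ centralizer {r} := by
    refine (closure_le _).2 fun y hy => ?_
    rw [SetLike.mem_coe, mem_centralizer_singleton_iff]
    exact hb.cent h l0 an (rot S) hT hT1 hy hr
  have h5 := mem_centralizer_singleton_iff.1 (h4 he)
  rw [hprod, mul_assoc (e * z2), h3, ← mul_assoc, mul_assoc e, h2, ← mul_assoc, h5, mul_assoc, mul_assoc, mul_assoc]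

/-- **4.1** -/
theorem regSW (h : WM Om) (l0 : L0 Om) (an : ANT Om) (oc : OneCl Om)
    (rot : ∀ S : Sylow 2 G, RotS Om (S : Subgroup G)) (sw : SW Om) (r0 : RZero Om) (r1 : ROneAR Om) : RegSW Om := by
  intro P w hw
  obtain ⟨q, hb⟩ := sw.exists_hb h oc P hw
  obtain ⟨K, hK⟩ := CS.inZ hw
  obtain ⟨s', -, -, hq⟩ := hb.q'
  exact ⟨BW Om w q, inf_le_left, fun r hr hc => BW_cent' h hK hb.sw (hq.1.z2 h) hr hc, fun x hx hn b hbB =>
    hb.reg h l0 an rot r0 r1 ⟨hx, hn⟩ hbB⟩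

end Fin

end Cfsg.Agent.Cit.Nil.RTwoM
end

-- part: Cit/Nil/RTwoM/U/Bridge
section
/-!
# S1309, (6b), (C3), `r = 2`, any `m`, `LAMBDA0 ⟹ StarC` (helper762's uniform proof): (R0), (R1a) in the form of section 6

* `exists_sylow_of_three` : a 3-clique of C-pairs lies in some `C_S`;
* `four_le_card_TT`, `card_TT_le` : `4 ≤ |T_S|` for two elements of `C_S`, `|T_S| ≤ 2 ^ |C_S|`;
* **`RZero.of`** : (R0);
* **`ROneA.of`** : (R1a).
-/

set_option autoImplicit false
set_option linter.style.haveILetI false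
set_option linter.unusedSectionVars false

namespace Cfsg.Agent.Cit.Nil.RTwoM

open Subgroup Cfsg Cfsg.Agent.Cit
open RG (WR CP Ov InO)
open RI (CS)

variable {G : Type*} [Group G] {Om : Set (Subgroup G)} {K L M X A : Subgroup G} {a c d e s t u v w x y z g k n : G}

section Fin

variable [Finite G]

/-- a 3-clique lies in some `C_S` -/
theorem exists_sylow_of_three (h : WM Om) (hz : InZ Om z) (hu : InZ Om u) (he : InZ Om e) (hzu : CP Om z u)
    (hze : CP Om z e) (hue : CP Om u e) :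
    ∃ S : Sylow 2 G, z ∈ CS Om (S : Subgroup G) ∧ u ∈ CS Om (S : Subgroup G) ∧ e ∈ CS Om (S : Subgroup G) := by
  classical
  obtain ⟨K, hK⟩ := hz
  obtain ⟨L, hL⟩ := hu
  obtain ⟨M, hM⟩ := he
  obtain ⟨S, hS⟩ := (isPGroup_clique h {K, L, M} (by
    intro x hx
    rw [Finset.mem_insert, Finset.mem_insert, Finset.mem_singleton] at hx
    rcases hx with rfl | rfl | rfl
    · exact hK.1
    · exact hL.1
    · exact hM.1) (by
    intro x hx y hy hne
    rw [Finset.mem_insert, Finset.mem_insert, Finset.mem_singleton] at hx hy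
    rcases hx with rfl | rfl | rfl <;> rcases hy with rfl | rfl | rfl
    · exact absurd rfl hne
    · exact hzu.2 _ hK _ hL
    · exact hze.2 _ hK _ hM
    · exact fun a ha b hb => (hzu.2 _ hK _ hL b hb a ha).symm
    · exact absurd rfl hne
    · exact hue.2 _ hL _ hM
    · exact fun a ha b hb => (hze.2 _ hK _ hM b hb a ha).symm
    · exact fun a ha b hb => (hue.2 _ hL _ hM b hb a ha).symm
    · exact absurd rfl hne)).exists_le_sylow
  have h1 : ∀ N ∈ ({K, L, M} : Finset (Subgroup G)), N ≤ (S : Subgroup G) := fun N hN =>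
    (le_iSup₂ (f := fun x (_ : x ∈ ({K, L, M} : Finset (Subgroup G))) => x) N hN).trans hS
  exact ⟨S, ⟨K, hK, h1 K (by simp)⟩, ⟨L, hL, h1 L (by simp)⟩, ⟨M, hM, h1 M (by simp)⟩⟩

/-- two elements of `C_S` : `4 ≤ |T_S|` -/
theorem four_le_card_TT (h : WM Om) {S : Subgroup G} (hz : z ∈ CS Om S) (hu : u ∈ CS Om S)
    (hne : z ≠ u) : 4 ≤ Nat.card (TT Om S) := by
  classical
  have hzi := CS.inZ hz
  have hui := CS.inZ hu
  have h1 : ({1, z, u, z * u} : Finset G).card = 4 := by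
    rw [Finset.card_insert_of_notMem, Finset.card_insert_of_notMem, Finset.card_insert_of_notMem,
      Finset.card_singleton]
    · rw [Finset.mem_singleton]
      intro h2
      exact hzi.z1 h (mul_eq_right.1 h2.symm)
    · rw [Finset.mem_insert, Finset.mem_singleton]
      rintro (h2 | h2)
      · exact hne h2
      · exact hui.z1 h (mul_eq_left.1 h2.symm)
    · rw [Finset.mem_insert, Finset.mem_insert, Finset.mem_singleton]
      rintro (h2 | h2 | h2)
      · exact hzi.z1 h h2.symm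
      · exact hui.z1 h h2.symm
      · apply hne
        have h3 : z = u⁻¹ := eq_inv_of_mul_eq_one_left h2.symm
        rw [h3, hui.inv h]
  have h2 : ((({1, z, u, z * u} : Finset G) : Set G)) ⊆ (TT Om S : Set G) := by
    intro k hk
    rw [Finset.mem_coe, Finset.mem_insert, Finset.mem_insert, Finset.mem_insert, Finset.mem_singleton] at hk
    rcases hk with rfl | rfl | rfl | rfl
    · exact one_mem _
    · exact CS.mem_TT hz
    · exact CS.mem_TT hu
    · exact mul_mem (CS.mem_TT hz) (CS.mem_TT hu)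
  have h3 := Set.ncard_le_ncard h2 (Set.toFinite _)
  rw [Set.ncard_coe_finset, h1] at h3
  exact h3.trans (le_of_eq (Nat.card_coe_set_eq _).symm)

/-- `|T_S| = 4` if `T_S = {1, s, p, p s}` -/
theorem card_TT_le_four {S : Subgroup G} (ha : ∀ t ∈ TT Om S, t = 1 ∨ t = a ∨ t = c ∨ t = d) :
    Nat.card (TT Om S) ≤ 4 := by
  classical
  have h2 : (TT Om S : Set G) ⊆ ((({1, a, c, d} : Finset G) : Set G)) := by
    intro t ht
    rw [Finset.mem_coe, Finset.mem_insert, Finset.mem_insert, Finset.mem_insert, Finset.mem_singleton]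
    exact ha t ht
  have h3 := Set.ncard_le_ncard h2 (Finset.finite_toSet _)
  rw [Set.ncard_coe_finset] at h3
  have h4 : Nat.card (TT Om S) = (TT Om S : Set G).ncard := Nat.card_coe_set_eq _
  rw [h4]
  exact h3.trans Finset.card_le_four

/-- **(R0)**, the form of section 6 -/
theorem RZero.of (h : WM Om) (l0 : L0 Om) (an : ANT Om)
    (two : ∀ S : Sylow 2 G, ∃ z u, z ∈ CS Om (S : Subgroup G) ∧ u ∈ CS Om (S : Subgroup G) ∧ z ≠ u) : RZero Om := by
  intro S x hx hfr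
  obtain ⟨z, u, hz, hu, hne⟩ := two S
  have hS := S.isPGroup'
  rcases rzero h l0 an S hx.1 (fun t ht => (hx.comm_TT h l0 hS ht).symm) hfr hz hu hne with h1 | ⟨p, s, e⟩
  · exact Or.inl h1
  right
  have hcs : ∀ v ∈ CS Om (S : Subgroup G), v = s ∨ v = p ∨ v = p * s := by
    intro v hv
    rcases e.all v (CS.mem_TT hv) with h1 | h1
    · exact absurd h1 ((CS.inZ hv).z1 h)
    · exact h1
  refine ⟨le_antisymm (card_TT_le_four e.all) (four_le_card_TT h hz hu hne), ?_⟩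
  obtain ⟨K, hK⟩ := hx.1
  obtain ⟨a, haK, haa, has, has'⟩ := e.as K hK
  have hsK : cj s K = K := by
    have h1 : ∀ y ∈ K, s * y * s⁻¹ ∈ K := fun y hy => by
      rw [has.2 y hy]
      exact mul_mem (mul_mem haK hy) (inv_mem haK)
    apply le_antisymm
    · rintro y hy
      rw [mem_cj] at hy
      have h2 := h1 _ hy
      rwa [show s * (s⁻¹ * y * s) * s⁻¹ = y by group] at h2
    · intro y hy
      have hss : s⁻¹ = s := inv_eq_of_mul_eq_one_right (TT_sq h hS e.sT)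
      rw [mem_cj]
      have h2 := h1 y hy
      rw [hss] at h2 ⊢
      exact h2
  have hsx : s * x = x * s := (hx.comm_TT h l0 hS e.sT).symm
  have hps : Swp Om x (p * s) := swp_mul_fix h hK e.swp hsx hsK
  -- `s ∈ C_S` : type (1a)
  have hA : ∀ v, v ∈ CS Om (S : Subgroup G) → v ≠ s → s ∈ CS Om (S : Subgroup G) →
      ∃ z u, OneA Om (S : Subgroup G) x z u := by
    intro v hv hvs hs
    refine ⟨s, v, hs, hv, ?_, ?_⟩
    · rcases inn_cases h hK (CS.inZ hs) (fun k hk => by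
        rw [has.2 k hk]
        exact hK.comm_or h hk haK) with h1 | h1 | h1
      · exact absurd (hfr s e.sT (by rw [← h1]; exact z_mem_CX h)) e.s1
      · exact absurd (hfr s e.sT (cp_cx h (CS.inZ hs) h1)) e.s1
      · exact h1
    · rcases hcs v hv with h1 | h1 | h1
      · exact absurd h1 hvs
      · rw [h1]; exact e.swp
      · rw [h1]; exact hps
  by_cases hs : s ∈ CS Om (S : Subgroup G)
  · left
    by_cases hzs : z = s
    · exact hA u hu (fun h1 => hne (hzs.trans h1.symm)) hs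
    · exact hA z hz hzs hs
  · right
    have hpp : p * p = 1 := TT_sq h hS e.pT
    have hcs' : ∀ v ∈ CS Om (S : Subgroup G), v = p ∨ v = p * s := by
      intro v hv
      rcases hcs v hv with h1 | h1
      · rw [h1] at hv; exact absurd hv hs
      · exact h1
    have hp : p ∈ CS Om (S : Subgroup G) ∧ p * s ∈ CS Om (S : Subgroup G) := by
      rcases hcs' z hz with h1 | h1 <;> rcases hcs' u hu with h2 | h2
      · exact absurd (h1.trans h2.symm) hne
      · exact ⟨by rw [← h1]; exact hz, by rw [← h2]; exact hu⟩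
      · exact ⟨by rw [← h2]; exact hu, by rw [← h1]; exact hz⟩
      · exact absurd (h1.trans h2.symm) hne
    refine ⟨p, p * s, hp.1, hp.2, fun h1 => e.s1 (mul_eq_left.1 h1.symm), hcs', e.swp, hps, K, a, hK, haK, haa, ?_⟩
    rw [← mul_assoc, hpp, one_mul]
    exact has

/-- **(R1a)**, the form of section 6 -/
theorem ROneA.of (h : WM Om) (l0 : L0 Om) (an : ANT Om) : ROneA Om := by
  intro S x z u hx h4 o
  have hS := S.isPGroup'
  have hzZ := CS.inZ o.hz
  have huZ := CS.inZ o.hu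
  have hzu : z ≠ u := by
    rintro rfl
    exact o.sw.not_cases h hx.1 hzZ (Or.inr (Or.inr (o.ti.symm h)))
  have hcp : CP Om z u := CS.cp o.hz h hS o.hu hzu
  have hz1 : z ≠ 1 := hzZ.z1 h
  have hzT := CS.mem_TT o.hz
  have hfo : ∀ e, InZ Om e → CP Om z e → CP Om u e → e = z * u := by
    intro e he hze hue
    obtain ⟨P, hzP, huP, heP⟩ := exists_sylow_of_three h hzZ huZ he hcp hze hue
    have h4' : Nat.card (TT Om (P : Subgroup G)) = 4 := by rw [card_TT_eq h S P, h4]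
    rcases TT_eq_of_four h P h4' hzP huP hzu (CS.mem_TT heP) with h2 | h2 | h2 | h2
    · exact absurd h2 (he.z1 h)
    · exact absurd h2.symm hze.1
    · exact absurd h2.symm hue.1
    · exact h2
  rcases r_one_a h l0 (an S z hzT hz1) huZ hcp o.ti o.sw hfo with h1 | ⟨y, hy, a, k, -, -, -, -, -, h1, -⟩
  · left
    exact NZ_le_AAS hzT hz1 h1
  · exact Or.inr ⟨y, hy.1, hy.2, h1.2⟩

end Fin

end Cfsg.Agent.Cit.Nil.RTwoM
end

-- part: Cit/Nil/RTwoM/URegOf
section
/-!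
# S1309, (6b), (C3), `r = 2`, any `m`, `LAMBDA0` (helper762's uniform proof): 4.1 from `h, l0, an, oc, rot, sw`

* `exists_mul_NZ` : `(x, z)` type I, `u` a swap at `x`, `(z, u)` a C-pair: `x ∈ R_z N_z`;
* **`ROneAR.of`** : (R1a), the form for REG;
* **`regSW_of`** : `RegSW Om`.
-/

set_option autoImplicit false
set_option linter.style.haveILetI false
set_option linter.unusedSectionVars false
set_option linter.unusedVariables false

namespace Cfsg.Agent.Cit.Nil.RTwoM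

open Subgroup Cfsg Cfsg.Agent.Cit

open RTwo (Q3)
open RG (WR CP Ov InO Tr)
open RI (CS)

variable {G : Type*} [Group G] {Om : Set (Subgroup G)} {K L M : Subgroup G}
  {a b c d e g k l n q r s t u v w x y z : G}

section Fin

variable [Finite G]

/-- `x ∈ R_z N_z` -/
theorem exists_mul_NZ (h : WM Om) (hu : InZ Om u) (hzu : CP Om z u) (hti : TI Om x z)
    (hs : Swp Om x u) : ∃ c ∈ RZ Om z, c * x ∈ NZ Om z := by
  have hx := hti.inZ
  have hz := hti.inT
  have hxx := hx.z2 h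
  have huu := hu.z2 h
  obtain ⟨K, hK⟩ := hx
  obtain ⟨a, ha, haa⟩ := hti.exists_as h hK
  have haz : a * z = z * a := ha.comm.symm
  have hux : u * x = x * u := hs.1
  have huz : u * z = z * u := (cp_comm h hz hu hzu).symm
  have hL := hs.mem h hK
  have hne := hs.ne hK
  have hza' : As (cj u K) z (u * a * u⁻¹) := ha.conj_comm huz
  have hua : u * a * u⁻¹ ∈ cj u K := conj_mem_cj ha.1
  have huaa : (u * a * u⁻¹) * (u * a * u⁻¹) = x := by
    calc (u * a * u⁻¹) * (u * a * u⁻¹) = u * (a * a) * u⁻¹ := by group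
      _ = x := by rw [haa, hux, mul_inv_cancel_right]
  obtain ⟨b', hb'⟩ : ∃ b', b' = x * qq u a := ⟨_, rfl⟩
  have hb'c : u * a * u⁻¹ * a⁻¹ = b' := by rw [hb', swp_commutator h hK hs ha.1 haa]
  have hqx : qq u a ∈ RZ Om x := qq_mem hs h hK ha.1
  have hb'x : b' ∈ RZ Om x := by rw [hb']; exact mul_mem (z_mem_RZ hK.inZ h) hqx
  have hu' : u⁻¹ = u := inv_eq_of_mul_eq_one_right huu
  have huD : u ∈ ZS Om z := A0_subset h hz ⟨hu, hzu⟩
  have hwD : a * u * a⁻¹ ∈ ZS Om z := ZS_conj h huD haz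
  have hb'w : a * u * a⁻¹ = u * b' := by
    rw [← hb'c, hu']
    have h1 : a * u * a⁻¹ = u * (u * a * u * a⁻¹) := by
      calc a * u * a⁻¹ = (u * u) * a * u * a⁻¹ := by rw [huu, one_mul]
        _ = _ := by group
    exact h1
  have hb'N : b' ∈ NZ Om z := by
    have h1 : b' = u⁻¹ * (a * u * a⁻¹) := by rw [hb'w, inv_mul_cancel_left]
    rw [h1]
    exact mul_mem (inv_mem (mem_NZ huD)) (mem_NZ hwD)
  have hb'z : b' ∈ CX Om z := NZ_le_CX h hz hb'N
  have hqas := hs.as_qq h hK ha.1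
  -- `z b' ∈ X_x`
  have hzb : z * b' ∈ CX Om x := by
    rw [mem_CX]
    have key : ∀ {L : Subgroup G} {l : G}, Mem Om x L → As L z l → As L (qq u a) l → l * l = x → ∀ k ∈ L,
        z * b' * k = k * (z * b') := by
      intro L l hL h1 h2 h3 k hk
      have h4 := h1.mul ((hL.as_z h).mul h2)
      rw [one_mul, h3, ← hb'] at h4
      have h5 := h4.2 k hk
      rw [← hL.comm_z h hk, mul_inv_cancel_right, mul_inv_eq_iff_eq_mul] at h5
      exact h5
    intro M hM k hk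
    rcases hK.cases hL h hne hM with rfl | rfl
    · exact key hK ha hqas.1 haa k hk
    · exact key hL hza' hqas.2 huaa k hk
  -- `x b' ∈ R_z`
  have hzz := hz.z2 h
  have hxb : x * b' ∈ RZ Om z := by
    rcases hti.dich h with h1 | ⟨q, hqx', hqz, hqq, hzq, hxq⟩
    · have h2 := (hti.symm h).mem_symm h (by exact hti.mem_symm h ((hti.symm h).mem_symm h h1))
      have h3 : z ∈ RZ Om x := (hti.symm h).mem_symm h h1
      have h4 : z * b' = 1 ∨ z * b' = x := RZ_CX h hK.inZ (mul_mem h3 hb'x) hzb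
      rcases h4 with h4 | h4
      · have h5 : b' = z := by rw [← hz.inv h]; exact eq_inv_of_mul_eq_one_right h4
        rw [h5]
        exact mul_mem h1 (z_mem_RZ hz h)
      · exfalso
        apply hti.not_mem_CX h
        rw [← h4]
        exact mul_mem (z_mem_CX h) hb'z
    · have h4 : q⁻¹ * b' ∈ CX Om x := by
        have := mul_mem (inv_mem hzq) hzb
        rwa [show (z * q)⁻¹ * (z * b') = q⁻¹ * b' by group] at this
      rcases RZ_CX h hK.inZ (mul_mem (inv_mem hqx') hb'x) h4 with h5 | h5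
      · exfalso
        rw [inv_mul_eq_one] at h5
        rw [h5] at hxq
        apply hti.not_mem_CX h
        have := mul_mem hxq (inv_mem hb'z)
        rwa [mul_inv_cancel_right] at this
      · rw [inv_mul_eq_iff_eq_mul] at h5
        have h6 : x * b' = q := by
          rw [h5, ← mul_assoc, ← RZ_le_centralizer h hqx', mul_assoc, hxx, mul_one]
        rw [h6]; exact hqz
  refine ⟨x * b', hxb, ?_⟩
  have h1 : x * b' * x = b' := by
    rw [mul_assoc, RZ_le_centralizer h hb'x, ← mul_assoc, hxx, one_mul]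
  rw [h1]
  exact hb'N

/-- **(R1a)**, the form for REG -/
theorem ROneAR.of (h : WM Om) (l0 : L0 Om) (an : ANT Om) : ROneAR Om := by
  intro S x z u hx h4 o
  have hS := S.isPGroup'
  have hzZ := CS.inZ o.hz
  have huZ := CS.inZ o.hu
  have hzu : z ≠ u := by
    rintro rfl
    exact o.sw.not_cases h hx.1 hzZ (Or.inr (Or.inr (o.ti.symm h)))
  have hcp : CP Om z u := CS.cp o.hz h hS o.hu hzu
  have hz1 : z ≠ 1 := hzZ.z1 h
  have hzT := CS.mem_TT o.hz
  have hfo : ∀ e, InZ Om e → CP Om z e → CP Om u e → e = z * u := by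
    intro e he hze hue
    obtain ⟨P, hzP, huP, heP⟩ := exists_sylow_of_three h hzZ huZ he hcp hze hue
    have h4' : Nat.card (TT Om (P : Subgroup G)) = 4 := by rw [card_TT_eq h S P, h4]
    rcases TT_eq_of_four h P h4' hzP huP hzu (CS.mem_TT heP) with h2 | h2 | h2 | h2
    · exact absurd h2 (he.z1 h)
    · exact absurd h2.symm hze.1
    · exact absurd h2.symm hue.1
    · exact h2
  rcases r_one_a h l0 (an S z hzT hz1) huZ hcp o.ti o.sw hfo with
    h1 | ⟨y, hy, a, k, ha, haz, hk, -, hyk, h1, -⟩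
  · left
    exact NZ_le_AAS hzT hz1 h1
  · right
    refine ⟨exists_mul_NZ h huZ hcp o.ti o.sw, a, k, ha, haz, hk, ?_⟩
    rw [← hyk]
    exact h1.2

/-- **4.1** -/
theorem regSW_of (h : WM Om) (l0 : L0 Om) (an : ANT Om) (oc : OneCl Om)
    (two : ∀ S : Sylow 2 G, ∃ z u, z ∈ CS Om (S : Subgroup G) ∧ u ∈ CS Om (S : Subgroup G) ∧ z ≠ u)
    (rot : ∀ S : Sylow 2 G, RotS Om (S : Subgroup G)) (sw : SW Om) : RegSW Om :=
  regSW h l0 an oc rot sw (RZero.of h l0 an two) (ROneAR.of h l0 an)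

end Fin

end Cfsg.Agent.Cit.Nil.RTwoM
end

-- part: Cit/Nil/RTwoM/ANBound
section
/-!
# S1309, (6b), (C3), `r = 2`, any `m`, `LAMBDA0`: elementary groups acting on `R_x`, second version (ANS form) of FBound.lean

* `card_le_four` : `F` elementary, normalises the member `K` and is faithful on `K`: `|F| ≤ 4`;
* `card_le_eight` : `F` elementary, commutes with `x ∈ Z`, no element `≠ 1` of `F` centralises a member over `x`:
  `|F| ≤ 8`;
* `ANS.fb` (F-BOUND): `x ∈ Z` moves `u ∈ a0(z)`, `F ≤ C(R_z R_u) ∩ C(x)` elementary: `|F| ≤ 8`;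
* `no_mem_t`, `t_bound` : `x, u ∈ Z ∩ C(T)` do not commute: no element `≠ 1` of `T_u = T ∩ C(R_u)` centralises a
  member over `x`, `|T_u| ≤ 8`;
* `exists_four` : `x` a swap or `f` at `z`: `C_{R_z}(x)` contains a four-group through `z`;
* `ANS.no_mem_two`, `ANS.at_most_one` : `m ≥ 4`, `x, u ∈ Z ∩ C(C_S)` do not commute: at most one `z_j` is C to `u`.
-/

set_option autoImplicit false
set_option linter.style.haveILetI false
set_option linter.unusedSectionVars false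

namespace Cfsg.Agent.Cit.Nil.RTwoM

open Subgroup Cfsg Cfsg.Agent.Cit

open RG (WR CP Ov InO Tr)
open RI (CS)

variable {G : Type*} [Group G] {Om : Set (Subgroup G)} {K L M F : Subgroup G}
  {a b c d e s t u v w x y z z' g k n f : G}

section Fin

variable [Finite G]

/-! ### Elementary groups on one member -/

theorem card_le_of_cover {F : Subgroup G} (g1 f0 : G) (hF : ∀ g ∈ F, g = 1 ∨ g = g1 ∨ g = f0 ∨ g = g1 * f0) :
    Nat.card F ≤ 4 := by
  classical
  have h1 : (F : Set G) ⊆ (({1, g1, f0, g1 * f0} : Finset G) : Set G) := by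
    intro g hg
    rcases hF g hg with h2 | h2 | h2 | h2 <;> simp only [h2, _root_.Finset.coe_insert, _root_.Finset.coe_singleton, _root_.Set.mem_insert_iff, _root_.Set.mem_singleton_iff, _root_.true_or, _root_.left_eq_mul, _root_.or_true, _root_.right_eq_mul, _root_.mul_eq_left, _root_.mul_eq_right]
  have h2 := Set.ncard_le_ncard h1 (Finset.finite_toSet _)
  rw [Set.ncard_coe_finset] at h2
  have h3 : Nat.card F = (F : Set G).ncard := rfl
  rw [h3]
  exact h2.trans Finset.card_le_four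

theorem card_le_of_cover' {F : Subgroup G} (g0 g1 g2 : G) (hF : ∀ g ∈ F, g = 1 ∨ g = g0 ∨ g = g1 ∨ g = g2) :
    Nat.card F ≤ 4 := by
  classical
  have h1 : (F : Set G) ⊆ (({1, g0, g1, g2} : Finset G) : Set G) := by
    intro g hg
    rcases hF g hg with h2 | h2 | h2 | h2 <;> simp only [h2, _root_.Finset.coe_insert, _root_.Finset.coe_singleton, _root_.Set.mem_insert_iff, _root_.Set.mem_singleton_iff, _root_.true_or, _root_.or_true]
  have h2 := Set.ncard_le_ncard h1 (Finset.finite_toSet _)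
  rw [Set.ncard_coe_finset] at h2
  have h3 : Nat.card F = (F : Set G).ncard := rfl
  rw [h3]
  exact h2.trans Finset.card_le_four

/-- equal inner actions -/
theorem eq_of_as (hf : ∀ g ∈ F, (∀ k ∈ K, g * k = k * g) → g = 1) (ha : a ∈ F) (hb : b ∈ F) (hy : As K a y)
    (hy' : As K b y) : a = b := by
  have h1 : As K (a⁻¹ * b) (y⁻¹ * y) := hy.inv.mul hy'
  rw [inv_mul_cancel] at h1
  exact inv_mul_eq_one.1 (hf _ (mul_mem (inv_mem ha) hb) (As.one_iff.1 h1))

theorem as_zmul (h : WM Om) (hK : Mem Om x K) (ha : As K g y) : As K g (x * y) := by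
  refine ⟨mul_mem (hK.zmem h) ha.1, fun k hk => ?_⟩
  have h1 : y * k * y⁻¹ ∈ K := mul_mem (mul_mem ha.1 hk) (inv_mem ha.1)
  calc g * k * g⁻¹ = y * k * y⁻¹ := ha.2 k hk
    _ = (y * k * y⁻¹) * x * x⁻¹ := (mul_inv_cancel_right _ _).symm
    _ = x * (y * k * y⁻¹) * x⁻¹ := by rw [hK.comm_z h h1]
    _ = _ := by group

theorem as_of_zmul (h : WM Om) (hK : Mem Om x K) (ha : As K g (x * y)) : As K g y := by
  have h1 := as_zmul h hK ha
  rwa [← mul_assoc, hK.inZ.z2 h, one_mul] at h1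

/-- **an elementary group which is faithful on `K` has order at most 4** -/
theorem card_le_four (h : WM Om) (hK : Mem Om x K) (hc : ∀ a ∈ F, ∀ b ∈ F, a * b = b * a)
    (hs : ∀ a ∈ F, a * a = 1) (hn : ∀ g ∈ F, cj g K = K) (hf : ∀ g ∈ F, (∀ k ∈ K, g * k = k * g) → g = 1) :
    Nat.card F ≤ 4 := by
  classical
  -- the element of `F` with a given inner action
  have pick : ∀ y, ∃ g1, ∀ g ∈ F, As K g y → g = g1 := by
    intro y
    by_cases hy : ∃ g ∈ F, As K g y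
    · obtain ⟨g1, hg1, h1⟩ := hy
      exact ⟨g1, fun g hg h2 => eq_of_as hf hg hg1 h2 h1⟩
    · exact ⟨1, fun g hg h2 => absurd ⟨g, hg, h2⟩ hy⟩
  have one : ∀ g ∈ F, As K g 1 → g = 1 := fun g hg h1 => hf g hg (As.one_iff.1 h1)
  by_cases hall : ∀ g ∈ F, ∃ y, As K g y
  · obtain ⟨q, hq⟩ := h.exists_q3 hK
    obtain ⟨g0, h0⟩ := pick (q 0)
    obtain ⟨g1, h1⟩ := pick (q 1)
    obtain ⟨g2, h2⟩ := pick (q 2)
    refine card_le_of_cover' g0 g1 g2 fun g hg => ?_
    obtain ⟨y, hy⟩ := hall g hg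
    have h3 : ∀ i, As K g (q i) → g = 1 ∨ g = g0 ∨ g = g1 ∨ g = g2 := by
      intro i hi
      fin_cases i
      · exact Or.inr (Or.inl (h0 g hg hi))
      · exact Or.inr (Or.inr (Or.inl (h1 g hg hi)))
      · exact Or.inr (Or.inr (Or.inr (h2 g hg hi)))
    rcases hq.cov y hy.1 with h4 | h4 | ⟨i, h4 | h4⟩
    · rw [h4] at hy; exact Or.inl (one g hg hy)
    · rw [h4, ← mul_one x] at hy
      exact Or.inl (one g hg (as_of_zmul h hK hy))
    · rw [h4] at hy; exact h3 i hy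
    · rw [h4] at hy; exact h3 i (as_of_zmul h hK hy)
  · push Not at hall
    obtain ⟨f0, hf0, hno⟩ := hall
    obtain ⟨a, ha⟩ : ∃ a, Tr f0 K a := (h.wr.inn_or_tr hK.1 (hn f0 hf0) (hs f0 hf0)).resolve_left
      fun ⟨y, hy, h1⟩ => hno y ⟨hy, h1⟩
    obtain ⟨g1, hg1⟩ := pick a
    refine card_le_of_cover g1 f0 fun g hg => ?_
    rcases h.wr.inn_or_tr hK.1 (hn g hg) (hs g hg) with ⟨y, hy, h1⟩ | ⟨b, hb⟩
    · have hy' : As K g y := ⟨hy, h1⟩
      have h2 : As (cj f0 K) g (f0 * y * f0⁻¹) := hy'.conj_comm (hc f0 hf0 g hg)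
      rw [hn f0 hf0] at h2
      rcases Tr.cases ha hK h hy (hK.as_unique h hy' h2) with h3 | h3 | h3 | h3
      · rw [h3] at hy'; exact Or.inl (one g hg hy')
      · rw [h3, ← mul_one x] at hy'
        exact Or.inl (one g hg (as_of_zmul h hK hy'))
      · rw [h3] at hy'; exact Or.inr (Or.inl (hg1 g hg hy'))
      · rw [h3] at hy'; exact Or.inr (Or.inl (hg1 g hg (as_of_zmul h hK hy')))
    · have h2 := Tr.same h hK (hn f0 hf0) (hc f0 hf0 g hg) hb ha
      have hff : ∀ g', g * f0 = g' → g = g' * f0 := by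
        intro g' h3
        rw [← h3, mul_assoc, hs f0 hf0, mul_one]
      rcases Tr.mul_cases h hK (hn g hg) (hn f0 hf0) h2 ha with h3 | h3
      · right; right; left
        have h4 := hff 1 (one _ (mul_mem hg hf0) h3)
        rwa [one_mul] at h4
      · right; right; right
        exact hff g1 (hg1 _ (mul_mem hg hf0) h3)

/-- **elementary groups on `R_x`** -/
theorem card_le_eight (h : WM Om) (hx : InZ Om x) (hc : ∀ a ∈ F, ∀ b ∈ F, a * b = b * a)
    (hs : ∀ a ∈ F, a * a = 1) (hn : ∀ g ∈ F, g * x = x * g)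
    (hf : ∀ g ∈ F, ∀ K, Mem Om x K → (∀ k ∈ K, g * k = k * g) → g = 1) : Nat.card F ≤ 8 := by
  classical
  obtain ⟨K, hK⟩ := hx
  obtain ⟨L, hL, hne, -⟩ := hK.other h
  -- the stabiliser of `K`
  obtain ⟨F0, hF0⟩ : ∃ F0 : Subgroup G, F0 = F ⊓ normalizer (K : Set G) := ⟨_, rfl⟩
  have m0 : ∀ g, g ∈ F0 ↔ g ∈ F ∧ cj g K = K := by
    intro g
    rw [hF0, mem_inf, mem_normalizer_iff_cj]
  have c0 : Nat.card F0 ≤ 4 := card_le_four h hK (fun a ha b hb => hc a ((m0 a).1 ha).1 b ((m0 b).1 hb).1)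
    (fun a ha => hs a ((m0 a).1 ha).1) (fun g hg => ((m0 g).1 hg).2) fun g hg => hf g ((m0 g).1 hg).1 K hK
  by_cases hall : ∀ g ∈ F, cj g K = K
  · have h1 : F ≤ F0 := fun g hg => (m0 g).2 ⟨hg, hall g hg⟩
    exact ((Nat.card_mono (Set.toFinite _) h1).trans c0).trans (by norm_num)
  · push Not at hall
    obtain ⟨s, hsF, hsK⟩ := hall
    have cs : ∀ g ∈ F, cj g K ≠ K → cj g K = L ∧ cj g L = K := by
      intro g hg h1
      rcases cj_cases h hK hL hne (hn g hg) with h2 | h2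
      · exact absurd h2.1 h1
      · exact h2
    have h1 : (F : Set G) ⊆ (F0 : Set G) ∪ (fun g => s * g) '' (F0 : Set G) := by
      intro g hg
      by_cases h2 : cj g K = K
      · exact Or.inl ((m0 g).2 ⟨hg, h2⟩)
      · right
        refine ⟨s * g, (m0 _).2 ⟨mul_mem hsF hg, ?_⟩, ?_⟩
        · rw [cj_mul, (cs g hg h2).1, (cs s hsF hsK).2]
        · change s * (s * g) = g
          rw [← mul_assoc, hs s hsF, one_mul]
    have h2 := Set.ncard_le_ncard h1 (Set.toFinite _)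
    have h3 := Set.ncard_union_le (F0 : Set G) ((fun g => s * g) '' (F0 : Set G))
    have h4 := Set.ncard_image_le (f := fun g => s * g) (Set.toFinite (F0 : Set G))
    have h5 : Nat.card F = (F : Set G).ncard := rfl
    have h6 : Nat.card F0 = (F0 : Set G).ncard := rfl
    omega

/-! ### The F-bound -/

/-- **F-BOUND** -/
theorem ANS.fb (an : ANS Om) (h : WM Om) (l0 : L0 Om) (hz : InZ Om z) (hu : InZ Om u) (hzu : CP Om z u)
    (hx : InZ Om x) (hxu : x * u ≠ u * x) (hc : ∀ a ∈ F, ∀ b ∈ F, a * b = b * a) (hs : ∀ a ∈ F, a * a = 1)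
    (hn : ∀ g ∈ F, g * x = x * g) (hFz : F ≤ CX Om z) (hFu : F ≤ CX Om u) : Nat.card F ≤ 8 :=
  card_le_eight h hx hc hs hn fun g hg _ hK hk => an.no_mem h l0 hz hu hzu hxu (hs g hg) (hFz hg) (hFu hg) hK hk

/-! ### `T_u` -/

/-! ### `m ≥ 4` -/

/-- a swap or an `f` at `z` : a four-group of fixed points through `z` -/
theorem exists_four (h : WM Om) (hz : InZ Om z) (hx : x * x = 1) (ho : Swp Om z x ∨ Ff Om z x) :
    ∃ w ∈ RZ Om z, w * w = 1 ∧ w ≠ 1 ∧ w ≠ z ∧ x * w = w * x := by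
  obtain ⟨K, hK⟩ := hz
  obtain ⟨L, hL, hne, -⟩ := hK.other h
  rcases ho with hs | hf
  · obtain ⟨q, hq⟩ := h.exists_q3 hK
    have hk := hq.mem 0
    have hkk := hq.sq 0
    have hk1 : q 0 ≠ 1 := fun h1 => hq.z1 (by rw [← hkk, h1, one_mul])
    have hkz : q 0 ≠ z := fun h1 => hq.z1 (by rw [h1, hq.z2] at hkk; exact hkk.symm)
    refine ⟨qq x (q 0), qq_mem hs h hK hk, qq_sq hs h hK hk, ?_, ?_, qq_comm hs h hx hK hk⟩
    · intro h1
      rcases qq_eq_one hs h hK hk h1 with h2 | h2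
      · exact hk1 h2
      · exact hkz h2
    · intro h1
      have h2 : q 0 ∈ cj x K := by
        have h3 : q 0 = z * (x * q 0 * x⁻¹)⁻¹ := eq_mul_inv_of_mul_eq h1
        rw [h3]
        exact mul_mem ((hs.mem h hK).zmem h) (inv_mem (conj_mem_cj hk))
      rcases hs.inf h hK hk h2 rfl with h3 | h3
      · exact hk1 h3
      · exact hkz h3
  · obtain ⟨a, ha⟩ := hf.exists_tr h hx hK
    obtain ⟨b, hb⟩ := hf.exists_tr h hx hL
    have haa := Tr.sq' ha hK
    have hbb := Tr.sq' hb hL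
    have hab := hK.comm hL h hne ha.mem hb.mem
    have hzz := hK.inZ.z2 h
    refine ⟨a * b, mul_mem (hK.le_RZ ha.mem) (hL.le_RZ hb.mem), ?_, ?_, ?_, ?_⟩
    · calc a * b * (a * b) = a * (b * a) * b := by group
        _ = (a * a) * (b * b) := by rw [← hab]; group
        _ = 1 := by rw [haa, hbb, hzz]
    · intro h1
      have h2 : a ∈ L := by
        rw [eq_inv_of_mul_eq_one_left h1]; exact inv_mem hb.mem
      rcases hK.inf hL h hne ha.mem h2 with h3 | h3
      · rw [h3, one_mul] at haa; exact hK.inZ.z1 h haa.symm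
      · rw [h3, hzz] at haa; exact hK.inZ.z1 h haa.symm
    · intro h1
      have h2 : a ∈ L := by
        rw [eq_mul_inv_of_mul_eq h1]; exact mul_mem (hL.zmem h) (inv_mem hb.mem)
      rcases hK.inf hL h hne ha.mem h2 with h3 | h3
      · rw [h3, one_mul] at haa; exact hK.inZ.z1 h haa.symm
      · rw [h3, hzz] at haa; exact hK.inZ.z1 h haa.symm
    · have h1 := Tr.inv' ha hK h
      have h2 := Tr.inv' hb hL h
      have h3 : x * (a * b) * x⁻¹ = a * b := by
        calc x * (a * b) * x⁻¹ = (x * a * x⁻¹) * (x * b * x⁻¹) := by group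
          _ = (z * a) * (z * b) := by rw [h1, h2]
          _ = z * (a * z) * b := by group
          _ = (z * z) * (a * b) := by rw [hK.comm_z h ha.mem]; group
          _ = a * b := by rw [hzz, one_mul]
      rwa [mul_inv_eq_iff_eq_mul] at h3

theorem elem_closure {A : Set G} (hc : ∀ a ∈ A, ∀ b ∈ A, a * b = b * a) (hs : ∀ a ∈ A, a * a = 1) :
    (∀ a ∈ _root_.Subgroup.closure A, ∀ b ∈ closure A, a * b = b * a) ∧ ∀ a ∈ closure A, a * a = 1 := by
  have h1 : closure A ≤ centralizer A := (closure_le _).2 fun a ha => by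
    rw [SetLike.mem_coe, mem_centralizer_iff]
    exact fun b hb => hc b hb a ha
  have h2 : ∀ a ∈ closure A, ∀ b ∈ closure A, a * b = b * a := by
    intro a ha
    have h3 : closure A ≤ centralizer {a} := (closure_le _).2 fun b hb => by
      rw [SetLike.mem_coe, mem_centralizer_singleton_iff]
      exact mem_centralizer_iff.1 (h1 ha) b hb
    exact fun b hb => (mem_centralizer_singleton_iff.1 (h3 hb)).symm
  refine ⟨h2, fun a ha => ?_⟩
  induction ha using closure_induction with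
  | mem x hx => exact hs x hx
  | one => exact one_mul 1
  | mul x y hx hy h3 h4 =>
    calc x * y * (x * y) = x * (y * x) * y := by group
      _ = x * (x * y) * y := by rw [h2 y hy x hx]
      _ = (x * x) * (y * y) := by group
      _ = 1 := by rw [h3, h4, one_mul]
  | inv x hx h3 =>
    rw [← mul_inv_rev, h3, inv_one]

theorem RZ_disjoint (h : WM Om) (hz : InZ Om z) (hu : InZ Om u) (hc : CP Om z u) : RZ Om z ⊓ RZ Om u = ⊥ := by
  rw [eq_bot_iff]
  intro r hr
  rw [mem_bot]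
  rcases RZ_CX h hz hr.1 (RZ_le_CX h hc.symm hr.2) with h1 | h1
  · exact h1
  rcases RZ_CX h hu hr.2 (RZ_le_CX h hc hr.1) with h2 | h2
  · exact h2
  · exact absurd (h1.symm.trans h2) hc.1

theorem four_le {D : Subgroup G} (hz : z ∈ D) (hw : w ∈ D) (hz1 : z ≠ 1) (hw1 : w ≠ 1) (hwz : w ≠ z)
    (hww : w * w = 1) : 4 ≤ Nat.card D := by
  classical
  have hzw : z * w ≠ 1 := by
    intro h1
    have h2 := eq_inv_of_mul_eq_one_left h1
    rw [inv_eq_of_mul_eq_one_right hww] at h2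
    exact hwz h2.symm
  have hzw1 : z * w ≠ z := fun h1 => hw1 (mul_eq_left.1 h1)
  have hzw2 : z * w ≠ w := fun h1 => hz1 (mul_eq_right.1 h1)
  have h1 : ((({1, z, w, z * w} : Finset G)) : Set G) ⊆ (D : Set G) := by
    intro g hg
    simp only [Finset.coe_insert, Finset.coe_singleton, Set.mem_insert_iff, Set.mem_singleton_iff] at hg
    rcases hg with rfl | rfl | rfl | rfl
    · exact one_mem D
    · exact hz
    · exact hw
    · exact mul_mem hz hw
  have h2 : ({1, z, w, z * w} : Finset G).card = 4 := by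
    rw [Finset.card_insert_of_notMem, Finset.card_insert_of_notMem, Finset.card_insert_of_notMem,
      Finset.card_singleton]
    · simpa using hzw2.symm
    · simp only [Finset.mem_insert, Finset.mem_singleton, not_or]
      exact ⟨hwz.symm, hzw1.symm⟩
    · simp only [Finset.mem_insert, Finset.mem_singleton, not_or]
      exact ⟨hz1.symm, hw1.symm, hzw.symm⟩
  have h3 := Set.ncard_le_ncard h1 (Set.toFinite _)
  rw [Set.ncard_coe_finset, h2] at h3
  exact h3

/-- two four-groups with trivial intersection -/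
theorem sixteen_le {D D' : Subgroup G} (h4 : 4 ≤ Nat.card D) (h4' : 4 ≤ Nat.card D') (hd : D ⊓ D' = ⊥)
    (hF : D ≤ F) (hF' : D' ≤ F) : 16 ≤ Nat.card F := by
  have h1 : Function.Injective (fun p : D × D' => (⟨p.1 * p.2, mul_mem (hF p.1.2) (hF' p.2.2)⟩ : F)) := by
    rintro ⟨a, b⟩ ⟨c, d⟩ h1
    have h2 : (a : G) * b = c * d := congrArg Subtype.val h1
    have h3 : (c : G)⁻¹ * a = d * (b : G)⁻¹ := by
      rw [eq_mul_inv_iff_mul_eq, mul_assoc, h2, inv_mul_cancel_left]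
    have h5 : (c : G)⁻¹ * a ∈ D ⊓ D' :=
      ⟨D.mul_mem (D.inv_mem c.2) a.2, by rw [h3]; exact D'.mul_mem d.2 (D'.inv_mem b.2)⟩
    rw [hd, mem_bot] at h5
    rw [h5] at h3
    have h6 : a = c := Subtype.ext (inv_mul_eq_one.1 h5).symm
    have h7 : b = d := Subtype.ext (mul_inv_eq_one.1 h3.symm).symm
    rw [h6, h7]
  have h2 := Nat.card_le_card_of_injective _ h1
  rw [Nat.card_prod] at h2
  calc 16 = 4 * 4 := by norm_num
    _ ≤ Nat.card D * Nat.card D' := Nat.mul_le_mul h4 h4'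
    _ ≤ _ := h2

/-- `x` acts as a swap or as an `f` at a C-partner `z` of `u`, if no involution of `R_z` centralises `R_x` -/
theorem swp_or_ff (h : WM Om) (hz : InZ Om z) (hu : InZ Om u) (hx : InZ Om x) (hzu : CP Om z u)
    (hxu : x * u ≠ u * x) (hxz : x * z = z * x) (hno : ∀ e ∈ RZ Om z, e * e = 1 → e ∈ CX Om x → e = 1) :
    Swp Om z x ∨ Ff Om z x := by
  have hne : z ≠ x := fun h1 => hxu (by rw [← h1]; exact cp_comm h hz hu hzu)
  rcases tri h hz hx hne hxz.symm with h1 | h1 | h1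
  · exact absurd (hno z (z_mem_RZ hz h) (hz.z2 h) (cp_cx h hz h1.symm)) (hz.z1 h)
  · exfalso
    have key : z ∉ RZ Om x := by
      intro h2
      exact hxu (cp_comm h hx hu (cp_of_mem_RZ h h1 ((h1.symm h).mem_symm h h2) hu hzu))
    rcases h1.dich h with h2 | ⟨q, hq, hqx, hqq, -, hq2⟩
    · exact key h2
    · have h3 : q * z = z * q := RZ_le_centralizer h hq
      have h4 : z * q * (z * q) = 1 := by
        calc z * q * (z * q) = z * (q * z) * q := by group
          _ = (z * z) * (q * q) := by rw [h3]; group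
          _ = 1 := by rw [hz.z2 h, hqq, one_mul]
      have h5 := hno _ (mul_mem (z_mem_RZ hz h) hq) h4 hq2
      have h6 := eq_inv_of_mul_eq_one_right h5
      rw [hz.inv h] at h6
      exact key (h6 ▸ hqx)
  · exact h1.1.cases

namespace ANS

variable {z₁ z₂ z₃ z₄ : G} (an : ANS Om)

include an

theorem no_mem_two (h : WM Om) (l0 : L0 Om) {S : Subgroup G} (hS : IsPGroup 2 S) (h1 : z₁ ∈ CS Om S)
    (h2 : z₂ ∈ CS Om S) (h3 : z₃ ∈ CS Om S) (h4 : z₄ ∈ CS Om S) (n13 : z₁ ≠ z₃) (n14 : z₁ ≠ z₄) (n23 : z₂ ≠ z₃)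
    (n24 : z₂ ≠ z₄) (n34 : z₃ ≠ z₄) (hu : InZ Om u) (c1 : CP Om z₁ u) (c2 : CP Om z₂ u) (hK : Mem Om x K)
    (hxu : x * u ≠ u * x) (he : e ∈ RZ Om z₁ ⊔ RZ Om z₂) (hee : e * e = 1) (hKe : ∀ k ∈ K, e * k = k * e) :
    e = 1 := by
  by_contra he1
  have k3 : e ∈ CX Om z₃ :=
    (sup_le (RZ_le_CX h (CS.cp h1 h hS h3 n13)) (RZ_le_CX h (CS.cp h2 h hS h3 n23))) he
  have k4 : e ∈ CX Om z₄ :=
    (sup_le (RZ_le_CX h (CS.cp h1 h hS h4 n14)) (RZ_le_CX h (CS.cp h2 h hS h4 n24))) he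
  have ku : e ∈ CX Om u := (sup_le (RZ_le_CX h c1) (RZ_le_CX h c2)) he
  exact hxu (an.comm_gen h l0 hee he1 ⟨CS.inZ h3, k3⟩ ⟨CS.inZ h4, k4⟩ (CS.cp h3 h hS h4 n34) ⟨hu, ku⟩ hK hKe)

/-- **(5)** : `m ≥ 4`, `x, u ∈ Z` do not commute, `x` commutes with `z₁, z₂ ∈ C_S`: not both `z₁`, `z₂` are C to `u` -/
theorem at_most_one (h : WM Om) (l0 : L0 Om) {S : Subgroup G} (hS : IsPGroup 2 S) (h1 : z₁ ∈ CS Om S)
    (h2 : z₂ ∈ CS Om S) (h3 : z₃ ∈ CS Om S) (h4 : z₄ ∈ CS Om S) (n12 : z₁ ≠ z₂) (n13 : z₁ ≠ z₃) (n14 : z₁ ≠ z₄)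
    (n23 : z₂ ≠ z₃) (n24 : z₂ ≠ z₄) (n34 : z₃ ≠ z₄) (hx : InZ Om x) (hu : InZ Om u) (hxu : x * u ≠ u * x)
    (x1 : x * z₁ = z₁ * x) (x2 : x * z₂ = z₂ * x) (c1 : CP Om z₁ u) (c2 : CP Om z₂ u) : False := by
  have no : ∀ K, Mem Om x K → ∀ e ∈ RZ Om z₁ ⊔ RZ Om z₂, e * e = 1 → (∀ k ∈ K, e * k = k * e) → e = 1 :=
    fun K hK e he hee hKe => an.no_mem_two h l0 hS h1 h2 h3 h4 n13 n14 n23 n24 n34 hu c1 c2 hK hxu he hee hKe
  have no' : ∀ e ∈ RZ Om z₁ ⊔ RZ Om z₂, e * e = 1 → e ∈ CX Om x → e = 1 := by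
    intro e he hee hex
    obtain ⟨K, hK⟩ := hx
    exact no K hK e he hee (mem_CX.1 hex K hK)
  have i1 := CS.inZ h1
  have i2 := CS.inZ h2
  have xx := hx.z2 h
  obtain ⟨w₁, hw1, ww1, nw1, nz1, xw1⟩ := exists_four h i1 xx
    (swp_or_ff h i1 hu hx c1 hxu x1 fun e he => no' e (mem_sup_left he))
  obtain ⟨w₂, hw2, ww2, nw2, nz2, xw2⟩ := exists_four h i2 xx
    (swp_or_ff h i2 hu hx c2 hxu x2 fun e he => no' e (mem_sup_right he))
  have c12 := CS.cp h1 h hS h2 n12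
  have r1 := z_mem_RZ i1 h
  have r2 := z_mem_RZ i2 h
  obtain ⟨A, hA⟩ : ∃ A : Set G, A = {z₁, w₁, z₂, w₂} := ⟨_, rfl⟩
  have mA : ∀ g, g ∈ A ↔ g = z₁ ∨ g = w₁ ∨ g = z₂ ∨ g = w₂ := by
    intro g; rw [hA]; simp only [Set.mem_insert_iff, Set.mem_singleton_iff]
  have zw1 : w₁ * z₁ = z₁ * w₁ := RZ_le_centralizer h hw1
  have zw2 : w₂ * z₂ = z₂ * w₂ := RZ_le_centralizer h hw2
  have cr : ∀ {a b : G}, a ∈ RZ Om z₁ → b ∈ RZ Om z₂ → a * b = b * a := fun ha hb => cp_RZ h c12 ha hb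
  have cA : ∀ a ∈ A, ∀ b ∈ A, a * b = b * a := by
    intro a ha b hb
    rw [mA] at ha hb
    rcases ha with rfl | rfl | rfl | rfl <;> rcases hb with rfl | rfl | rfl | rfl
    · rfl
    · exact zw1.symm
    · exact cr r1 r2
    · exact cr r1 hw2
    · exact zw1
    · rfl
    · exact cr hw1 r2
    · exact cr hw1 hw2
    · exact (cr r1 r2).symm
    · exact (cr hw1 r2).symm
    · rfl
    · exact zw2.symm
    · exact (cr r1 hw2).symm
    · exact (cr hw1 hw2).symm
    · exact zw2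
    · rfl
  have sA : ∀ a ∈ A, a * a = 1 := by
    intro a ha
    rw [mA] at ha
    rcases ha with rfl | rfl | rfl | rfl
    · exact i1.z2 h
    · exact ww1
    · exact i2.z2 h
    · exact ww2
  obtain ⟨cF, sF⟩ := elem_closure cA sA
  have lF : closure A ≤ RZ Om z₁ ⊔ RZ Om z₂ := by
    refine (closure_le _).2 fun a ha => ?_
    rw [mA] at ha
    rcases ha with rfl | rfl | rfl | rfl
    · exact mem_sup_left r1
    · exact mem_sup_left hw1
    · exact mem_sup_right r2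
    · exact mem_sup_right hw2
  have xF : closure A ≤ centralizer {x} := by
    refine (closure_le _).2 fun a ha => ?_
    rw [SetLike.mem_coe, mem_centralizer_singleton_iff]
    rw [mA] at ha
    rcases ha with rfl | rfl | rfl | rfl
    · exact x1.symm
    · exact xw1.symm
    · exact x2.symm
    · exact xw2.symm
  have k1 : Nat.card (closure A) ≤ 8 := card_le_eight h hx cF sF
    (fun g hg => mem_centralizer_singleton_iff.1 (xF hg)) fun g hg K hK hk => no K hK g (lF hg) (sF g hg) hk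
  have k2 : 16 ≤ Nat.card (closure A) := by
    refine sixteen_le (D := closure A ⊓ RZ Om z₁) (D' := closure A ⊓ RZ Om z₂) ?_ ?_ ?_ inf_le_left inf_le_left
    · exact four_le ⟨_root_.Subgroup.subset_closure ((mA _).2 (Or.inl rfl)), r1⟩
        ⟨_root_.Subgroup.subset_closure ((mA _).2 (Or.inr (Or.inl rfl))), hw1⟩ (i1.z1 h) nw1 nz1 ww1
    · exact four_le ⟨_root_.Subgroup.subset_closure ((mA _).2 (Or.inr (Or.inr (Or.inl rfl)))), r2⟩
        ⟨_root_.Subgroup.subset_closure ((mA _).2 (Or.inr (Or.inr (Or.inr rfl)))), hw2⟩ (i2.z1 h) nw2 nz2 ww2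
    · rw [eq_bot_iff, ← RZ_disjoint h i1 i2 c12]
      exact inf_le_inf inf_le_right inf_le_right
  omega

end ANS

end Fin

end Cfsg.Agent.Cit.Nil.RTwoM
end

-- part: Cit/Nil/RTwoM/UAxes
section
/-!
# S1309, (6b), (C3), `r = 2`, any `m`, `LAMBDA0` : the swaps in `O₂(C(T_S))` at a point of `C_S` have one line

* `exists_fixed_axis` : a 2-group normalising a member fixes an axis;
* `exists_ncs` : Frattini: `g ∈ C(z)`, `z ∈ C_S` : some `c ∈ C(R_z)`, `c g` normalises `C_S`;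
* `fix_axes` : an element of `O₂(C(T_S))` which normalises the member `K` over `z ∈ C_S` fixes all axes of `K`;
* `NZ_le_oP` : `N_s ≤ O₂(C(T_S))`, `s ∈ T_S#`;
* `line` : two swaps `n`, `n'` at `z ∈ C_S`, `n ∈ Z(s)`, `n' ∈ Z(s')`, `s, s' ∈ T_S#`, have the same centraliser in `R_z`.
-/

set_option autoImplicit false
set_option linter.style.haveILetI false
set_option linter.unusedSectionVars false

namespace Cfsg.Agent.Cit.Nil.RTwoM

open Subgroup Cfsg Cfsg.Agent.Cit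

open RTwo (Q3 Act)
open RG (WR CP Ov InO Tr)
open RI (CS)
open Cfsg.Agent.OddOrderLocal.NilParts

variable {G : Type*} [Group G] {Om : Set (Subgroup G)} {K L M : Subgroup G}
  {a b c d e g k l n n' r s s' t u v w x y z : G}

section Fin

variable [Finite G]

/-- **a 2-group normalising `K` fixes an axis** -/
theorem exists_fixed_axis (h : WM Om) (hK : Mem Om z K) {x : Fin 3 → G} (q : Q3 K z x) {H : Subgroup G}
    (hH : IsPGroup 2 H) (hn : ∀ g ∈ H, cj g K = K) :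
    ∃ i, ∀ g ∈ H, g * x i * g⁻¹ = x i ∨ g * x i * g⁻¹ = z * x i := by
  haveI : Fact (Nat.Prime 2) := ⟨Nat.prime_two⟩
  have hz : ∀ g ∈ H, g * z = z * g := fun g hg => hK.of_cj h (hn g hg)
  have hex : ∀ g : H, ∃ σ : Equiv.Perm (Fin 3), Act z x x (g : G) σ := fun g =>
    q.exists_act q (hn g g.2) (hz g g.2)
  choose σ hσ using hex
  have hmul : ∀ g g' : H, σ (g * g') = σ g * σ g' := fun g g' =>
    (hσ (g * g')).unique q ((hσ g').comp q.z2 (hσ g) (hz g g.2))
  have hone : σ 1 = 1 := (hσ 1).unique q (Act.one x z)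
  let φ : H →* Equiv.Perm (Fin 3) := ⟨⟨σ, hone⟩, hmul⟩
  letI : MulAction H (Fin 3) := MulAction.compHom (Fin 3) φ
  obtain ⟨i, hi⟩ := hH.nonempty_fixed_point_of_prime_not_dvd_card (Fin 3) (by simp)
  refine ⟨i, fun g hg => ?_⟩
  have h1 : σ ⟨g, hg⟩ i = i := hi ⟨g, hg⟩
  have h2 := hσ ⟨g, hg⟩ i
  rwa [h1] at h2

/-- the image of an axis under an element of `C(z)` normalising `K` -/
theorem exists_axis (hK : Mem Om z K) {x : Fin 3 → G} (q : Q3 K z x) (hg : g * z = z * g) (hgK : cj g K = K)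
    (i : Fin 3) : ∃ j, g * x i * g⁻¹ = x j ∨ g * x i * g⁻¹ = z * x j := by
  obtain ⟨σ, hσ⟩ := q.exists_act q hgK hg
  exact ⟨σ i, hσ i⟩

/-- two fixed axes: all axes are fixed -/
theorem fix_of_two (h : WM Om) (hK : Mem Om z K) {x : Fin 3 → G} (q : Q3 K z x) (hgK : cj g K = K) {i j : Fin 3}
    (hij : i ≠ j) (hi : g * x i * g⁻¹ = x i ∨ g * x i * g⁻¹ = z * x i)
    (hj : g * x j * g⁻¹ = x j ∨ g * x j * g⁻¹ = z * x j) (hk : k ∈ K) :
    g * k * g⁻¹ = k ∨ g * k * g⁻¹ = z * k := by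
  have hgz : g * z = z * g := hK.of_cj h hgK
  obtain ⟨σ, hσ⟩ := q.exists_act q hgK hgz
  have key : ∀ l, (g * x l * g⁻¹ = x l ∨ g * x l * g⁻¹ = z * x l) → σ l = l := by
    intro l hl
    rcases hσ l with h1 | h1 <;> rcases hl with h2 | h2
    · exact q.inj (Or.inl (h1.symm.trans h2))
    · exact q.inj (Or.inr (h1.symm.trans h2))
    · exact (q.inj (Or.inr (h2.symm.trans h1))).symm
    · exact q.inj (Or.inl (mul_left_cancel (h1.symm.trans h2)))
  have h1 : ∀ (τ : Equiv.Perm (Fin 3)) (i j : Fin 3), i ≠ j → τ i = i → τ j = j → ∀ l, τ l = l := by decide +kernel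
  have h2 := h1 σ i j hij (key i hi) (key j hj)
  rcases q.cov k hk with rfl | rfl | ⟨l, rfl | rfl⟩
  · left; group
  · left; rw [hgz, mul_inv_cancel_right]
  · have h3 := hσ l
    rwa [h2 l] at h3
  · have h3 := hσ l
    rw [h2 l] at h3
    have h4 : g * (z * x l) * g⁻¹ = z * (g * x l * g⁻¹) := by
      calc g * (z * x l) * g⁻¹ = (g * z) * x l * g⁻¹ := by group
        _ = _ := by rw [hgz]; group
    rw [h4]
    rcases h3 with h3 | h3
    · left; rw [h3]
    · right; rw [h3]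

/-! ### Frattini -/

/-- **Frattini** -/
theorem exists_ncs (h : WM Om) (S : Sylow 2 G) (hz : z ∈ CS Om (S : Subgroup G)) (hg : g * z = z * g) :
    ∃ c ∈ CX Om z, ∀ u ∈ CS Om (S : Subgroup G), c * g * u * (c * g)⁻¹ ∈ CS Om (S : Subgroup G) := by
  haveI : Fact (Nat.Prime 2) := ⟨Nat.prime_two⟩
  have hzi := CS.inZ hz
  have hP0 : IsPGroup 2 ((S : Subgroup G) ⊓ CX Om z : Subgroup G) := S.isPGroup'.to_le inf_le_left
  obtain ⟨Q, hQ, hPQ⟩ := LB.exists_syl_ge hP0 (inf_le_right : _ ≤ CX Om z)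
  -- `Q R_z` is a 2-group
  have hR : IsPGroup 2 (RZ Om z) := S.isPGroup'.to_le (CS.RZ_le hz h)
  have hPP : IsPGroup 2 (Q ⊔ RZ Om z : Subgroup G) := by
    refine IsPGroup.to_sup_of_normal_right' hQ.2.1 hR ?_
    intro a ha
    rw [mem_normalizer_iff]
    intro b
    constructor
    · intro hb
      rw [CX_comm hb (hQ.1 ha), mul_inv_cancel_right]
      exact hb
    · intro hb
      have h1 := CX_comm hb (inv_mem (hQ.1 ha))
      have h2 : b = a⁻¹ * (a * b * a⁻¹) * a := by group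
      rw [h2, h1, inv_mul_cancel_right]
      exact hb
  obtain ⟨P, hP⟩ := hPP.exists_le_sylow
  -- the members of `Q`
  have hsub : ∀ u ∈ CS Om (S : Subgroup G), u ≠ z → ∀ L, Mem Om u L → L ≤ Q := by
    intro u hu hne L hL
    refine (le_inf (CS.le hu h hL) ?_).trans hPQ
    exact hL.le_RZ.trans (RZ_le_CX h (CS.cp hz h S.isPGroup' hu hne.symm).symm)
  have hsub2 : ∀ u ∈ CS Om (S : Subgroup G), u ∈ CS Om (P : Subgroup G) := by
    intro u hu
    obtain ⟨L, hL⟩ := CS.inZ hu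
    refine ⟨L, hL, ?_⟩
    by_cases hne : u = z
    · subst hne
      exact hL.le_RZ.trans (le_sup_right.trans hP)
    · exact (hsub u hu hne L hL).trans (le_sup_left.trans hP)
  have hCS : ∀ w ∈ CS Om (P : Subgroup G), w ∈ CS Om (S : Subgroup G) := by
    intro w hw
    refine mem_CS_of_clique h S (CS.inZ hw) fun u hu => ?_
    by_cases hne : u = w
    · exact Or.inl hne
    · exact Or.inr (CS.cp (hsub2 u hu) h P.isPGroup' hw hne)
  have hQz : ∀ L, Mem Om z L → ¬ L ≤ Q := by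
    intro L hL hLQ
    obtain ⟨a, ha, b, hb, hab⟩ := RZ_ncomm h hL
    exact hab (mem_CX.1 (hQ.1 (hLQ ha)) L hL b hb)
  -- conjugation
  have hcj : cj g (CX Om z) = CX Om z := by
    ext t
    rw [mem_cj]
    have h1 := CX_conj h g (x := g⁻¹ * t * g) (z := z)
    rw [hg, mul_inv_cancel_right] at h1
    rw [← h1]
    have h2 : g * (g⁻¹ * t * g) * g⁻¹ = t := by group
    rw [h2]
  have hQg : Syl (cj g Q) (CX Om z) := by
    have h1 := hQ.cj g
    rwa [hcj] at h1
  obtain ⟨c, hc, hcQ⟩ := hQg.exists_conj hQ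
  refine ⟨c, hc, fun u hu => ?_⟩
  have hcg : cj (c * g) Q = Q := by rw [cj_mul]; exact hcQ
  by_cases hne : u = z
  · subst hne
    have h1 : c * g * u * (c * g)⁻¹ = u := by
      calc c * g * u * (c * g)⁻¹ = c * (g * u * g⁻¹) * c⁻¹ := by group
        _ = u := by rw [hg, mul_inv_cancel_right, CX_le hzi h hc, mul_inv_cancel_right]
    rw [h1]
    exact hz
  · obtain ⟨L, hL⟩ := CS.inZ hu
    have hL' := hL.cj h (c * g)
    refine hCS _ ⟨_, hL', ?_⟩
    have h1 : cj (c * g) L ≤ Q := by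
      rw [← hcg]
      exact cj_mono _ (hsub u hu hne L hL)
    exact h1.trans (le_sup_left.trans hP)

/-- an element normalising `C_S` normalises `T_S` -/
theorem norm_TT {S : Subgroup G} (hg : NCS Om S g) : g ∈ normalizer (TT Om S : Set G) := by
  refine mem_normalizer_fintype fun n hn => ?_
  have h1 : TT Om S ≤ (TT Om S).comap (MulAut.conj g).toMonoidHom :=
    (closure_le _).2 fun u hu => _root_.Subgroup.subset_closure (hg u hu)
  exact h1 hn

/-- **an element of `O₂(C(T_S))` normalising the member `K` over `z ∈ C_S` fixes every axis of `K`** -/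
theorem fix_axes (h : WM Om) (c3 : C3E Om) (S : Sylow 2 G) (hz : z ∈ CS Om (S : Subgroup G)) (hK : Mem Om z K)
    (hn : n ∈ oP 2 (centralizer (TT Om (S : Subgroup G) : Set G))) (hnK : cj n K = K) (hk : k ∈ K) :
    n * k * n⁻¹ = k ∨ n * k * n⁻¹ = z * k := by
  obtain ⟨x, q⟩ := h.exists_q3 hK
  obtain ⟨H, hH⟩ : ∃ H, H = oP 2 (centralizer (TT Om (S : Subgroup G) : Set G)) ⊓ normalizer (K : Set G) := ⟨_, rfl⟩
  have hHp : IsPGroup 2 H := by
    rw [hH]; exact (isPGroup_oP 2 _).to_le inf_le_left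
  have hHK : ∀ g ∈ H, cj g K = K := fun g hg => by
    rw [hH] at hg
    exact mem_normalizer_iff_cj.1 hg.2
  obtain ⟨i, hi⟩ := exists_fixed_axis h hK q hHp hHK
  obtain ⟨g, hgz, hgK, hg1, hg2⟩ := c3 z K hK (x i) (q.mem i) (q.sq i)
  obtain ⟨c, hc, hcg⟩ := exists_ncs h S hz hgz
  have hcK : cj c K = K := (Inn.of_CX hc).cj_eq hK h
  have hmK : cj (c * g) K = K := by rw [cj_mul, hgK, hcK]
  have hmz : (c * g) * z = z * (c * g) := hK.of_cj h hmK
  have hax : (c * g) * x i * (c * g)⁻¹ = g * x i * g⁻¹ := by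
    have h1 : g * x i * g⁻¹ ∈ K := by
      rw [← hgK]; exact conj_mem_cj (q.mem i)
    calc (c * g) * x i * (c * g)⁻¹ = c * (g * x i * g⁻¹) * c⁻¹ := by group
      _ = _ := by rw [mem_CX.1 hc K hK _ h1, mul_inv_cancel_right]
  obtain ⟨j, hj⟩ := exists_axis hK q hmz hmK i
  have hji : j ≠ i := by
    rintro rfl
    rw [hax] at hj
    rcases hj with hj | hj
    · exact hg1 hj
    · exact hg2 hj
  -- `c g` normalises `H`
  have hmT : c * g ∈ normalizer (oP 2 (centralizer (TT Om (S : Subgroup G) : Set G)) : Set G) :=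
    normalizer_le_oP 2 _ (normalizer_le_normalizer_centralizer _ (norm_TT hcg))
  have hmH : ∀ m ∈ H, (c * g)⁻¹ * m * (c * g) ∈ H := by
    intro m hm
    rw [hH] at hm ⊢
    refine mem_inf.2 ⟨?_, ?_⟩
    · have := (mem_normalizer_iff.1 (inv_mem hmT) m).1 hm.1
      rwa [inv_inv] at this
    · exact mul_mem (mul_mem (inv_mem (mem_normalizer_iff_cj.2 hmK)) hm.2) (mem_normalizer_iff_cj.2 hmK)
  have hnH : n ∈ H := by
    rw [hH]; exact ⟨hn, mem_normalizer_iff_cj.2 hnK⟩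
  have hnz : n * z = z * n := hK.of_cj h hnK
  refine fix_of_two h hK q hnK hji ?_ (hi n hnH) hk
  have h2 := hi _ (hmH n hnH)
  have h3 : n * ((c * g) * x i * (c * g)⁻¹) * n⁻¹ =
      (c * g) * (((c * g)⁻¹ * n * (c * g)) * x i * ((c * g)⁻¹ * n * (c * g))⁻¹) * (c * g)⁻¹ := by group
  have h4 : n * ((c * g) * x i * (c * g)⁻¹) * n⁻¹ = (c * g) * x i * (c * g)⁻¹ ∨
      n * ((c * g) * x i * (c * g)⁻¹) * n⁻¹ = z * ((c * g) * x i * (c * g)⁻¹) := by
    rw [h3]
    rcases h2 with h2 | h2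
    · left; rw [h2]
    · right
      rw [h2]
      calc (c * g) * (z * x i) * (c * g)⁻¹ = ((c * g) * z) * x i * (c * g)⁻¹ := by group
        _ = _ := by rw [hmz]; group
  rcases hj with hj | hj
  · rwa [hj] at h4
  · rw [hj] at h4
    have h5 : n * (z * x j) * n⁻¹ = z * (n * x j * n⁻¹) := by
      calc n * (z * x j) * n⁻¹ = (n * z) * x j * n⁻¹ := by group
        _ = _ := by rw [hnz]; group
    rw [h5] at h4
    rcases h4 with h4 | h4
    · exact Or.inl (mul_left_cancel h4)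
    · exact Or.inr (mul_left_cancel h4)

/-- `T_S ≤ N_s`, `s ∈ T_S#` -/
theorem TT_le_NZ_of (h : WM Om) (S : Sylow 2 G) (hs : s ∈ TT Om (S : Subgroup G)) : TT Om (S : Subgroup G) ≤ NZ Om s :=
  (closure_le _).2 fun _ hu => mem_NZ (CS_subset_ZS h S.isPGroup' hs hu)

/-- `N_s ≤ O₂(C(T_S))`, `s ∈ T_S#` -/
theorem NZ_le_oP (h : WM Om) (l0 : L0 Om) (ant : ANT Om) (S : Sylow 2 G) (hs : s ∈ TT Om (S : Subgroup G))
    (hs1 : s ≠ 1) : NZ Om s ≤ oP 2 (centralizer (TT Om (S : Subgroup G) : Set G)) := by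
  have an := ant S s hs hs1
  refine le_oP ?_ ?_ ?_
  · intro y hy
    rw [mem_centralizer_iff]
    exact fun t ht => NZ_comm h l0 an (TT_le_NZ_of h S hs ht) hy
  · intro g
    refine ⟨1, ?_⟩
    have h1 := NZ_sq h l0 an g.2
    rw [pow_one, pow_two]
    exact Subtype.ext h1
  · intro g hg
    refine mem_normalizer_fintype fun m hm => ?_
    exact NZ_conj h ((mem_centralizer_iff.1 hg s hs).symm) hm

/-- **two swaps of `O₂(C(T_S))` at `z ∈ C_S` agree up to `z`** -/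
theorem line (h : WM Om) (c3 : C3E Om) (S : Sylow 2 G) (hz : z ∈ CS Om (S : Subgroup G)) (hK : Mem Om z K)
    (hn : n ∈ oP 2 (centralizer (TT Om (S : Subgroup G) : Set G))) (sn : Swp Om z n)
    (hn' : n' ∈ oP 2 (centralizer (TT Om (S : Subgroup G) : Set G))) (sn' : Swp Om z n') (hk : k ∈ K) :
    n * k * n⁻¹ = n' * k * n'⁻¹ ∨ n * k * n⁻¹ = z * (n' * k * n'⁻¹) := by
  have hKK : cj (n'⁻¹ * n) K = K := by
    have h1 := hK.cases (sn'.mem h hK) h (sn'.ne hK) (sn.mem h hK)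
    rcases h1 with h1 | h1
    · exact absurd h1.symm (sn.ne hK)
    · rw [cj_mul, h1, ← cj_mul, inv_mul_cancel, cj_one]
  have h2 := fix_axes h c3 S hz hK (mul_mem (inv_mem hn') hn) hKK hk
  have h3 : n * k * n⁻¹ = n' * (n'⁻¹ * n * k * (n'⁻¹ * n)⁻¹) * n'⁻¹ := by group
  rw [h3]
  rcases h2 with h2 | h2
  · left; rw [h2]
  · right
    rw [h2]
    calc n' * (z * k) * n'⁻¹ = (n' * z) * k * n'⁻¹ := by group
      _ = _ := by rw [sn'.1]; group

end Fin

end Cfsg.Agent.Cit.Nil.RTwoM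
end

-- part: Cit/Nil/RTwoM/UIndex
section
/-!
# S1309, (6b), (C3), `r = 2`, any `m`, `LAMBDA0` : indices of centralisers in elementary groups

* `exists_compl` : a complement in an elementary abelian 2-group;
* `idx8` : `E` elementary, `E ≤ C(x)`, `E` contains a swap at `x` : `|E| ≤ 8 |E ⊓ C(R_x)|`;
* `idx16` : `|E| ≤ 16 |E ⊓ C(R_x)|`;
* `mul_card_le` : `D ⊓ D' = 1`, `D, D' ≤ F` : `|D| |D'| ≤ |F|`;
* `eight_of_five` : an elementary group of order `≥ 5` has order `≥ 8`.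
-/

set_option autoImplicit false
set_option linter.style.haveILetI false
set_option linter.unusedSectionVars false

namespace Cfsg.Agent.Cit.Nil.RTwoM

open Subgroup Cfsg Cfsg.Agent.Cit

variable {G : Type*} [Group G] {Om : Set (Subgroup G)} {K L M : Subgroup G}
  {a b c d e g k l n n' r s s' t u v w x y z : G}

section Fin

variable [Finite G]

/-- a complement in an elementary abelian 2-group -/
theorem exists_compl {E : Subgroup G} (hs : ∀ a ∈ E, a * a = 1) (C : Subgroup G) :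
    ∃ F ≤ E, F ⊓ C = ⊥ ∧ Nat.card E ≤ Nat.card F * Nat.card (E ⊓ C : Subgroup G) := by
  classical
  have hc : ∀ a ∈ E, ∀ b ∈ E, a * b = b * a := by
    intro a ha b hb
    have h1 := hs (a * b) (mul_mem ha hb)
    have h2 := hs a ha
    have h3 := hs b hb
    calc a * b = a * (a * b * (a * b)) * b := by rw [h1, mul_one]
      _ = (a * a) * (b * a) * (b * b) := by group
      _ = b * a := by rw [h2, h3, one_mul, mul_one]
  have hne : {F : Subgroup G | F ≤ E ∧ F ⊓ C = ⊥}.Nonempty := ⟨⊥, bot_le, bot_inf_eq _⟩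
  obtain ⟨F, hF⟩ := (Set.toFinite {F : Subgroup G | F ≤ E ∧ F ⊓ C = ⊥}).exists_maximal hne
  refine ⟨F, hF.prop.1, hF.prop.2, ?_⟩
  have hsurj : ∀ e ∈ E, ∃ f ∈ F, ∃ c ∈ E ⊓ C, f * c = e := by
    intro e he
    by_cases heF : e ∈ F
    · exact ⟨e, heF, 1, one_mem _, mul_one e⟩
    have hE : ∀ a, e * a ∈ F → a ∈ E := fun a ha => by
      have h1 := mul_mem (inv_mem he) (hF.prop.1 ha)
      rwa [inv_mul_cancel_left] at h1
    let F' : Subgroup G :=
      { carrier := {g | g ∈ F ∨ e * g ∈ F}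
        one_mem' := Or.inl (one_mem _)
        mul_mem' := by
          rintro a b (ha | ha) (hb | hb)
          · exact Or.inl (mul_mem ha hb)
          · right
            have h1 : e * (a * b) = a * (e * b) := by
              rw [← mul_assoc, hc e he a (hF.prop.1 ha), mul_assoc]
            rw [h1]; exact mul_mem ha hb
          · right
            rw [← mul_assoc]; exact mul_mem ha hb
          · left
            have h1 : a * b = (e * a) * (e * b) := by
              have h2 := hc e he a (hE a ha)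
              calc a * b = a * (e * e) * b := by rw [hs e he, mul_one]
                _ = (a * e) * (e * b) := by group
                _ = _ := by rw [← h2]
            rw [h1]; exact mul_mem ha hb
        inv_mem' := by
          rintro a (ha | ha)
          · exact Or.inl (inv_mem ha)
          · right
            rwa [inv_eq_of_mul_eq_one_right (hs a (hE a ha))] }
    have hFF' : F ≤ F' := fun a ha => Or.inl ha
    have heF' : e ∈ F' := Or.inr (by rw [hs e he]; exact one_mem _)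
    have hF'E : F' ≤ E := by
      rintro a (ha | ha)
      · exact hF.prop.1 ha
      · exact hE a ha
    have hn : F' ⊓ C ≠ ⊥ := fun h1 => heF (hF.le_of_ge ⟨hF'E, h1⟩ hFF' heF')
    obtain ⟨c, ⟨hcF', hcC⟩, hc1⟩ := (F' ⊓ C).bot_or_exists_ne_one.resolve_left hn
    rcases hcF' with hcF | hcF
    · exfalso
      apply hc1
      have h1 : c ∈ F ⊓ C := ⟨hcF, hcC⟩
      rw [hF.prop.2, mem_bot] at h1
      exact h1
    · refine ⟨e * c, hcF, c, ⟨hE c hcF, hcC⟩, ?_⟩
      rw [mul_assoc, hs c (hE c hcF), mul_one]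
  have h1 : Function.Surjective (fun p : F × (E ⊓ C : Subgroup G) =>
      (⟨p.1 * p.2, mul_mem (hF.prop.1 p.1.2) p.2.2.1⟩ : E)) := by
    rintro ⟨e, he⟩
    obtain ⟨f, hf, c, hc, rfl⟩ := hsurj e he
    exact ⟨(⟨f, hf⟩, ⟨c, hc⟩), rfl⟩
  have h2 := Nat.card_le_card_of_surjective _ h1
  rwa [Nat.card_prod] at h2

theorem comm_of_sq {E : Subgroup G} (hs : ∀ a ∈ E, a * a = 1) : ∀ a ∈ E, ∀ b ∈ E, a * b = b * a := by
  intro a ha b hb
  have h1 := hs (a * b) (mul_mem ha hb)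
  have h2 := hs a ha
  have h3 := hs b hb
  calc a * b = a * (a * b * (a * b)) * b := by rw [h1, mul_one]
    _ = (a * a) * (b * a) * (b * b) := by group
    _ = b * a := by rw [h2, h3, one_mul, mul_one]

/-- `E` elementary, `E ≤ C(x)` with a swap at `x` : `|E : C_E(R_x)| ≤ 8` -/
theorem idx8 (h : WM Om) (hx : InZ Om x) {E : Subgroup G} (hs : ∀ a ∈ E, a * a = 1) (hn : ∀ g ∈ E, g * x = x * g)
    (hw : w ∈ E) (hsw : Swp Om x w) : Nat.card E ≤ 8 * Nat.card (E ⊓ CX Om x : Subgroup G) := by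
  have hc := comm_of_sq hs
  obtain ⟨F, hFE, hF, hcard⟩ := exists_compl hs (CX Om x)
  refine hcard.trans (Nat.mul_le_mul_right _ ?_)
  refine card_le_eight h hx (fun a ha b hb => hc a (hFE ha) b (hFE hb)) (fun a ha => hs a (hFE ha))
    (fun g hg => hn g (hFE hg)) fun g hg K hK hk => ?_
  have h1 : g ∈ F ⊓ CX Om x := by
    refine mem_inf.2 ⟨hg, ?_⟩
    rw [mem_CX]
    intro M hM m hm
    rcases hK.cases (hsw.mem h hK) h (hsw.ne hK) hM with rfl | rfl
    · exact hk m hm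
    · obtain ⟨k, hk', rfl⟩ := hm
      have h2 := hk k hk'
      have h3 := hc g (hFE hg) w hw
      show g * (w * k * w⁻¹) = w * k * w⁻¹ * g
      have h4 : w⁻¹ * g = g * w⁻¹ := by
        have h5 : w⁻¹ = w := inv_eq_of_mul_eq_one_right (hs w hw)
        rw [h5, h3]
      calc g * (w * k * w⁻¹) = (g * w) * k * w⁻¹ := by group
        _ = (w * g) * k * w⁻¹ := by rw [h3]
        _ = w * (g * k) * w⁻¹ := by group
        _ = w * (k * g) * w⁻¹ := by rw [h2]
        _ = w * k * (g * w⁻¹) := by group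
        _ = w * k * (w⁻¹ * g) := by rw [h4]
        _ = _ := by group
  rw [hF, mem_bot] at h1
  exact h1

/-- `E` elementary, normalising the member `K` : `|E : C_E(K)| ≤ 4` -/
theorem idx4 (h : WM Om) (hK : Mem Om x K) {E : Subgroup G} (hs : ∀ a ∈ E, a * a = 1) (hn : ∀ g ∈ E, cj g K = K) :
    Nat.card E ≤ 4 * Nat.card (E ⊓ centralizer (K : Set G) : Subgroup G) := by
  have hc := comm_of_sq hs
  obtain ⟨F, hFE, hF, hcard⟩ := exists_compl hs (centralizer (K : Set G))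
  refine hcard.trans (Nat.mul_le_mul_right _ ?_)
  refine card_le_four h hK (fun a ha b hb => hc a (hFE ha) b (hFE hb)) (fun a ha => hs a (hFE ha))
    (fun g hg => hn g (hFE hg)) fun g hg hk => ?_
  have h1 : g ∈ F ⊓ centralizer (K : Set G) := by
    refine mem_inf.2 ⟨hg, ?_⟩
    rw [mem_centralizer_iff]
    exact fun k hk' => (hk k hk').symm
  rw [hF, mem_bot] at h1
  exact h1

/-- `E` elementary, `E ≤ C(x)` : `|E : C_E(R_x)| ≤ 16` -/
theorem idx16 (h : WM Om) (hx : InZ Om x) {E : Subgroup G} (hs : ∀ a ∈ E, a * a = 1)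
    (hn : ∀ g ∈ E, g * x = x * g) : Nat.card E ≤ 16 * Nat.card (E ⊓ CX Om x : Subgroup G) := by
  by_cases hsw : ∃ w ∈ E, Swp Om x w
  · obtain ⟨w, hw, hsw⟩ := hsw
    have := idx8 h hx hs hn hw hsw
    omega
  · push Not at hsw
    have hfix : ∀ M, Mem Om x M → ∀ g ∈ E, cj g M = M := by
      intro M hM g hg
      by_contra h1
      exact hsw g hg (Swp.of_one h hM (hn g hg) h1)
    obtain ⟨K, hK⟩ := hx
    obtain ⟨L, hL, hne, hall⟩ := hK.other h
    have h1 := idx4 h hK hs (hfix K hK)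
    have h2 := idx4 h hL (E := E ⊓ centralizer (K : Set G)) (fun a ha => hs a ha.1) (fun g hg => hfix L hL g hg.1)
    have h3 : (E ⊓ centralizer (K : Set G) ⊓ centralizer (L : Set G) : Subgroup G) ≤ E ⊓ CX Om x := by
      intro g hg
      refine mem_inf.2 ⟨hg.1.1, ?_⟩
      rw [mem_CX]
      intro M hM m hm
      rcases hall M hM with rfl | rfl
      · exact (mem_centralizer_iff.1 hg.1.2 m hm).symm
      · exact (mem_centralizer_iff.1 hg.2 m hm).symm
    have h4 := Subgroup.card_le_of_le h3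
    omega

/-- `D ⊓ D' = 1`, `D, D' ≤ F` : `|D| |D'| ≤ |F|` -/
theorem mul_card_le {D D' F : Subgroup G} (hd : D ⊓ D' = ⊥) (hF : D ≤ F) (hF' : D' ≤ F) :
    Nat.card D * Nat.card D' ≤ Nat.card F := by
  have h1 : Function.Injective (fun p : D × D' => (⟨p.1 * p.2, mul_mem (hF p.1.2) (hF' p.2.2)⟩ : F)) := by
    rintro ⟨a, b⟩ ⟨c, d⟩ h1
    have h2 : (a : G) * b = c * d := congrArg Subtype.val h1
    have h3 : (c : G)⁻¹ * a = d * (b : G)⁻¹ := by
      rw [inv_mul_eq_iff_eq_mul, ← mul_assoc, ← h2, mul_inv_cancel_right]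
    have h4 : (c : G)⁻¹ * a ∈ D ⊓ D' :=
      mem_inf.2 ⟨mul_mem (inv_mem c.2) a.2, by rw [h3]; exact mul_mem d.2 (inv_mem b.2)⟩
    rw [hd, mem_bot] at h4
    have h5 : (a : G) = c := (inv_mul_eq_one.1 h4).symm
    rw [h4] at h3
    have h6 : (b : G) = d := (mul_inv_eq_one.1 h3.symm).symm
    exact Prod.ext (Subtype.ext h5) (Subtype.ext h6)
  have h2 := Nat.card_le_card_of_injective _ h1
  rwa [Nat.card_prod] at h2

/-- an elementary group with at least 5 elements has at least 8 -/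
theorem eight_of_five {E : Subgroup G} (hs : ∀ a ∈ E, a * a = 1) (h5 : 5 ≤ Nat.card E) : 8 ≤ Nat.card E := by
  haveI : Fact (Nat.Prime 2) := ⟨Nat.prime_two⟩
  have hp : IsPGroup 2 E := by
    intro g
    refine ⟨1, ?_⟩
    rw [pow_one, pow_two]
    exact Subtype.ext (hs g g.2)
  obtain ⟨n, hn⟩ := IsPGroup.iff_card.1 hp
  rw [hn] at h5 ⊢
  by_contra hcon
  have h1 : n < 3 := by
    by_contra h2
    have h3 : 2 ^ 3 ≤ 2 ^ n := Nat.pow_le_pow_right (by norm_num) (not_lt.1 h2)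
    omega
  interval_cases n <;> omega

end Fin

end Cfsg.Agent.Cit.Nil.RTwoM
end

-- part: Cit/Nil/RTwoM/URed
section
/-!
# S1309, (6b), (C3), `r = 2`, any `m`, `LAMBDA0` : reduction to `Ψ'`

* `exists_swp_of_bot` : `T_S ∩ C(R_x) = 1`, `|C_S| ≥ 3`, `x ∈ Z ∩ C(C_S)`: some element of `C_S` is a swap at `x`;
* `red` : `|C_S| ≥ 3`, `|T_S| ≥ 8`, `x ∈ Z ∩ C(C_S)` does not commute with `y`: some `w ∈ Z(s)`, `s ∈ T_S#`, does not
  commute with `y`.
-/

set_option autoImplicit false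
set_option linter.style.haveILetI false
set_option linter.unusedSectionVars false

namespace Cfsg.Agent.Cit.Nil.RTwoM

open Subgroup Cfsg Cfsg.Agent.Cit

open RG (WR CP Ov InO Tr)
open RI (CS)

variable {G : Type*} [Group G] {Om : Set (Subgroup G)} {K L M : Subgroup G}
  {a b c d e g k l n n' r s s' t u v w x y z z₁ z₂ z₃ : G}

section Fin

variable [Finite G]

theorem mem_CX_of_swp (h : WM Om) (hK : Mem Om x K) (hsw : Swp Om x w) (hgw : g * w = w * g)
    (hk : ∀ k ∈ K, g * k = k * g) : g ∈ CX Om x := by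
  rw [mem_CX]
  intro M hM m hm
  rcases hK.cases (hsw.mem h hK) h (hsw.ne hK) hM with rfl | rfl
  · exact hk m hm
  · obtain ⟨k, hk', rfl⟩ := hm
    have h2 := hk k hk'
    show g * (w * k * w⁻¹) = w * k * w⁻¹ * g
    have h4 : w⁻¹ * g = g * w⁻¹ := by
      rw [inv_mul_eq_iff_eq_mul, ← mul_assoc, ← hgw, mul_inv_cancel_right]
    calc g * (w * k * w⁻¹) = (g * w) * k * w⁻¹ := by group
      _ = (w * g) * k * w⁻¹ := by rw [hgw]
      _ = w * (g * k) * w⁻¹ := by group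
      _ = w * (k * g) * w⁻¹ := by rw [h2]
      _ = w * k * (g * w⁻¹) := by group
      _ = w * k * (w⁻¹ * g) := by rw [h4]
      _ = _ := by group

theorem mul_TT (h : WM Om) {S : Subgroup G} (hu : u ∈ CS Om S) (he : e ∈ CS Om S) (hue : u ≠ e) :
    u * e ∈ TT Om S ∧ u * e ≠ 1 := by
  refine ⟨mul_mem (CS.mem_TT hu) (CS.mem_TT he), fun h1 => hue ?_⟩
  have h2 := eq_inv_of_mul_eq_one_left h1
  rwa [(CS.inZ he).inv h] at h2

/-- `T_S ∩ C(R_x) = 1` : some element of `C_S` is a swap at `x` -/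
theorem exists_swp_of_bot (h : WM Om) (l0 : L0 Om) (ant : ANT Om) (S : Sylow 2 G) (hx : InZ Om x)
    (hc : ∀ z ∈ CS Om (S : Subgroup G), x * z = z * x)
    (hbot : ∀ t ∈ TT Om (S : Subgroup G), t ∈ CX Om x → t = 1)
    (h1 : z₁ ∈ CS Om (S : Subgroup G)) (h2 : z₂ ∈ CS Om (S : Subgroup G)) (h3 : z₃ ∈ CS Om (S : Subgroup G))
    (n12 : z₁ ≠ z₂) (n13 : z₁ ≠ z₃) (n23 : z₂ ≠ z₃) : ∃ z ∈ CS Om (S : Subgroup G), Swp Om x z := by
  by_contra hcon
  push Not at hcon
  have hS := S.isPGroup'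
  have hne : ∀ z ∈ CS Om (S : Subgroup G), x ≠ z := by
    rintro z hz rfl
    exact (CS.inZ hz).z1 h (hbot x (CS.mem_TT hz) (z_mem_CX h))
  have key : ∀ z ∈ CS Om (S : Subgroup G), TI Om x z ∨ Ff Om x z := by
    intro z hz
    rcases tri h hx (CS.inZ hz) (hne z hz) (hc z hz) with h1 | h1 | h1
    · exact absurd (hbot z (CS.mem_TT hz) (cp_cx h (CS.inZ hz) h1)) ((CS.inZ hz).z1 h)
    · exact Or.inl h1
    · rcases h1.1.cases with h2 | h2
      · exact absurd h2 (hcon z hz)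
      · exact Or.inr h2
  have nti : ∀ u ∈ CS Om (S : Subgroup G), ¬ TI Om x u := by
    intro u hu hti
    obtain ⟨e, he, hue⟩ : ∃ e ∈ CS Om (S : Subgroup G), u ≠ e := by
      by_cases hu1 : u = z₁
      · exact ⟨z₂, h2, hu1 ▸ n12⟩
      · exact ⟨z₁, h1, hu1⟩
    rcases key e he with h4 | h4
    · exact (mul_TT h hu he hue).2 (hbot _ (mul_TT h hu he hue).1 (tt_II_cx h (CS.cp hu h hS he hue) hti h4))
    · exact tt_If h (CS.cp hu h hS he hue) hti (CS.inZ he) h4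
  have hff : ∀ u ∈ CS Om (S : Subgroup G), Ff Om x u := fun u hu => (key u hu).resolve_left (nti u hu)
  obtain ⟨K, hK⟩ := hx
  obtain ⟨a, ha⟩ := (hff z₁ h1).exists_tr h ((CS.inZ h1).z2 h) hK
  have ant' : ∀ {u e : G}, u ∈ CS Om (S : Subgroup G) → e ∈ CS Om (S : Subgroup G) → u ≠ e → ANt Om (u * e) :=
    fun hu he hue => ant S _ (mul_TT h hu he hue).1 (mul_TT h hu he hue).2
  obtain ⟨t2, a12⟩ := tt_ff h l0 (CS.cp h1 h hS h2 n12) (ant' h1 h2 n12) (CS.inZ h1) (CS.inZ h2) (hff _ h1) (hff _ h2)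
    hK ha
  obtain ⟨t3, a13⟩ := tt_ff h l0 (CS.cp h1 h hS h3 n13) (ant' h1 h3 n13) (CS.inZ h1) (CS.inZ h3) (hff _ h1) (hff _ h3)
    hK ha
  obtain ⟨-, a23⟩ := tt_ff h l0 (CS.cp h2 h hS h3 n23) (ant' h2 h3 n23) (CS.inZ h2) (CS.inZ h3) (hff _ h2) (hff _ h3)
    hK t2
  have haa := Tr.sq' ha hK
  have h4 := a12.mul a13
  have h5 : z₁ * z₂ * (z₁ * z₃) = z₂ * z₃ := by
    calc z₁ * z₂ * (z₁ * z₃) = (z₁ * z₂) * z₁ * z₃ := by group
      _ = (z₂ * z₁) * z₁ * z₃ := by rw [CS.comm h1 h hS h2]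
      _ = z₂ * (z₁ * z₁) * z₃ := by group
      _ = _ := by rw [(CS.inZ h1).z2 h, mul_one]
  rw [h5, haa, ← mul_one x] at h4
  exact hK.not_as_one h a23 haa (as_of_zmul h hK h4)

/-- a third element -/
theorem exists_third {T : Subgroup G} (h3 : 3 ≤ Nat.card T) (θ : G) : ∃ t ∈ T, t ≠ 1 ∧ t ≠ θ := by
  classical
  by_contra hcon
  push Not at hcon
  have h1 : (T : Set G) ⊆ (({1, θ} : Finset G) : Set G) := by
    intro t ht
    rw [Finset.mem_coe, Finset.mem_insert, Finset.mem_singleton]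
    by_cases h2 : t = 1
    · exact Or.inl h2
    · exact Or.inr (hcon t ht h2)
  have h2 := Set.ncard_le_ncard h1 (Set.toFinite _)
  rw [Set.ncard_coe_finset] at h2
  have h4 : (T : Set G).ncard = Nat.card T := rfl
  have h5 := Finset.card_le_two (a := (1 : G)) (b := θ)
  omega

theorem exists_of_NZ (hg : g ∈ NZ Om s) (hy : g * y ≠ y * g) : ∃ w ∈ ZS Om s, w * y ≠ y * w := by
  by_contra hcon
  push Not at hcon
  have h1 : NZ Om s ≤ centralizer {y} := (closure_le _).2 fun w hw => by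
    rw [SetLike.mem_coe, mem_centralizer_singleton_iff]
    exact hcon w hw
  exact hy (mem_centralizer_singleton_iff.1 (h1 hg))

/-- **the reduction to `Ψ'`** -/
theorem red (h : WM Om) (l0 : L0 Om) (ant : ANT Om) (S : Sylow 2 G) (hx : InZ Om x)
    (hc : ∀ z ∈ CS Om (S : Subgroup G), x * z = z * x)
    (h1 : z₁ ∈ CS Om (S : Subgroup G)) (h2 : z₂ ∈ CS Om (S : Subgroup G)) (h3 : z₃ ∈ CS Om (S : Subgroup G))
    (n12 : z₁ ≠ z₂) (n13 : z₁ ≠ z₃) (n23 : z₂ ≠ z₃) (h8 : 8 ≤ Nat.card (TT Om (S : Subgroup G)))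
    (hxy : x * y ≠ y * x) :
    ∃ s ∈ TT Om (S : Subgroup G), s ≠ 1 ∧ ∃ w ∈ ZS Om s, w * y ≠ y * w := by
  have hS := S.isPGroup'
  by_cases hbot : ∀ t ∈ TT Om (S : Subgroup G), t ∈ CX Om x → t = 1
  swap
  · push Not at hbot
    obtain ⟨s, hs, hsx, hs1⟩ := hbot
    exact ⟨s, hs, hs1, x, ⟨hx, hsx⟩, hxy⟩
  have hxT : ∀ t ∈ TT Om (S : Subgroup G), t * x = x * t := by
    have h4 : TT Om (S : Subgroup G) ≤ centralizer ({x} : Set G) :=
      (closure_le _).2 fun u hu => mem_centralizer_singleton_iff.2 (hc u hu).symm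
    exact fun t ht => mem_centralizer_singleton_iff.1 (h4 ht)
  obtain ⟨p, hp, hsw⟩ := exists_swp_of_bot h l0 ant S hx hc hbot h1 h2 h3 n12 n13 n23
  have hpT := CS.mem_TT hp
  have hpp := (CS.inZ hp).z2 h
  obtain ⟨K, hK⟩ := hx
  -- faithful on `K`
  have hf : ∀ t ∈ TT Om (S : Subgroup G), As K t 1 → t = 1 := fun t ht h4 =>
    hbot t ht (mem_CX_of_swp h hK hsw (TT_comm h hS ht hpT) (As.one_iff.1 h4))
  obtain ⟨T0, hT0⟩ : ∃ T0, T0 = TT Om (S : Subgroup G) ⊓ normalizer (K : Set G) := ⟨_, rfl⟩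
  have hmem : ∀ t, t ∈ T0 ↔ t ∈ TT Om (S : Subgroup G) ∧ cj t K = K := by
    intro t
    rw [hT0, mem_inf, mem_normalizer_iff_cj]
  have hcard : Nat.card (TT Om (S : Subgroup G)) ≤ 2 * Nat.card T0 := by
    have hsurj : Function.Surjective (fun q : T0 × Bool => (⟨if q.2 then (q.1 : G) * p else q.1, by
        split_ifs
        · exact mul_mem ((hmem _).1 q.1.2).1 hpT
        · exact ((hmem _).1 q.1.2).1⟩ : TT Om (S : Subgroup G))) := by
      rintro ⟨t, ht⟩
      by_cases htK : cj t K = K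
      · exact ⟨(⟨t, (hmem t).2 ⟨ht, htK⟩⟩, false), rfl⟩
      · have h4 : cj (t * p) K = K := by
          have hL := hsw.mem h hK
          rcases cj_cases h hK hL (hsw.ne hK) (hxT t ht) with h5 | h5
          · exact absurd h5.1 htK
          · rw [cj_mul]; exact h5.2
        refine ⟨(⟨t * p, (hmem _).2 ⟨mul_mem ht hpT, h4⟩⟩, true), ?_⟩
        refine Subtype.ext ?_
        change t * p * p = t
        rw [mul_assoc, hpp, mul_one]
    have h4 := Nat.card_le_card_of_surjective _ hsurj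
    rw [Nat.card_prod, Nat.card_eq_fintype_card (α := Bool), Fintype.card_bool] at h4
    omega
  have h3' : 3 ≤ Nat.card T0 := by omega
  have hT0T : ∀ t ∈ T0, t ∈ TT Om (S : Subgroup G) := fun t ht => ((hmem t).1 ht).1
  have hT0K : ∀ t ∈ T0, cj t K = K := fun t ht => ((hmem t).1 ht).2
  by_cases htr : ∃ θ ∈ T0, ∃ a, Tr θ K a
  · obtain ⟨θ, hθ, a, ha⟩ := htr
    have haa := Tr.sq' ha hK
    obtain ⟨t, ht, ht1, htθ⟩ := exists_third h3' θ
    have hcm := TT_comm h hS (hT0T θ hθ) (hT0T t ht)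
    obtain ⟨t', ht', ht'1, hat'⟩ : ∃ t' ∈ TT Om (S : Subgroup G), t' ≠ 1 ∧ As K t' a := by
      rcases h.wr.inn_or_tr hK.1 (hT0K t ht) (TT_sq h hS (hT0T t ht)) with ⟨y, hy, h4⟩ | ⟨b, hb⟩
      · have h5 : As K t y := ⟨hy, h4⟩
        have h6 := h5.conj_comm hcm
        rw [hT0K θ hθ] at h6
        rcases Tr.cases ha hK h hy (hK.as_unique h h5 h6) with h7 | h7 | h7 | h7
        · rw [h7] at h5
          exact absurd (hf t (hT0T t ht) h5) ht1
        · rw [h7, ← mul_one x] at h5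
          exact absurd (hf t (hT0T t ht) (as_of_zmul h hK h5)) ht1
        · rw [h7] at h5
          exact ⟨t, hT0T t ht, ht1, h5⟩
        · rw [h7] at h5
          exact ⟨t, hT0T t ht, ht1, as_of_zmul h hK h5⟩
      · have h5 := Tr.same h hK (hT0K θ hθ) hcm hb ha
        rcases Tr.mul_cases h hK (hT0K θ hθ) (hT0K t ht) ha h5 with h6 | h6
        · exfalso
          have h7 := hf _ (mul_mem (hT0T θ hθ) (hT0T t ht)) h6
          have h8 := eq_inv_of_mul_eq_one_right h7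
          rw [inv_eq_of_mul_eq_one_right (TT_sq h hS (hT0T θ hθ))] at h8
          exact htθ h8
        · refine ⟨θ * t, mul_mem (hT0T θ hθ) (hT0T t ht), fun h7 => ?_, h6⟩
          have h8 := eq_inv_of_mul_eq_one_right h7
          rw [inv_eq_of_mul_eq_one_right (TT_sq h hS (hT0T θ hθ))] at h8
          exact htθ h8
    refine ⟨t', ht', ht'1, exists_of_NZ (g := x) ?_ hxy⟩
    have h9 := (LJ h (TT_le_NZ_of h S ht' (hT0T θ hθ)) (hxT θ (hT0T θ hθ)) (hK.le_RZ ha.mem) hat'.comm.symm).1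
    rwa [Tr.inv' ha hK h, mul_inv_cancel_right] at h9
  · push Not at htr
    have hin : ∀ t ∈ T0, t ≠ 1 → ∃ k, As K t k ∧ k * k = x := by
      intro t ht ht1
      rcases h.wr.inn_or_tr hK.1 (hT0K t ht) (TT_sq h hS (hT0T t ht)) with ⟨y, hy, h4⟩ | ⟨b, hb⟩
      · have h5 : As K t y := ⟨hy, h4⟩
        refine ⟨y, h5, ?_⟩
        rcases hK.sq_cases h hy with h7 | h7 | h7
        · rw [h7] at h5
          exact absurd (hf t (hT0T t ht) h5) ht1
        · rw [h7, ← mul_one x] at h5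
          exact absurd (hf t (hT0T t ht) (as_of_zmul h hK h5)) ht1
        · exact h7
      · exact absurd hb (htr t ht b)
    obtain ⟨t₁, ht₁, ht₁1, -⟩ := exists_third h3' 1
    obtain ⟨t₂, ht₂, ht₂1, ht₂₁⟩ := exists_third h3' t₁
    obtain ⟨k₁, hk₁, hkk₁⟩ := hin t₁ ht₁ ht₁1
    obtain ⟨k₂, hk₂, hkk₂⟩ := hin t₂ ht₂ ht₂1
    have hnc : k₁ * k₂ ≠ k₂ * k₁ := by
      intro h4
      have h5 : As K t₂ k₁ := by
        rcases hK.of_comm h hk₁.1 hkk₁ hk₂.1 h4 with h5 | h5 | h5 | h5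
        · rw [h5] at hk₂
          exact absurd (hf t₂ (hT0T t₂ ht₂) hk₂) ht₂1
        · rw [h5, ← mul_one x] at hk₂
          exact absurd (hf t₂ (hT0T t₂ ht₂) (as_of_zmul h hK hk₂)) ht₂1
        · rwa [h5] at hk₂
        · rw [h5] at hk₂
          exact as_of_zmul h hK hk₂
      have h6 := hk₁.inv.mul h5
      rw [inv_mul_cancel] at h6
      have h7 := hf _ (mul_mem (inv_mem (hT0T t₁ ht₁)) (hT0T t₂ ht₂)) h6
      exact ht₂₁ (inv_mul_eq_one.1 h7).symm
    have hk₃ := hk₁.mul hk₂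
    have hb : ∀ {t k : G}, t ∈ TT Om (S : Subgroup G) → As K t k → p * k * p⁻¹ * k⁻¹ ∈ NZ Om t := by
      intro t k ht hk
      exact (LJ h (TT_le_NZ_of h S ht hpT) (hxT p hpT) (hK.le_RZ hk.1) hk.comm.symm).1
    have b₁ := hb (hT0T t₁ ht₁) hk₁
    have b₂ := hb (hT0T t₂ ht₂) hk₂
    have b₃ := hb (mul_mem (hT0T t₁ ht₁) (hT0T t₂ ht₂)) hk₃
    have ht₃1 : t₁ * t₂ ≠ 1 := by
      intro h4
      have h5 := eq_inv_of_mul_eq_one_right h4
      rw [inv_eq_of_mul_eq_one_right (TT_sq h hS (hT0T t₁ ht₁))] at h5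
      exact ht₂₁ h5
    have hxe : x = (p * (k₁ * k₂) * p⁻¹ * (k₁ * k₂)⁻¹)⁻¹ * ((p * k₁ * p⁻¹ * k₁⁻¹) * (p * k₂ * p⁻¹ * k₂⁻¹)) := by
      have c1 := hsw.cm h hK (inv_mem hk₁.1) hk₂.1
      have c2 : k₂ * k₁ * k₂⁻¹ = x * k₁ := hK.anti h hk₁.1 hkk₁ hk₂.1 hkk₂ hnc
      have c3 : k₁ * k₂ * k₁⁻¹ * k₂⁻¹ = x := by
        have h4 : k₁ * k₂ * k₁⁻¹ = x * k₂ := hK.anti h hk₂.1 hkk₂ hk₁.1 hkk₁ (Ne.symm hnc)
        rw [h4, mul_inv_cancel_right]
      calc x = k₁ * k₂ * k₁⁻¹ * k₂⁻¹ := c3.symm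
        _ = (p * (k₁ * k₂) * p⁻¹ * (k₁ * k₂)⁻¹)⁻¹ * (p * k₁ * p⁻¹ * ((p * k₂ * p⁻¹) * k₁⁻¹) * k₂⁻¹) := by group
        _ = (p * (k₁ * k₂) * p⁻¹ * (k₁ * k₂)⁻¹)⁻¹ * (p * k₁ * p⁻¹ * (k₁⁻¹ * (p * k₂ * p⁻¹)) * k₂⁻¹) := by rw [c1]
        _ = _ := by group
    by_cases c₁ : (p * k₁ * p⁻¹ * k₁⁻¹) * y = y * (p * k₁ * p⁻¹ * k₁⁻¹)
    swap
    · exact ⟨t₁, hT0T t₁ ht₁, ht₁1, exists_of_NZ b₁ c₁⟩
    by_cases c₂ : (p * k₂ * p⁻¹ * k₂⁻¹) * y = y * (p * k₂ * p⁻¹ * k₂⁻¹)
    swap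
    · exact ⟨t₂, hT0T t₂ ht₂, ht₂1, exists_of_NZ b₂ c₂⟩
    refine ⟨t₁ * t₂, mul_mem (hT0T t₁ ht₁) (hT0T t₂ ht₂), ht₃1, exists_of_NZ b₃ fun c₃ => hxy ?_⟩
    have m1 := mem_centralizer_singleton_iff.2 c₁
    have m2 := mem_centralizer_singleton_iff.2 c₂
    have m3 := mem_centralizer_singleton_iff.2 c₃
    have m4 : x ∈ centralizer ({y} : Set G) := by
      rw [hxe]; exact mul_mem (inv_mem m3) (mul_mem m1 m2)
    exact mem_centralizer_singleton_iff.1 m4

end Fin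

end Cfsg.Agent.Cit.Nil.RTwoM
end

-- part: Cit/Nil/RTwoM/UCaseTwo
section
/-!
# S1309, (6b), (C3), `r = 2`, `m ≥ 4`, `LAMBDA0` : `(*_C)`

* `exists_conj_CS_ZS` : `x ∈ Z(s)`, `s ∈ T_S` : some `C(s)`-conjugate of `x` is in `C_S`;
* `exists_B` : `B = {k · k^n : k ∈ K}`, `n` a swap at `z`;
* `UC` : `x ∈ Z(s)`, `x' ∈ Z(s')` do not commute, `s, s' ∈ T_S#`, `|C_S| ≥ 4`; `UC.false`;
* **`starC_of_four`** : (AN), (AN*), `LAMBDA0`, (C3), `m ≥ 4` give `(*_C)`.
-/

set_option autoImplicit false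
set_option linter.style.haveILetI false
set_option linter.unusedSectionVars false

namespace Cfsg.Agent.Cit.Nil.RTwoM

open Subgroup Cfsg Cfsg.Agent.Cit

open RG (WR CP Ov InO Tr)
open RI (CS)

variable {G : Type*} [Group G] {Om : Set (Subgroup G)} {K L M : Subgroup G}
  {a b c d e g k l n n' r s s' t u v w x x' y z z₁ z₂ z₃ : G}

section Fin

variable [Finite G]

/-- `x ∈ Z(s)` : some `C(s)`-conjugate of `x` is in `C_S` -/
theorem exists_conj_CS_ZS (h : WM Om) (S : Sylow 2 G) (hs : s ∈ TT Om (S : Subgroup G)) (hx : x ∈ ZS Om s) :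
    ∃ g, g * s = s * g ∧ g * x * g⁻¹ ∈ CS Om (S : Subgroup G) := by
  haveI : Fact (Nat.Prime 2) := ⟨Nat.prime_two⟩
  have hS := S.isPGroup'
  have hP0 : IsPGroup 2 ((S : Subgroup G) ⊓ centralizer {s} : Subgroup G) := hS.to_le inf_le_left
  obtain ⟨Q, hQ, hPQ⟩ := LB.exists_syl_ge hP0 (inf_le_right : _ ≤ centralizer {s})
  obtain ⟨S₁, hS₁⟩ := exists_sylow h hx.1
  have hR : IsPGroup 2 (RZ Om x) := S₁.isPGroup'.to_le (CS.RZ_le hS₁ h)
  have hRs : RZ Om x ≤ centralizer {s} := RTwoM.RZ_le fun M hM => Mem.le_cent hM hx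
  obtain ⟨Q', hQ', hRQ'⟩ := LB.exists_syl_ge hR hRs
  obtain ⟨g, hg, hgQ⟩ := hQ'.exists_conj hQ
  have hgs := mem_centralizer_singleton_iff.1 hg
  obtain ⟨S', hS'⟩ := hQ.2.1.exists_le_sylow
  refine ⟨g, hgs, ?_⟩
  obtain ⟨M, hM⟩ := hx.1
  have hy : g * x * g⁻¹ ∈ CS Om (S' : Subgroup G) := by
    refine ⟨cj g M, hM.cj h g, le_trans ?_ hS'⟩
    rw [← hgQ]
    exact cj_mono g (hM.le_RZ.trans hRQ')
  have hsub : ∀ z ∈ CS Om (S : Subgroup G), z ∈ CS Om (S' : Subgroup G) := by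
    intro z hz
    obtain ⟨K, hK⟩ := CS.inZ hz
    refine ⟨K, hK, ((le_inf (CS.le hz h hK) ?_).trans hPQ).trans hS'⟩
    exact Mem.le_cent hK (CS_subset_ZS h hS hs hz)
  refine mem_CS_of_clique h S (hx.1.conj h g) fun z hz => ?_
  by_cases hne : z = g * x * g⁻¹
  · exact Or.inl hne
  · exact Or.inr (CS.cp (hsub z hz) h S'.isPGroup' hy hne)

/-- `B = {k · k^n : k ∈ K}` -/
theorem exists_B (h : WM Om) (hK : Mem Om z K) (hs : Swp Om z n) :
    ∃ B : Subgroup G, (∀ g ∈ B, ∃ k ∈ K, g = qq n k) ∧ 4 ≤ Nat.card B ∧ B ≤ RZ Om z ∧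
      ∀ g ∈ B, g ∈ CX Om z → g = 1 := by
  let f : K →* G := MonoidHom.mk' (fun k : K => qq n (k : G)) fun a b => qq_mul hs h hK a.2 b.2
  have hmem : ∀ g, g ∈ f.range → ∃ k ∈ K, g = qq n k := by
    rintro _ ⟨k, rfl⟩
    exact ⟨k, k.2, rfl⟩
  have hmem' : ∀ k ∈ K, qq n k ∈ f.range := fun k hk => ⟨⟨k, hk⟩, rfl⟩
  have hinj : ∀ k ∈ K, qq n k ∈ CX Om z → qq n k = 1 := by
    intro k hk hc
    rcases hK.as_center h (hs.as_qq h hK hk).1 (As.one_iff.2 (mem_CX.1 hc K hK)) with h1 | h1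
    · rw [h1, qq_one]
    · rw [h1, qq_z hs hK.inZ h]
  refine ⟨f.range, hmem, ?_, ?_, ?_⟩
  · obtain ⟨q, hq⟩ := h.exists_q3 hK
    have ha := hq.mem 0
    have haa := hq.sq 0
    obtain ⟨b, hb, hbb, hab⟩ := hK.exists_nc h ha haa
    have h1 : ∀ {k : G}, k ∈ K → k * k = z → qq n k ≠ 1 := by
      intro k hk hkk h1
      have h2 := (hs.as_qq h hK hk).1
      rw [h1] at h2
      exact hK.not_as_one h h2 hkk (As.self (one_mem _))
    refine four_le (hmem' _ ha) (hmem' _ hb) (h1 ha haa) (h1 hb hbb) ?_ (qq_sq hs h hK hb)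
    intro h2
    have h3 := (hs.as_qq h hK hb).1
    rw [h2] at h3
    rcases hK.as_unique h (hs.as_qq h hK ha).1 h3 with h4 | h4
    · exact hab (by rw [h4])
    · exact hab (by rw [h4, ← mul_assoc, ← hK.comm_z h ha, mul_assoc])
  · intro g hg
    obtain ⟨k, hk, rfl⟩ := hmem g hg
    exact qq_mem hs h hK hk
  · intro g hg hc
    obtain ⟨k, hk, rfl⟩ := hmem g hg
    exact hinj k hk hc

/-- **Case II** : `x ∈ Z(s)`, `x' ∈ Z(s')` do not commute, `s, s' ∈ T_S#` -/
structure UC (Om : Set (Subgroup G)) (S : Sylow 2 G) (s s' x x' : G) : Prop where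
  w : WM Om
  l0 : L0 Om
  ant : ANT Om
  ans : ANS Om
  c3 : C3E Om
  hs : s ∈ TT Om (S : Subgroup G)
  hs1 : s ≠ 1
  hs' : s' ∈ TT Om (S : Subgroup G)
  hs1' : s' ≠ 1
  hx : x ∈ ZS Om s
  hx' : x' ∈ ZS Om s'
  nc : x * x' ≠ x' * x
  four : 4 ≤ (CS Om (S : Subgroup G)).ncard

namespace UC

variable {S : Sylow 2 G}

theorem symm (c : UC Om S s s' x x') : UC Om S s' s x' x :=
  ⟨c.w, c.l0, c.ant, c.ans, c.c3, c.hs', c.hs1', c.hs, c.hs1, c.hx', c.hx, c.nc.symm, c.four⟩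

theorem an (c : UC Om S s s' x x') : ANt Om s := c.ant S s c.hs c.hs1

theorem pg (_ : UC Om S s s' x x') : IsPGroup 2 (S : Subgroup G) := S.isPGroup'

theorem cmN (c : UC Om S s s' x x') (hg : g ∈ NZ Om s) (hl : l ∈ NZ Om s) : g * l = l * g := NZ_comm c.w c.l0 c.an hg hl

theorem cmT (c : UC Om S s s' x x') (ht : t ∈ TT Om (S : Subgroup G)) : t * x = x * t :=
  c.cmN (TT_le_NZ_of c.w S c.hs ht) (mem_NZ c.hx)

theorem nmem (c : UC Om S s s' x x') : x ∉ CS Om (S : Subgroup G) := fun h1 => c.nc (c.symm.cmT (CS.mem_TT h1))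

theorem ne (c : UC Om S s s' x x') (hz : z ∈ CS Om (S : Subgroup G)) : z ≠ x := fun h1 => c.nmem (h1 ▸ hz)

/-- an element of `C_S` outside a set with at most 3 elements -/
theorem pick (c : UC Om S s s' x x') (A : Finset G) (hA : A.card ≤ 3) : ∃ z ∈ CS Om (S : Subgroup G), z ∉ A := by
  have h1 : (A : Set G).ncard < (CS Om (S : Subgroup G)).ncard := by
    rw [Set.ncard_coe_finset]; exact lt_of_le_of_lt hA c.four
  obtain ⟨z, hz, hzA⟩ := Set.exists_mem_notMem_of_ncard_lt_ncard h1 (Set.toFinite _)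
  exact ⟨z, hz, hzA⟩

/-- the types at `z` and at `x` -/
theorem types (c : UC Om S s s' x x') (hz : z ∈ CS Om (S : Subgroup G)) :
    CP Om z x ∨ TI Om z x ∨ (Swp Om z x ∧ Swp Om x z) := by
  have hzs := CS_subset_ZS c.w c.pg c.hs hz
  have nil := nilS_ZS' c.w c.l0 c.an
  rcases tri c.w hzs.1 c.hx.1 (c.ne hz) (c.cmT (CS.mem_TT hz)) with h1 | h1 | h1
  · exact Or.inl h1
  · exact Or.inr (Or.inl h1)
  · refine Or.inr (Or.inr ⟨?_, ?_⟩)
    · exact h1.1.cases.resolve_right (nil.not_ff c.w hzs (_root_.Subgroup.subset_closure c.hx))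
    · exact h1.2.cases.resolve_right (nil.not_ff c.w c.hx (_root_.Subgroup.subset_closure hzs))

/-- at most one element of `C_S` is C to `x` -/
theorem cp_unique (c : UC Om S s s' x x') (h1 : z₁ ∈ CS Om (S : Subgroup G)) (h2 : z₂ ∈ CS Om (S : Subgroup G))
    (n12 : z₁ ≠ z₂) (c1 : CP Om z₁ x) (c2 : CP Om z₂ x) : False := by
  classical
  obtain ⟨z₃, h3, n3⟩ := c.pick {z₁, z₂} (Finset.card_le_two.trans (by norm_num))
  obtain ⟨z₄, h4, n4⟩ := c.pick {z₁, z₂, z₃} Finset.card_le_three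
  simp only [Finset.mem_insert, Finset.mem_singleton, not_or] at n3 n4
  exact c.ans.at_most_one c.w c.l0 c.pg h1 h2 h3 h4 n12 (Ne.symm n3.1) (Ne.symm n4.1) (Ne.symm n3.2) (Ne.symm n4.2.1)
    (Ne.symm n4.2.2) c.hx'.1 c.hx.1 c.nc.symm (c.symm.cmT (CS.mem_TT h1)).symm (c.symm.cmT (CS.mem_TT h2)).symm c1 c2

/-- some element of `C_S` is a swap at `x` -/
theorem exists_swp_x (c : UC Om S s s' x x') : ∃ z ∈ CS Om (S : Subgroup G), Swp Om x z := by
  classical
  by_contra hcon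
  push Not at hcon
  have key : ∀ z ∈ CS Om (S : Subgroup G), CP Om z x ∨ TI Om x z := by
    intro z hz
    rcases c.types hz with h1 | h1 | h1
    · exact Or.inl h1
    · exact Or.inr (h1.symm c.w)
    · exact absurd h1.2 (hcon z hz)
  have hC : ∃ z₀ : G, ∀ z ∈ CS Om (S : Subgroup G), z ≠ z₀ → TI Om x z := by
    by_cases h1 : ∃ z₀ ∈ CS Om (S : Subgroup G), CP Om z₀ x
    · obtain ⟨z₀, hz₀, h1⟩ := h1
      exact ⟨z₀, fun z hz hne => (key z hz).resolve_left fun h2 => c.cp_unique hz hz₀ hne h2 h1⟩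
    · push Not at h1
      exact ⟨1, fun z hz _ => (key z hz).resolve_left (h1 z hz)⟩
  obtain ⟨z₀, hz₀⟩ := hC
  obtain ⟨z₁, h1, n1⟩ := c.pick {z₀} (by simp)
  obtain ⟨z₂, h2, n2⟩ := c.pick {z₀, z₁} (Finset.card_le_two.trans (by norm_num))
  obtain ⟨z₃, h3, n3⟩ := c.pick {z₀, z₁, z₂} Finset.card_le_three
  simp only [Finset.mem_insert, Finset.mem_singleton, not_or] at n1 n2 n3
  rcases link_three c.w c.pg h1 h2 h3 (Ne.symm n2.2) (hz₀ _ h1 n1) (hz₀ _ h2 n2.1) (hz₀ _ h3 n3.1) with h4 | h4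
  · exact n3.2.1 h4
  · exact n3.2.2 h4

/-- `z ∈ C_S` not C to `x` : `Z(s)` contains a swap at `z` -/
theorem exists_n (c : UC Om S s s' x x') (hz : z ∈ CS Om (S : Subgroup G)) (hnc : ¬ CP Om z x) :
    ∃ n ∈ ZS Om s, Swp Om z n := by
  have h := c.w
  rcases c.types hz with h1 | h1 | h1
  · exact absurd h1 hnc
  swap
  · exact ⟨x, c.hx, h1.1⟩
  obtain ⟨p, hp, hsw⟩ := c.exists_swp_x
  have hzs := CS_subset_ZS h c.pg c.hs hz
  obtain ⟨M, hM⟩ := c.hx.1
  obtain ⟨K, hK⟩ := hzs.1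
  obtain ⟨u, hu, -, hux, huz⟩ := h1.exists_mv h hM
  obtain ⟨v, hv, -, hvz, hvx⟩ := (h1.symm h).exists_mv h hK
  -- `u z u⁻¹ = z x`, `v x v⁻¹ = x z`
  have hus : u * s = s * u := ZS_RZ c.hx (hM.le_RZ hu)
  have hvs : v * s = s * v := ZS_RZ hzs (hK.le_RZ hv)
  have hgs : (u⁻¹ * v) * s = s * (u⁻¹ * v) := by
    have h2 : u⁻¹ * s = s * u⁻¹ := by
      rw [inv_mul_eq_iff_eq_mul, ← mul_assoc, hus, mul_inv_cancel_right]
    rw [mul_assoc, hvs, ← mul_assoc, h2, mul_assoc]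
  have hxx := c.hx.1.z2 h
  have h3 : (u⁻¹ * v) * x * (u⁻¹ * v)⁻¹ = z := by
    have h4 : (u⁻¹ * v) * x * (u⁻¹ * v)⁻¹ = u⁻¹ * (v * x * v⁻¹) * u := by group
    have h5 : u⁻¹ * (x * z) * u = z := by
      have h6 : x * z = u * z * u⁻¹ := by rw [huz, h1.comm]
      rw [h6]; group
    rw [h4, hvx, h5]
  refine ⟨(u⁻¹ * v) * p * (u⁻¹ * v)⁻¹, ZS_conj h (CS_subset_ZS h c.pg c.hs hp) hgs, ?_⟩
  have h4 := hsw.conj h (u⁻¹ * v)
  rwa [h3] at h4

/-- `k · k^n ∈ N_s` -/
theorem qq_NZ (c : UC Om S s s' x x') (hz : z ∈ CS Om (S : Subgroup G)) (hK : Mem Om z K) (hn : n ∈ ZS Om s)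
    (hsw : Swp Om z n) (hk : k ∈ K) : qq n k ∈ NZ Om s := by
  have h := c.w
  have hzs := CS_subset_ZS h c.pg c.hs hz
  have h1 := (LJ h (mem_NZ hn) hsw.1 (hK.le_RZ hk) (ZS_RZ hzs (hK.le_RZ hk))).1
  have h2 : qq n k = (n * k * n⁻¹ * k⁻¹) * (k * k) := by
    rw [qq, hsw.cm h hK hk hk]; group
  rw [h2]
  refine mul_mem h1 ?_
  rcases hK.sq_cases h hk with h3 | h3 | h3
  · rw [h3, mul_one]; exact one_mem _
  · rw [h3, hK.inZ.z2 h]; exact one_mem _
  · rw [h3]; exact mem_NZ hzs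

/-- `x'` centralises `k · k^n` -/
theorem qq_comm' (c : UC Om S s s' x x') (hz : z ∈ CS Om (S : Subgroup G)) (hK : Mem Om z K) (hn : n ∈ ZS Om s)
    (hsw : Swp Om z n) (hk : k ∈ K) : qq n k * x' = x' * qq n k := by
  have h := c.w
  have c' := c.symm
  by_cases hcp : CP Om z x'
  · exact cp_RZ h hcp (qq_mem hsw h hK hk) (z_mem_RZ c'.hx.1 h)
  · obtain ⟨n', hn', hsw'⟩ := c'.exists_n hz hcp
    refine c'.cmN ?_ (mem_NZ c'.hx)
    have h1 := c'.qq_NZ hz hK hn' hsw' hk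
    have hzs' := CS_subset_ZS h c.pg c.hs' hz
    rcases line h c.c3 S hz hK (NZ_le_oP h c.l0 c.ant S c.hs c.hs1 (mem_NZ hn)) hsw
      (NZ_le_oP h c.l0 c.ant S c.hs' c.hs1' (mem_NZ hn')) hsw' hk with h2 | h2
    · rw [qq, h2]; exact h1
    · have h3 : qq n k = z * qq n' k := by
        rw [qq, qq, h2, ← mul_assoc, hK.comm_z h hk, mul_assoc]
      rw [h3]
      exact mul_mem (mem_NZ hzs') h1

/-- the induction step -/
theorem grow (c : UC Om S s s' x x') (hz : z ∈ CS Om (S : Subgroup G)) (hnc : ¬ CP Om z x) {E : Subgroup G}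
    (hE : E ≤ NZ Om s) (hx' : ∀ g ∈ E, g * x' = x' * g) (hEz : E ≤ CX Om z) :
    ∃ F, E ≤ F ∧ F ≤ NZ Om s ∧ (∀ g ∈ F, g * x' = x' * g) ∧ 4 * Nat.card E ≤ Nat.card F ∧
      ∀ w ∈ CS Om (S : Subgroup G), w ≠ z → E ≤ CX Om w → F ≤ CX Om w := by
  have h := c.w
  obtain ⟨n, hn, hsw⟩ := c.exists_n hz hnc
  obtain ⟨K, hK⟩ := CS.inZ hz
  obtain ⟨B, hB, hB4, hBR, hB1⟩ := exists_B h hK hsw
  refine ⟨E ⊔ B, le_sup_left, sup_le hE ?_, ?_, ?_, ?_⟩
  · intro g hg
    obtain ⟨k, hk, rfl⟩ := hB g hg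
    exact c.qq_NZ hz hK hn hsw hk
  · have h1 : E ⊔ B ≤ centralizer {x'} := by
      refine sup_le (fun g hg => mem_centralizer_singleton_iff.2 (hx' g hg)) fun g hg => ?_
      obtain ⟨k, hk, rfl⟩ := hB g hg
      exact mem_centralizer_singleton_iff.2 (c.qq_comm' hz hK hn hsw hk)
    exact fun g hg => mem_centralizer_singleton_iff.1 (h1 hg)
  · have h1 : E ⊓ B = ⊥ := by
      rw [eq_bot_iff]
      intro g hg
      rw [mem_bot]
      exact hB1 g hg.2 (hEz hg.1)
    have h2 := mul_card_le h1 (le_sup_left : E ≤ E ⊔ B) le_sup_right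
    calc 4 * Nat.card E = Nat.card E * 4 := Nat.mul_comm _ _
      _ ≤ Nat.card E * Nat.card B := Nat.mul_le_mul_left _ hB4
      _ ≤ _ := h2
  · intro w hw hne hEw
    exact sup_le hEw (hBR.trans (RZ_le_CX h (CS.cp hz h c.pg hw hne.symm)))

theorem T8 (c : UC Om S s s' x x') : 8 ≤ Nat.card (TT Om (S : Subgroup G)) := by
  refine eight_of_five (fun a ha => TT_sq c.w c.pg ha) ?_
  have h1 : insert (1 : G) (CS Om (S : Subgroup G)) ⊆ (TT Om (S : Subgroup G) : Set G) := by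
    rintro t (rfl | ht)
    · exact one_mem _
    · exact CS.mem_TT ht
  have h2 := Set.ncard_le_ncard h1 (Set.toFinite _)
  rw [Set.ncard_insert_of_notMem (fun h3 => (CS.inZ h3).z1 c.w rfl) (Set.toFinite _)] at h2
  have h3 : (TT Om (S : Subgroup G) : Set G).ncard = Nat.card (TT Om (S : Subgroup G)) := rfl
  have := c.four
  omega

/-- **Case II is impossible for `m ≥ 4`** -/
theorem false (c : UC Om S s s' x x') : False := by
  classical
  have h := c.w
  have hT8 := c.T8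
  have hTN := TT_le_NZ_of h S c.hs
  have hTx : ∀ g ∈ TT Om (S : Subgroup G), g * x' = x' * g := fun g hg => c.symm.cmT hg
  have hTz : ∀ z ∈ CS Om (S : Subgroup G), TT Om (S : Subgroup G) ≤ CX Om z := fun z hz t ht => TT_cx h c.pg hz ht
  have hsq : ∀ {E : Subgroup G}, E ≤ NZ Om s → ∀ a ∈ E, a * a = 1 := fun hE a ha => NZ_sq h c.l0 c.an (hE ha)
  have hcx : ∀ {E : Subgroup G}, E ≤ NZ Om s → ∀ u ∈ ZS Om s, ∀ g ∈ E, g * u = u * g := fun hE u hu g hg =>
    c.cmN (hE hg) (mem_NZ hu)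
  by_cases hC : ∃ z ∈ CS Om (S : Subgroup G), CP Om z x
  · obtain ⟨z₁, h1, c1⟩ := hC
    have hn : ∀ z ∈ CS Om (S : Subgroup G), z ≠ z₁ → ¬ CP Om z x := fun z hz hne h2 => c.cp_unique hz h1 hne h2 c1
    obtain ⟨z₂, h2, n2⟩ := c.pick {z₁} (by simp)
    obtain ⟨z₃, h3, n3⟩ := c.pick {z₁, z₂} (Finset.card_le_two.trans (by norm_num))
    obtain ⟨z₄, h4, n4⟩ := c.pick {z₁, z₂, z₃} Finset.card_le_three
    simp only [Finset.mem_insert, Finset.mem_singleton, not_or] at n2 n3 n4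
    obtain ⟨F₂, -, N2, X2, C2, W2⟩ := c.grow h2 (hn _ h2 n2) hTN hTx (hTz _ h2)
    obtain ⟨F₃, -, N3, X3, C3, W3⟩ := c.grow h3 (hn _ h3 n3.1) N2 X2 (W2 _ h3 n3.2 (hTz _ h3))
    obtain ⟨F₄, -, N4, X4, C4, W4⟩ := c.grow h4 (hn _ h4 n4.1) N3 X3
      (W3 _ h4 n4.2.2 (W2 _ h4 n4.2.1 (hTz _ h4)))
    have hz1 : F₄ ≤ CX Om z₁ := W4 _ h1 (Ne.symm n4.1) (W3 _ h1 (Ne.symm n3.1) (W2 _ h1 (Ne.symm n2) (hTz _ h1)))
    have i16 := idx16 h c.hx.1 (hsq N4) (hcx N4 x c.hx)
    have i8 := c.ans.fb h c.l0 (CS.inZ h1) c.hx.1 c1 c.hx'.1 c.nc.symm (F := F₄ ⊓ CX Om x)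
      (fun a ha b hb => c.cmN (N4 ha.1) (N4 hb.1)) (fun a ha => hsq N4 a ha.1) (fun g hg => X4 g hg.1)
      (inf_le_left.trans hz1) inf_le_right
    omega
  · push Not at hC
    obtain ⟨z₁, h1, -⟩ := c.pick ∅ (by simp)
    obtain ⟨z₂, h2, n2⟩ := c.pick {z₁} (by simp)
    obtain ⟨z₃, h3, n3⟩ := c.pick {z₁, z₂} (Finset.card_le_two.trans (by norm_num))
    obtain ⟨z₄, h4, n4⟩ := c.pick {z₁, z₂, z₃} Finset.card_le_three
    simp only [Finset.mem_insert, Finset.mem_singleton, not_or] at n2 n3 n4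
    obtain ⟨F₁, L1, N1, X1, C1, W1⟩ := c.grow h1 (hC _ h1) hTN hTx (hTz _ h1)
    obtain ⟨F₂, L2, N2, X2, C2, W2⟩ := c.grow h2 (hC _ h2) N1 X1 (W1 _ h2 n2 (hTz _ h2))
    obtain ⟨F₃, L3, N3, X3, C3, W3⟩ := c.grow h3 (hC _ h3) N2 X2 (W2 _ h3 n3.2 (W1 _ h3 n3.1 (hTz _ h3)))
    obtain ⟨F₄, L4, N4, X4, C4, W4⟩ := c.grow h4 (hC _ h4) N3 X3
      (W3 _ h4 n4.2.2 (W2 _ h4 n4.2.1 (W1 _ h4 n4.1 (hTz _ h4))))
    -- `v ∈ Z(s)` C to `x`
    obtain ⟨g, hg, hgx⟩ := exists_conj_CS_ZS h S c.hs c.hx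
    obtain ⟨y', hy', ny⟩ := c.pick {g * x * g⁻¹} (by simp)
    rw [Finset.mem_singleton] at ny
    have hginv : g⁻¹ * s = s * g⁻¹ := by
      rw [inv_mul_eq_iff_eq_mul, ← mul_assoc, hg, mul_inv_cancel_right]
    have hv : g⁻¹ * y' * g⁻¹⁻¹ ∈ ZS Om s := ZS_conj h (CS_subset_ZS h c.pg c.hs hy') hginv
    have hvx : CP Om (g⁻¹ * y' * g⁻¹⁻¹) x := by
      have h5 := cp_conj h (CS.cp hy' h c.pg hgx ny) g⁻¹
      rwa [show g⁻¹ * (g * x * g⁻¹) * g⁻¹⁻¹ = x by group] at h5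
    obtain ⟨p, hp, hsw⟩ := c.exists_swp_x
    have hpF : p ∈ F₄ := L4 (L3 (L2 (L1 (CS.mem_TT hp))))
    have i8 := idx8 h c.hx.1 (hsq N4) (hcx N4 x c.hx) hpF hsw
    have N5 : F₄ ⊓ CX Om x ≤ NZ Om s := inf_le_left.trans N4
    have i16 := idx16 h hv.1 (hsq N5) (hcx N5 _ hv)
    have j8 := c.ans.fb h c.l0 hv.1 c.hx.1 hvx c.hx'.1 c.nc.symm
      (F := F₄ ⊓ CX Om x ⊓ CX Om (g⁻¹ * y' * g⁻¹⁻¹))
      (fun a ha b hb => c.cmN (N4 ha.1.1) (N4 hb.1.1)) (fun a ha => hsq N4 a ha.1.1) (fun g hg => X4 g hg.1.1)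
      inf_le_right (inf_le_left.trans inf_le_right)
    omega

end UC

/-- **`(*_C)` for `m ≥ 4`** -/
theorem starC_of_four (h : WM Om) (l0 : L0 Om) (ant : ANT Om) (ans : ANS Om) (c3 : C3E Om) (S : Sylow 2 G)
    (h4 : 4 ≤ (CS Om (S : Subgroup G)).ncard) : ∀ x y, InZ Om x → InZ Om y → NCS Om (S : Subgroup G) x →
    NCS Om (S : Subgroup G) y → x * y = y * x := by
  classical
  intro x y hx hy hxn hyn
  by_contra hxy
  have hS := S.isPGroup'
  have pick : ∀ A : Finset G, A.card ≤ 3 → ∃ z ∈ CS Om (S : Subgroup G), z ∉ A := by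
    intro A hA
    have h1 : (A : Set G).ncard < (CS Om (S : Subgroup G)).ncard := by
      rw [Set.ncard_coe_finset]; exact lt_of_le_of_lt hA h4
    obtain ⟨z, hz, hzA⟩ := Set.exists_mem_notMem_of_ncard_lt_ncard h1 (Set.toFinite _)
    exact ⟨z, hz, hzA⟩
  obtain ⟨z₁, h1, -⟩ := pick ∅ (by simp)
  obtain ⟨z₂, h2, n2⟩ := pick {z₁} (by simp)
  obtain ⟨z₃, h3, n3⟩ := pick {z₁, z₂} (Finset.card_le_two.trans (by norm_num))
  simp only [Finset.mem_insert, Finset.mem_singleton, not_or] at n2 n3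
  have hT8 : 8 ≤ Nat.card (TT Om (S : Subgroup G)) := by
    refine eight_of_five (fun a ha => TT_sq h hS ha) ?_
    have h1 : insert (1 : G) (CS Om (S : Subgroup G)) ⊆ (TT Om (S : Subgroup G) : Set G) := by
      rintro t (rfl | ht)
      · exact one_mem _
      · exact CS.mem_TT ht
    have h2 := Set.ncard_le_ncard h1 (Set.toFinite _)
    rw [Set.ncard_insert_of_notMem (fun h3 => (CS.inZ h3).z1 h rfl) (Set.toFinite _)] at h2
    have h3 : (TT Om (S : Subgroup G) : Set G).ncard = Nat.card (TT Om (S : Subgroup G)) := rfl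
    omega
  have cx : ∀ z ∈ CS Om (S : Subgroup G), x * z = z * x := fun z hz => comm_CS_of_NCS h l0 hS hx hxn hz
  have cy : ∀ z ∈ CS Om (S : Subgroup G), y * z = z * y := fun z hz => comm_CS_of_NCS h l0 hS hy hyn hz
  obtain ⟨s, hs, hs1, w, hw, hwy⟩ := red h l0 ant S hx cx h1 h2 h3 (Ne.symm n2) (Ne.symm n3.1) (Ne.symm n3.2) hT8 hxy
  obtain ⟨s', hs', hs1', w', hw', hww⟩ := red h l0 ant S hy cy h1 h2 h3 (Ne.symm n2) (Ne.symm n3.1) (Ne.symm n3.2) hT8
    (Ne.symm hwy)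
  exact UC.false (S := S) (s := s) (s' := s') (x := w) (x' := w')
    ⟨h, l0, ant, ans, c3, hs, hs1, hs', hs1', hw, hw', Ne.symm hww, h4⟩

/-- `(*_C)` for `m ≥ 4` -/
theorem StarC.of_four (h : WM Om) (l0 : L0 Om) (ant : ANT Om) (ans : ANS Om) (c3 : C3E Om)
    (h4 : ∀ S : Sylow 2 G, 4 ≤ (CS Om (S : Subgroup G)).ncard) : StarC Om := fun S =>
  starC_of_four h l0 ant ans c3 S (h4 S)

end Fin

end Cfsg.Agent.Cit.Nil.RTwoM
end

private theorem dce_a44f1d299dff : _root_.True := by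
  try have : _root_.True := by simp only [_root_.Cfsg.Agent.Cit.Nil.RTwoM.BW.eq_1]
  exact _root_.True.intro
end

-- part: Cit/Nil/RTwoM/U/UMain
section
prune_inst 0x1024045022000000180000800000000000000000000000200000000048000080400801002000000030044000000060014c0000420000000a000000000400000000000000000000000000000000000000000000000000000000000000000000000000000
set_option linter.all false
open scoped Cfsg.Agent.FastGrp

-- part: Cit/Nil/RTwoM/MThree/Chart
section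
/-!
# S1309, (6b), (C3), `r = 2`, `m = 3`, `|T| = 4`: the block `a₀(z)` with swap pairs has eight points

* `ChtG.self`, `ChtG.sy`, `ChtG.cm`, `ChtG.add'`, `ChtG.ne_one`;
* `W3.nilS`; `W3.disj` : disjoint four-sets are `v`, `z v`; `W3.ti2` : four-sets meeting in two points are of type I;
* **`W3.eight`** : a chart on eight points; `W3.h8'` : `H8'`.
-/

set_option autoImplicit false
set_option linter.style.haveILetI false
set_option linter.unusedSectionVars false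

namespace Cfsg.Agent.Cit.Nil.RTwoM.MThree

open Subgroup Cfsg Cfsg.Agent.Cit

open RTwo (Q3)
open RG (WR CP Ov InO Tr)
open RI (CS)
open Blk (Dst dl dl_self dl_ne)

variable {G : Type*} [Group G] {Om : Set (Subgroup G)} {K L M : Subgroup G} {D : Set G}
  {a b c d g g' n q r s t u v w x y y' z : G} {I : Type*} [DecidableEq I] {e : I → I → G} {i j k l m p : I}

section Fin

variable [Finite G]

/-! ### Charts -/

theorem cself (c : ChtG Om D e) (i : I) : e i i = 1 := left_eq_mul.1 (c.add i i i).symm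

theorem csq (c : ChtG Om D e) (nil : NilS Om D) (h : WM Om) (i j : I) : e i j * e i j = 1 := nil.cl_sq h (c.cl i j)

theorem ccm (c : ChtG Om D e) (nil : NilS Om D) (i j k l : I) : e i j * e k l = e k l * e i j :=
  nil.cl_comm (c.cl i j) (c.cl k l)

theorem csy (c : ChtG Om D e) (nil : NilS Om D) (h : WM Om) (i j : I) : e i j = e j i := by
  have h1 : e i j * e j i = 1 := by rw [c.add, cself c]
  exact mul_left_cancel ((csq c nil h i j).trans h1.symm)

theorem cadd' (c : ChtG Om D e) (nil : NilS Om D) (h : WM Om) (i j k : I) : e i j * e i k = e j k := by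
  rw [csy c nil h i j, c.add]

/-- `e i j e k l = e i k e j l` -/
theorem cq (c : ChtG Om D e) (nil : NilS Om D) (h : WM Om) (i j k l : I) : e i j * e k l = e i k * e j l := by
  rw [← c.add i k j, mul_assoc, cadd' c nil h k j l]

theorem not_swp_one (hz : InZ Om z) : ¬ Swp Om z 1 := by
  obtain ⟨K, hK⟩ := hz
  intro h1
  exact h1.2 K hK (cj_one K)

/-- the parity of a point -/
theorem par_in (hd : Dst i j k l) (hp : p = i ∨ p = j ∨ p = k ∨ p = l) : (dl i p + dl j p + dl k p + dl l p : ZMod 2) = 1 := by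
  rcases hp with rfl | rfl | rfl | rfl
  · rw [dl_self, dl_ne hd.ij.symm, dl_ne hd.ik.symm, dl_ne hd.il.symm]; decide
  · rw [dl_self, dl_ne hd.ij, dl_ne hd.jk.symm, dl_ne hd.jl.symm]; decide
  · rw [dl_self, dl_ne hd.ik, dl_ne hd.jk, dl_ne hd.kl.symm]; decide
  · rw [dl_self, dl_ne hd.il, dl_ne hd.jl, dl_ne hd.kl]; decide

theorem par_out (h1 : p ≠ i) (h2 : p ≠ j) (h3 : p ≠ k) (h4 : p ≠ l) : (dl i p + dl j p + dl k p + dl l p : ZMod 2) = 0 := by
  rw [dl_ne h1.symm, dl_ne h2.symm, dl_ne h3.symm, dl_ne h4.symm]; decide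

/-- `e p q ≠ 1` -/
theorem cne (c : ChtG Om D e) (nil : NilS Om D) (hd : Dst i k l m) (h1 : p ≠ i) (h2 : p ≠ k) (h3 : p ≠ l)
    (h4 : p ≠ m) : e i p ≠ 1 := by
  intro h0
  have h5 := (c.swp i k l m hd i p).2 (by rw [par_in hd (Or.inl rfl), par_out h1 h2 h3 h4]; decide)
  rw [h0] at h5
  exact not_swp_one (nil.inZ _ (c.mem i k l m hd)) h5

/-- two elements of order 4 of `K` commuting with `t` of type I -/
theorem eq_of_ti (h : WM Om) (hti : TI Om u t) (hK : Mem Om u K) (hy : y ∈ K) (hyy : y * y = u) (hy' : y' ∈ K)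
    (hyy' : y' * y' = u) (hc : t * y = y * t) (hc' : t * y' = y' * t) : y' = y ∨ y' = u * y := by
  obtain ⟨a, ha, haa⟩ := hti.exists_as h hK
  have key : ∀ y ∈ K, y * y = u → t * y = y * t → y = a ∨ y = u * a := by
    intro y hy hyy hc
    have h1 := ha.2 y hy
    rw [hc, mul_inv_cancel_right, eq_mul_inv_iff_mul_eq] at h1
    rcases hK.of_comm h ha.1 haa hy h1.symm with h2 | h2 | h2 | h2
    · rw [h2, one_mul] at hyy; exact absurd hyy.symm (hK.inZ.z1 h)
    · rw [h2, hK.inZ.z2 h] at hyy; exact absurd hyy.symm (hK.inZ.z1 h)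
    · exact Or.inl h2
    · exact Or.inr h2
  have uu := hK.inZ.z2 h
  rcases key y hy hyy hc with h1 | h1 <;> rcases key y' hy' hyy' hc' with h2 | h2
  · left; rw [h1, h2]
  · right; rw [h1, h2]
  · right; rw [h1, h2, ← mul_assoc, uu, one_mul]
  · left; rw [h1, h2]

namespace W3

variable (h : W3 Om)

include h

theorem nilS (hz : InZ Om z) : NilS Om (A0 Om z) where
  inZ := fun _ hb => hb.1
  comm := fun _ hb _ hc => h.comm hz hb hc
  nor := fun _ hb _ hy _ hc => h.conj_mem hc (cp_RZ h.w hb.2.symm hy (z_mem_RZ hz h.w))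

theorem z_nmem : z ∉ A0 Om z := fun h1 => h1.2.1 rfl

/-- **disjoint four-sets** -/
theorem disj (hz : InZ Om z) (c : ChtG Om (A0 Om z) e) (hd : Dst i j k l) {p q r s : I} (hd' : Dst p q r s)
    (hdis : ∀ m, (m = p ∨ m = q ∨ m = r ∨ m = s) → m ≠ i ∧ m ≠ j ∧ m ≠ k ∧ m ≠ l) :
    e p q * e r s = z * (e i j * e k l) := by
  have nil := h.nilS hz
  obtain ⟨u, hu⟩ : ∃ u, u = e i j * e k l := ⟨_, rfl⟩
  obtain ⟨t, ht⟩ : ∃ t, t = e p q * e r s := ⟨_, rfl⟩
  have huD : u ∈ A0 Om z := by rw [hu]; exact c.mem i j k l hd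
  have htD : t ∈ A0 Om z := by rw [ht]; exact c.mem p q r s hd'
  have dp := hdis p (Or.inl rfl)
  have dq := hdis q (Or.inr (Or.inl rfl))
  have dr := hdis r (Or.inr (Or.inr (Or.inl rfl)))
  have ds := hdis s (Or.inr (Or.inr (Or.inr rfl)))
  have hne : u ≠ t := by
    intro h1
    rw [hu, ht] at h1
    rcases c.inj _ _ _ _ _ _ _ _ hd hd' h1 with h2 | h2 | h2 | h2
    · exact dp.1 h2
    · exact dp.2.1 h2
    · exact dp.2.2.1 h2
    · exact dp.2.2.2 h2
  rw [← hu, ← ht]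
  rcases h.dich hz huD htD hne with h1 | h1 | ⟨h1, -⟩
  · exact h1
  · exfalso
    have u1 := huD.1.z1 h.w
    -- the fixed points
    have fix : ∀ {i' j' k' l' : I} {y : G}, (∀ m, (m = i' ∨ m = j' ∨ m = k' ∨ m = l') ↔ (m = i ∨ m = j ∨ m = k ∨ m = l)) →
        (∀ p q, y * e p q * y⁻¹ = e (Equiv.swap i' j' (Equiv.swap k' l' p)) (Equiv.swap i' j' (Equiv.swap k' l' q))) →
        t * y = y * t := by
      intro i' j' k' l' y hs hy
      have f : ∀ m, (m = p ∨ m = q ∨ m = r ∨ m = s) → Equiv.swap i' j' (Equiv.swap k' l' m) = m := by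
        intro m hm
        have h2 := hdis m hm
        have h3 : ¬ (m = i' ∨ m = j' ∨ m = k' ∨ m = l') := by
          rw [hs]
          rintro (h4 | h4 | h4 | h4)
          · exact h2.1 h4
          · exact h2.2.1 h4
          · exact h2.2.2.1 h4
          · exact h2.2.2.2 h4
        push Not at h3
        rw [Equiv.swap_apply_of_ne_of_ne h3.2.2.1 h3.2.2.2, Equiv.swap_apply_of_ne_of_ne h3.1 h3.2.1]
      have h2 := hy p q
      have h3 := hy r s
      rw [f p (Or.inl rfl), f q (Or.inr (Or.inl rfl)), mul_inv_eq_iff_eq_mul] at h2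
      rw [f r (Or.inr (Or.inr (Or.inl rfl))), f s (Or.inr (Or.inr (Or.inr rfl))), mul_inv_eq_iff_eq_mul] at h3
      rw [ht]
      calc e p q * e r s * y = e p q * (e r s * y) := by group
        _ = (e p q * y) * e r s := by rw [← h3]; group
        _ = _ := by rw [← h2]; group
    obtain ⟨K₁, hK₁, y₁, m1, s1, a1⟩ := c.act i j k l hd
    obtain ⟨K₂, hK₂, y₂, m2, s2, a2⟩ := c.act i k j l ⟨hd.ik, hd.ij, hd.il, hd.jk.symm, hd.kl, hd.jl⟩
    obtain ⟨K₃, hK₃, y₃, m3, s3, a3⟩ := c.act i l j k ⟨hd.il, hd.ij, hd.ik, hd.jl.symm, hd.kl.symm, hd.jk⟩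
    have q2 : e i k * e j l = u := by rw [hu, cq c nil h.w]
    have q3 : e i l * e j k = u := by rw [hu, csy c nil h.w k l, cq c nil h.w i j l k]
    rw [← hu] at hK₁ s1
    rw [q2] at hK₂ s2
    rw [q3] at hK₃ s3
    have c1 : t * y₁ = y₁ * t := fix (fun m => Iff.rfl) a1
    have c2 : t * y₂ = y₂ * t := fix (fun m => by (clear * -; tauto)) a2
    have c3 : t * y₃ = y₃ * t := fix (fun m => by (clear * -; tauto)) a3
    -- equal actions
    have cu : ∀ p q, u * e p q = e p q * u := fun p q => by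
      rw [hu]
      exact nil.cl_comm (Subgroup.mul_mem _ (c.cl _ _) (c.cl _ _)) (c.cl _ _)
    have act : ∀ {y y' : G}, (y' = y ∨ y' = u * y) → y * u = u * y → ∀ p q, y' * e p q * y'⁻¹ = y * e p q * y⁻¹ := by
      rintro y y' (rfl | rfl) hyu p q
      · rfl
      · rw [← hyu]
        calc y * u * e p q * (y * u)⁻¹ = y * (u * e p q) * u⁻¹ * y⁻¹ := by group
          _ = y * (e p q * u) * u⁻¹ * y⁻¹ := by rw [cu]
          _ = _ := by group
    have two : K₁ = K₂ ∨ K₁ = K₃ ∨ K₂ = K₃ := by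
      by_cases h2 : K₁ = K₂
      · exact Or.inl h2
      · rcases hK₁.cases hK₂ h.w h2 hK₃ with h3 | h3
        · exact Or.inr (Or.inl h3.symm)
        · exact Or.inr (Or.inr h3.symm)
    rcases two with h2 | h2 | h2
    · subst h2
      have h3 := act (eq_of_ti h.w h1 hK₁ m1 s1 m2 s2 c1 c2) (hK₁.comm_z h.w m1) i k
      rw [a1, a2, Equiv.swap_apply_of_ne_of_ne hd.ij hd.il, Equiv.swap_apply_left,
        Equiv.swap_apply_of_ne_of_ne hd.jk.symm hd.kl, Equiv.swap_apply_right,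
        Equiv.swap_apply_of_ne_of_ne hd.ik hd.il, Equiv.swap_apply_left, Equiv.swap_apply_left,
        Equiv.swap_apply_of_ne_of_ne hd.il.symm hd.jl.symm] at h3
      -- `e k i = e j l`
      rw [← h3, csy c nil h.w k i, csq c nil h.w] at q2
      exact u1 q2.symm
    · subst h2
      have h3 := act (eq_of_ti h.w h1 hK₁ m1 s1 m3 s3 c1 c3) (hK₁.comm_z h.w m1) i l
      rw [a1, a3, Equiv.swap_apply_of_ne_of_ne hd.ij hd.ik, Equiv.swap_apply_left,
        Equiv.swap_apply_of_ne_of_ne hd.jl.symm hd.kl.symm, Equiv.swap_apply_right,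
        Equiv.swap_apply_of_ne_of_ne hd.ik hd.il, Equiv.swap_apply_left, Equiv.swap_apply_right,
        Equiv.swap_apply_of_ne_of_ne hd.ik.symm hd.jk.symm] at h3
      rw [← h3, csy c nil h.w l i, csq c nil h.w] at q3
      exact u1 q3.symm
    · subst h2
      have h3 := act (eq_of_ti h.w h1 hK₂ m2 s2 m3 s3 c2 c3) (hK₂.comm_z h.w m2) i l
      rw [a2, a3, Equiv.swap_apply_of_ne_of_ne hd.ij hd.ik, Equiv.swap_apply_left,
        Equiv.swap_apply_of_ne_of_ne hd.jl.symm hd.kl.symm, Equiv.swap_apply_right,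
        Equiv.swap_apply_of_ne_of_ne hd.ij hd.il, Equiv.swap_apply_left, Equiv.swap_apply_right,
        Equiv.swap_apply_of_ne_of_ne hd.ij.symm hd.jk] at h3
      rw [csy c nil h.w k j] at h3
      rw [← h3, csy c nil h.w l i, csq c nil h.w] at q3
      exact u1 q3.symm
  · exfalso
    have h2 : ¬ Swp Om u t := by
      have n1 : ¬ Swp Om u (e p q) := by
        rw [hu, c.swp i j k l hd, par_out dp.1 dp.2.1 dp.2.2.1 dp.2.2.2, par_out dq.1 dq.2.1 dq.2.2.1 dq.2.2.2]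
        decide
      have n2 : ¬ Swp Om u (e r s) := by
        rw [hu, c.swp i j k l hd, par_out dr.1 dr.2.1 dr.2.2.1 dr.2.2.2, par_out ds.1 ds.2.1 ds.2.2.1 ds.2.2.2]
        decide
      rw [ht, swp_mul h.w huD.1 (nil.comm_cl huD (c.cl p q)) (nil.comm_cl huD (c.cl r s))]
      exact ⟨fun h3 => absurd h3 n1, fun h3 => absurd h3 n2⟩
    exact h2 h1

/-- **four-sets meeting in two points** -/
theorem ti2 (hz : InZ Om z) (c : ChtG Om (A0 Om z) e) (hd : Dst i j k l) (hd' : Dst i j m p) (hd'' : Dst k l m p) :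
    TI Om (e i j * e k l) (e i j * e m p) := by
  have nil := h.nilS hz
  obtain ⟨u, hu⟩ : ∃ u, u = e i j * e k l := ⟨_, rfl⟩
  obtain ⟨t, ht⟩ : ∃ t, t = e i j * e m p := ⟨_, rfl⟩
  have huD : u ∈ A0 Om z := by rw [hu]; exact c.mem i j k l hd
  have htD : t ∈ A0 Om z := by rw [ht]; exact c.mem i j m p hd'
  have hut : u * t = e k l * e m p := by
    rw [hu, ht, ccm c nil i j k l, mul_assoc, ← mul_assoc (e i j), csq c nil h.w, one_mul]
  have hutD : u * t ∈ A0 Om z := by rw [hut]; exact c.mem k l m p hd''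
  have hne : u ≠ t := by
    intro h1
    rw [← h1, huD.1.z2 h.w] at hutD
    exact hutD.1.z1 h.w rfl
  rw [← hu, ← ht]
  rcases h.dich hz huD htD hne with h1 | h1 | ⟨h1, -⟩
  · exfalso
    rw [h1, h.comm_z hz huD, ← mul_assoc, huD.1.z2 h.w, one_mul] at hutD
    exact h.z_nmem hutD
  · exact h1
  · exfalso
    have h2 : ¬ Swp Om u t := by
      have n1 : ¬ Swp Om u (e i j) := by
        rw [hu, c.swp i j k l hd, par_in hd (Or.inl rfl), par_in hd (Or.inr (Or.inl rfl))]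
        decide
      have n2 : ¬ Swp Om u (e m p) := by
        rw [hu, c.swp i j k l hd, par_out hd'.ik.symm hd'.jk.symm hd''.ik.symm hd''.jk.symm,
          par_out hd'.il.symm hd'.jl.symm hd''.il.symm hd''.jl.symm]
        decide
      rw [ht, swp_mul h.w huD.1 (nil.comm_cl huD (c.cl i j)) (nil.comm_cl huD (c.cl m p))]
      exact ⟨fun h3 => absurd h3 n1, fun h3 => absurd h3 n2⟩
    exact h2 h1

/-- `a₀(z)` is linked -/
theorem ing (hz : InZ Om z) {n : ℕ} (hn : 5 ≤ n) {e : Fin n → Fin n → G} (c : ChtG Om (A0 Om z) e)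
    (hall : ∀ v ∈ A0 Om z, InG e v ∨ ((∀ i j, ¬ Swp Om v (e i j)) ∧ ∀ i j k l, Dst i j k l → CP Om v (e i j * e k l)))
    (hv : v ∈ A0 Om z) : InG e v := by
  refine (hall v hv).resolve_right fun h1 => ?_
  obtain ⟨-, h1⟩ := h1
  have nil := h.nilS hz
  have hlt : ∀ m, m < 5 → m < n := fun m hm => by omega
  obtain ⟨p, hp⟩ : ∃ p : Fin 5 → Fin n, Function.Injective p := by
    refine ⟨fun m => ⟨m, hlt _ m.2⟩, fun a b hab => ?_⟩
    exact Fin.ext (Fin.mk.inj_iff.1 hab)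
  have hd1 : Dst (p 0) (p 1) (p 2) (p 3) := by
    constructor <;> exact fun h2 => absurd (hp h2) (by decide)
  have hd2 : Dst (p 4) (p 1) (p 2) (p 3) := by
    constructor <;> exact fun h2 => absurd (hp h2) (by decide)
  have m1 := c.mem _ _ _ _ hd1
  have m2 := c.mem _ _ _ _ hd2
  have e1 := h.third z v _ hz hv.1 m1.1 hv.2 m1.2 (h1 _ _ _ _ hd1)
  have e2 := h.third z v _ hz hv.1 m2.1 hv.2 m2.2 (h1 _ _ _ _ hd2)
  rcases c.inj _ _ _ _ _ _ _ _ hd1 hd2 (e1.trans e2.symm) with h2 | h2 | h2 | h2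
  · exact absurd (hp h2) (by decide)
  · exact absurd (hp h2) (by decide)
  · exact absurd (hp h2) (by decide)
  · exact absurd (hp h2) (by decide)

end W3

end Fin

/-- `v` is the four-set `i j k l` -/
def Rp {I : Type*} (e : I → I → G) (v : G) (i j k l : I) : Prop := Dst i j k l ∧ v = e i j * e k l

section Fin

variable [Finite G]

theorem Rp.s1 (c : ChtG Om D e) (nil : NilS Om D) (h : WM Om) (r : Rp e v i j k l) : Rp e v j i k l :=
  ⟨⟨r.1.ij.symm, r.1.jk, r.1.jl, r.1.ik, r.1.il, r.1.kl⟩, by rw [r.2, csy c nil h i j]⟩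

theorem Rp.s2 (c : ChtG Om D e) (nil : NilS Om D) (h : WM Om) (r : Rp e v i j k l) : Rp e v i k j l :=
  ⟨⟨r.1.ik, r.1.ij, r.1.il, r.1.jk.symm, r.1.kl, r.1.jl⟩, by rw [r.2, cq c nil h]⟩

theorem Rp.s3 (c : ChtG Om D e) (nil : NilS Om D) (r : Rp e v i j k l) : Rp e v k l i j :=
  ⟨⟨r.1.kl, r.1.ik.symm, r.1.jk.symm, r.1.il.symm, r.1.jl.symm, r.1.ij⟩, by rw [r.2, ccm c nil]⟩

namespace W3

variable (h : W3 Om)

include h

theorem key1 (hz : InZ Om z) (c : ChtG Om (A0 Om z) e) (hu : u ∈ A0 Om z) {k' l' : I} (r : Rp e u i j k l)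
    (r' : Rp e (z * u) i j k' l') : False := by
  have nil := h.nilS hz
  have hz1 : z = e k l * e k' l' := by
    have h1 : z = u * (z * u) := by rw [h.comm_z hz hu, ← mul_assoc, hu.1.z2 h.w, one_mul]
    rw [h1, r'.2, r.2, ccm c nil i j k l, mul_assoc, ← mul_assoc (e i j), csq c nil h.w, one_mul]
  have ns : ¬ Swp Om u z := fun h1 => sw_ncp h1 h.w hu.1 hz hu.2.symm
  have z1 := hz.z1 h.w
  have sw : ∀ p q, (p = k ∨ p = l) → q ≠ i → q ≠ j → q ≠ k → q ≠ l → z ≠ e p q := by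
    intro p q hp h1 h2 h3 h4 h5
    apply ns
    rw [h5, r.2, c.swp i j k l r.1, par_in r.1 (by (clear * - hp; tauto)), par_out h1 h2 h3 h4]
    decide
  by_cases a1 : k' = k
  · rw [a1, cadd' c nil h.w] at hz1
    by_cases a2 : l' = l
    · rw [a2, cself c] at hz1; exact z1 hz1
    · exact sw l l' (Or.inr rfl) r'.1.il.symm r'.1.jl.symm (fun h1 => r'.1.kl (by rw [a1, h1])) a2 hz1
  by_cases a2 : k' = l
  · rw [a2, c.add] at hz1
    by_cases a3 : l' = k
    · rw [a3, cself c] at hz1; exact z1 hz1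
    · exact sw k l' (Or.inl rfl) r'.1.il.symm r'.1.jl.symm a3 (fun h1 => r'.1.kl (by rw [a2, h1])) hz1
  by_cases a3 : l' = k
  · rw [a3, csy c nil h.w k' k, cadd' c nil h.w] at hz1
    exact sw l k' (Or.inr rfl) r'.1.ik.symm r'.1.jk.symm a1 a2 hz1
  by_cases a4 : l' = l
  · rw [a4, csy c nil h.w k' l, c.add] at hz1
    exact sw k k' (Or.inl rfl) r'.1.ik.symm r'.1.jk.symm a1 a2 hz1
  have h1 := c.mem k l k' l' ⟨r.1.kl, Ne.symm a1, Ne.symm a3, Ne.symm a2, Ne.symm a4, r'.1.kl⟩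
  rw [← hz1] at h1
  exact h.z_nmem h1

theorem key2 (hz : InZ Om z) (c : ChtG Om (A0 Om z) e) (hu : u ∈ A0 Om z) {j' k' l' : I} (r : Rp e u i j k l)
    (r' : Rp e (z * u) i j' k' l') : False := by
  have nil := h.nilS hz
  have key : ∀ {j' k' l' : I}, Rp e (z * u) i j' k' l' → j' ≠ j ∧ j' ≠ k ∧ j' ≠ l := by
    intro j' k' l' r'
    refine ⟨?_, ?_, ?_⟩
    · rintro rfl; exact h.key1 hz c hu r r'
    · rintro rfl; exact h.key1 hz c hu (r.s2 c nil h.w) r'
    · rintro rfl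
      exact h.key1 hz c hu ((((r.s3 c nil).s1 c nil h.w).s2 c nil h.w).s1 c nil h.w) r'
  have k1 := key r'
  have k2 := key (r'.s2 c nil h.w)
  have k3 := key ((((r'.s3 c nil).s1 c nil h.w).s2 c nil h.w).s1 c nil h.w)
  have hzu := h.mul_mem hz hu
  have s1 : Swp Om u (e i j') := by
    rw [r.2, c.swp i j k l r.1, par_in r.1 (Or.inl rfl), par_out r'.1.ij.symm k1.1 k1.2.1 k1.2.2]
    decide
  have s2 : ¬ Swp Om u (e k' l') := by
    rw [r.2, c.swp i j k l r.1, par_out r'.1.ik.symm k2.1 k2.2.1 k2.2.2, par_out r'.1.il.symm k3.1 k3.2.1 k3.2.2]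
    decide
  have h1 := swp_mul h.w hu.1 (nil.comm_cl hu (c.cl i j')) (nil.comm_cl hu (c.cl k' l'))
  rw [← r'.2] at h1
  have h2 : Swp Om u (z * u) := by
    by_contra h2
    exact s2 ((h1.1 h2).1 s1)
  exact sw_ncp h2 h.w hu.1 hzu.1 (h.mul_mem' hz hu).2

/-- **eight points** -/
theorem eight (hz : InZ Om z) (hp : Pat1 Om (A0 Om z)) (hu : u ∈ A0 Om z) (hv : v ∈ A0 Om z) (hs : Swp Om u v) :
    ∃ e : Fin 8 → Fin 8 → G, ChtG Om (A0 Om z) e ∧ ∀ v ∈ A0 Om z, InG e v := by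
  have nil := h.nilS hz
  obtain ⟨n, hn, e, c, ⟨i, j, k, l, hd, hue⟩, hall⟩ := nil.exists_block h.w hp hu ⟨v, hv, hs⟩
  have hin : ∀ v ∈ A0 Om z, InG e v := fun v hv => h.ing hz hn c hall hv
  obtain ⟨i', j', k', l', hd', hze⟩ := hin _ (h.mul_mem hz hu)
  have r : Rp e u i j k l := ⟨hd, hue⟩
  have r' : Rp e (z * u) i' j' k' l' := ⟨hd', hze⟩
  -- the two four-sets are disjoint
  have key : ∀ {i j k l i' j' k' l' : Fin n}, Rp e u i j k l → Rp e (z * u) i' j' k' l' → i ≠ i' := by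
    rintro i j k l i' j' k' l' r r' rfl
    exact h.key2 hz c hu r r'
  have hdis : ∀ m m', (m = i ∨ m = j ∨ m = k ∨ m = l) → (m' = i' ∨ m' = j' ∨ m' = k' ∨ m' = l') → m ≠ m' := by
    have key' : ∀ {i j k l i' j' k' l' : Fin n}, Rp e u i j k l → Rp e (z * u) i' j' k' l' →
        i ≠ i' ∧ i ≠ j' ∧ i ≠ k' ∧ i ≠ l' := fun r r' =>
      ⟨key r r', key r (r'.s1 c nil h.w), key r (r'.s3 c nil), key r ((r'.s3 c nil).s1 c nil h.w)⟩
    have a1 := key' r r'
    have a2 := key' (r.s1 c nil h.w) r'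
    have a3 := key' (r.s3 c nil) r'
    have a4 := key' ((r.s3 c nil).s1 c nil h.w) r'
    rintro m m' (rfl | rfl | rfl | rfl) (rfl | rfl | rfl | rfl)
    exacts [a1.1, a1.2.1, a1.2.2.1, a1.2.2.2, a2.1, a2.2.1, a2.2.2.1, a2.2.2.2, a3.1, a3.2.1, a3.2.2.1, a3.2.2.2,
      a4.1, a4.2.1, a4.2.2.1, a4.2.2.2]
  -- every point is one of the eight
  have hcov : ∀ m, m = i ∨ m = j ∨ m = k ∨ m = l ∨ m = i' ∨ m = j' ∨ m = k' ∨ m = l' := by
    intro m
    by_contra hm
    push Not at hm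
    obtain ⟨b1, b2, b3, b4, b5, b6, b7, b8⟩ := hm
    have hd'' : Dst m i' j' k' := ⟨b5, b6, b7, hd'.ij, hd'.ik, hd'.jk⟩
    have h1 := h.disj hz c hd hd'' (by
      rintro p (rfl | rfl | rfl | rfl)
      · exact ⟨b1, b2, b3, b4⟩
      · exact ⟨(hdis i p (Or.inl rfl) (Or.inl rfl)).symm, (hdis j p (by (clear * - n i j k l; tauto)) (Or.inl rfl)).symm,
          (hdis k p (by (clear * -; tauto)) (Or.inl rfl)).symm, (hdis l p (by (clear * -; tauto)) (Or.inl rfl)).symm⟩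
      · exact ⟨(hdis i p (Or.inl rfl) (by (clear * - n i' k' l' p; tauto))).symm, (hdis j p (by (clear * - n i j k l; tauto)) (by (clear * - n i' k' l' p; tauto))).symm,
          (hdis k p (by (clear * -; tauto)) (by (clear * - n i' k' l' p; tauto))).symm, (hdis l p (by (clear * -; tauto)) (by (clear * - n i' k' l' p; tauto))).symm⟩
      · exact ⟨(hdis i p (Or.inl rfl) (by (clear * -; tauto))).symm, (hdis j p (by (clear * - n i j k l; tauto)) (by (clear * -; tauto))).symm,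
          (hdis k p (by (clear * -; tauto)) (by (clear * -; tauto))).symm, (hdis l p (by (clear * -; tauto)) (by (clear * -; tauto))).symm⟩)
    rw [← hue, hze] at h1
    rcases c.inj _ _ _ _ _ _ _ _ hd' hd'' h1.symm with h2 | h2 | h2 | h2
    · exact b5 h2
    · exact b6 h2
    · exact b7 h2
    · exact b8 h2
  -- the bijection
  obtain ⟨f, hf⟩ : ∃ f : Fin 8 → Fin n, f = ![i, j, k, l, i', j', k', l'] := ⟨_, rfl⟩
  have f0 : f 0 = i := by rw [hf]; rfl
  have f1 : f 1 = j := by rw [hf]; rfl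
  have f2 : f 2 = k := by rw [hf]; rfl
  have f3 : f 3 = l := by rw [hf]; rfl
  have f4 : f 4 = i' := by rw [hf]; rfl
  have f5 : f 5 = j' := by rw [hf]; rfl
  have f6 : f 6 = k' := by rw [hf]; rfl
  have f7 : f 7 = l' := by rw [hf]; rfl
  have hsurj : Function.Surjective f := by
    intro m
    rcases hcov m with h1 | h1 | h1 | h1 | h1 | h1 | h1 | h1
    · exact ⟨0, by rw [f0, h1]⟩
    · exact ⟨1, by rw [f1, h1]⟩
    · exact ⟨2, by rw [f2, h1]⟩
    · exact ⟨3, by rw [f3, h1]⟩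
    · exact ⟨4, by rw [f4, h1]⟩
    · exact ⟨5, by rw [f5, h1]⟩
    · exact ⟨6, by rw [f6, h1]⟩
    · exact ⟨7, by rw [f7, h1]⟩
  have hle : n ≤ 8 := by
    have := Fintype.card_le_of_surjective f hsurj
    simpa only [_root_.ge_iff_le, _root_.Fintype.card_fin] using this
  have hge : 8 ≤ n := by
    have hnd : [i, j, k, l, i', j', k', l'].Nodup := by
      have d : ∀ m m', (m = i ∨ m = j ∨ m = k ∨ m = l) → (m' = i' ∨ m' = j' ∨ m' = k' ∨ m' = l') → m ≠ m' := hdis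
      simp only [List.nodup_cons, List.mem_cons, List.not_mem_nil, or_false, not_or, List.nodup_nil,
        not_false_eq_true, and_true]
      refine ⟨⟨hd.ij, hd.ik, hd.il, ?_, ?_, ?_, ?_⟩, ⟨hd.jk, hd.jl, ?_, ?_, ?_, ?_⟩, ⟨hd.kl, ?_, ?_, ?_, ?_⟩,
        ⟨?_, ?_, ?_, ?_⟩, ⟨hd'.ij, hd'.ik, hd'.il⟩, ⟨hd'.jk, hd'.jl⟩, hd'.kl⟩
      all_goals exact hdis _ _ (by (clear * - n i j k l; tauto)) (by (clear * - n i' j' k' l'; tauto))
    have h1 := hnd.length_le_card
    simpa only [_root_.ge_iff_le, _root_.List.length_cons, _root_.List.length_nil, _root_.zero_add, _root_.Nat.reduceAdd, _root_.Fintype.card_fin] using h1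
  have hn8 : n = 8 := le_antisymm hle hge
  subst hn8
  exact ⟨e, c, hin⟩

/-- `H8'` -/
theorem h8' (hp : ∀ z, InZ Om z → Pat1 Om (A0 Om z)) : H8' Om := by
  intro z u v hz hu hv hs
  obtain ⟨e, c, -⟩ := h.eight hz (hp z hz) hu hv hs
  have hd : Dst (0 : Fin 8) 1 2 3 := by constructor <;> decide
  have hd' : Dst (0 : Fin 8) 1 4 5 := by constructor <;> decide
  have hd'' : Dst (2 : Fin 8) 3 4 5 := by constructor <;> decide
  exact ⟨_, c.mem _ _ _ _ hd, _, c.mem _ _ _ _ hd', h.ti2 hz c hd hd' hd''⟩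

end W3

end Fin

end Cfsg.Agent.Cit.Nil.RTwoM.MThree
end

-- part: Cit/Nil/RTwoM/MThree/Eight
section
/-!
# S1309, (6b), (C3), `r = 2`, `m = 3`, `|T| = 4`: `H8`

`x ∈ Z ∩ C(z)` such that all moved `u ∈ a₀(z)` are swap pairs with `x u x⁻¹`; a chart on eight points.
`q(n) = β(n, n^x)` is additive, so it is given by `t : Fin 8 → F₂`, and the two-set `u + u^x` is a class of `t`.

* `comb` : four-sets meeting in an odd number of points; `W3.exists_t`; `W3.exists_pair`; **`W3.h8`** : `H8`.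
-/

set_option autoImplicit false
set_option linter.style.haveILetI false
set_option linter.unusedSectionVars false

namespace Cfsg.Agent.Cit.Nil.RTwoM.MThree

open Subgroup Cfsg Cfsg.Agent.Cit

open RTwo (Q3)
open RG (WR CP Ov InO Tr)
open RI (CS)
open Blk (Dst dl dl_self dl_ne)

variable {G : Type*} [Group G] {Om : Set (Subgroup G)} {K L M : Subgroup G} {D : Set G}
  {g g' n q r s u v w x y y' z : G} {I : Type*} [DecidableEq I] {e : I → I → G} {a b c d i j k l m p : I}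

/-- four-sets of an eight-set meeting in an odd number of points -/
theorem comb (A B : Finset (Fin 8)) (hA : A.card = 4) (hB : B.card = 4) (ho : Odd (A ∩ B).card) :
    ∃ p p', p ≠ p' ∧ ((∀ m, (m ∈ A ↔ ¬ m ∈ B) ↔ (m = p ∨ m = p')) ∨ ∀ m, (m ∈ A ↔ m ∈ B) ↔ (m = p ∨ m = p')) := by
  have h1 := Finset.card_union_add_card_inter A B
  have h2 : (A ∪ B).card ≤ 8 := by
    have := Finset.card_le_univ (A ∪ B)
    simpa using this
  have h3 : (A ∩ B).card ≤ 4 := by
    rw [← hA]; exact Finset.card_le_card Finset.inter_subset_left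
  have h4 : ((A ∪ B) \ (A ∩ B)).card + (A ∩ B).card = (A ∪ B).card :=
    Finset.card_sdiff_add_card_eq_card (Finset.inter_subset_left.trans Finset.subset_union_left)
  have h5 : ((A ∪ B) \ (A ∩ B)).card + ((A ∪ B) \ (A ∩ B))ᶜ.card = 8 := by
    rw [Finset.card_add_card_compl]; rfl
  obtain ⟨t, ht⟩ := ho
  have h6 : ((A ∪ B) \ (A ∩ B)).card = 2 ∨ ((A ∪ B) \ (A ∩ B))ᶜ.card = 2 := by omega
  rcases h6 with h6 | h6
  · obtain ⟨p, p', hne, h7⟩ := Finset.card_eq_two.1 h6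
    refine ⟨p, p', hne, Or.inl fun m => ?_⟩
    have h8 : m ∈ (A ∪ B) \ (A ∩ B) ↔ m ∈ ({p, p'} : Finset (Fin 8)) := by rw [h7]
    rw [Finset.mem_sdiff, Finset.mem_union, Finset.mem_inter, Finset.mem_insert, Finset.mem_singleton] at h8
    rw [← h8]
    (clear * -; tauto)
  · obtain ⟨p, p', hne, h7⟩ := Finset.card_eq_two.1 h6
    refine ⟨p, p', hne, Or.inr fun m => ?_⟩
    have h8 : m ∈ ((A ∪ B) \ (A ∩ B))ᶜ ↔ m ∈ ({p, p'} : Finset (Fin 8)) := by rw [h7]
    rw [Finset.mem_compl, Finset.mem_sdiff, Finset.mem_union, Finset.mem_inter, Finset.mem_insert,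
      Finset.mem_singleton] at h8
    rw [← h8]
    (clear * -; tauto)

/-- the four-set -/
def fs (i j k l : Fin 8) : Finset (Fin 8) := {i, j, k, l}

theorem mem_fs {i j k l m : Fin 8} : m ∈ fs i j k l ↔ m = i ∨ m = j ∨ m = k ∨ m = l := by
  simp [fs]

theorem card_fs {i j k l : Fin 8} (hd : Dst i j k l) : (fs i j k l).card = 4 := by
  rw [fs, Finset.card_insert_of_notMem, Finset.card_insert_of_notMem, Finset.card_insert_of_notMem,
    Finset.card_singleton]
  · simp [hd.kl]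
  · simp [hd.jk, hd.jl]
  · simp [hd.ij, hd.ik, hd.il]

/-- the indicator -/
def ind (A : Finset (Fin 8)) (m : Fin 8) : ZMod 2 := if m ∈ A then 1 else 0

theorem par_eq {i j k l : Fin 8} (hd : Dst i j k l) (m : Fin 8) :
    (dl i m + dl j m + dl k m + dl l m : ZMod 2) = ind (fs i j k l) m := by
  rw [ind]
  split_ifs with h1
  · exact par_in hd (mem_fs.1 h1)
  · rw [mem_fs] at h1
    push Not at h1
    exact par_out h1.1 h1.2.1 h1.2.2.1 h1.2.2.2

theorem sum_fs {i j k l : Fin 8} (hd : Dst i j k l) (φ : Fin 8 → ZMod 2) :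
    ∑ m ∈ fs i j k l, φ m = φ i + φ j + φ k + φ l := by
  rw [fs, Finset.sum_insert, Finset.sum_insert, Finset.sum_insert, Finset.sum_singleton]
  · ring
  · simp [hd.kl]
  · simp [hd.jk, hd.jl]
  · simp [hd.ij, hd.ik, hd.il]

theorem sum_ind (A B : Finset (Fin 8)) : ∑ m ∈ A, ind B m = ((A ∩ B).card : ZMod 2) := by
  rw [Finset.card_eq_sum_ones, Nat.cast_sum, ← Finset.filter_mem_eq_inter, Finset.sum_filter]
  exact Finset.sum_congr rfl fun m _ => by rw [ind, Nat.cast_one]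

section Fin

variable [Finite G]

/-- the parity of two four-sets -/
theorem swp_fs {e : Fin 8 → Fin 8 → G} (ch : ChtG Om D e) (nil : NilS Om D) (h : WM Om) {i j k l i' j' k' l' : Fin 8}
    (hd : Dst i j k l) (hd' : Dst i' j' k' l') :
    Swp Om (e i j * e k l) (e i' j' * e k' l') ↔ ((fs i' j' k' l' ∩ fs i j k l).card : ZMod 2) = 1 := by
  have hm := ch.mem _ _ _ _ hd
  have h1 := swp_mul h (nil.inZ _ hm) (nil.comm_cl hm (ch.cl i' j')) (nil.comm_cl hm (ch.cl k' l'))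
  rw [ch.swp _ _ _ _ hd, ch.swp _ _ _ _ hd, par_eq hd, par_eq hd, par_eq hd, par_eq hd] at h1
  rw [← sum_ind, sum_fs hd']
  have h2 : ¬ (ind (fs i j k l) i' + ind (fs i j k l) j' + ind (fs i j k l) k' + ind (fs i j k l) l' = 1) ↔
      (ind (fs i j k l) i' + ind (fs i j k l) j' = 1 ↔ ind (fs i j k l) k' + ind (fs i j k l) l' = 1) := by
    generalize ind (fs i j k l) i' = a, ind (fs i j k l) j' = b, ind (fs i j k l) k' = c, ind (fs i j k l) l' = d
    revert a b c d; decide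
  exact not_iff_not.1 (h1.trans h2.symm)

/-- `x` centralising `r`, `s` in `R_v` with `r`, `s`, `r s ∉ ⟨v⟩` is not of type `f` at `v` -/
theorem nff (h : WM Om) (hv : InZ Om v) (hx : InZ Om x) (hr : r ∈ RZ Om v) (hs : s ∈ RZ Om v) (hxr : x * r = r * x)
    (hxs : x * s = s * x) (r1 : r ≠ 1) (r2 : r ≠ v) (s1 : s ≠ 1) (s2 : s ≠ v) (t1 : r * s ≠ 1) (t2 : r * s ≠ v) :
    ¬ Ff Om v x := by
  intro hf
  obtain ⟨K, hK⟩ := hv
  obtain ⟨L, hL, hne, -⟩ := hK.other h
  obtain ⟨a, ha⟩ := hf.exists_tr h (hx.z2 h) hK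
  obtain ⟨b, hb⟩ := hf.exists_tr h (hx.z2 h) hL
  have vv := hK.inZ.z2 h
  have hab := hK.comm hL h hne ha.mem hb.mem
  have hva := hK.comm_z h ha.mem
  have hvb := hL.comm_z h hb.mem
  have e0 : (a * b) * (a * b) = 1 := by
    calc (a * b) * (a * b) = a * (b * a) * b := by group
      _ = (a * a) * (b * b) := by rw [← hab]; group
      _ = 1 := by rw [Tr.sq' ha hK, Tr.sq' hb hL, vv]
  have e1 : v * (a * b) = (a * b) * v := by
    calc v * (a * b) = (v * a) * b := by group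
      _ = a * (v * b) := by rw [← hva]; group
      _ = _ := by rw [← hvb]; group
  rcases Ff.fix hf h hK hL hne ha hb hr hxr with h1 | h1 | h1 | h1
  · exact r1 h1
  · exact r2 h1
  all_goals
    rcases Ff.fix hf h hK hL hne ha hb hs hxs with h2 | h2 | h2 | h2
    · exact s1 h2
    · exact s2 h2
    · first
        | exact t1 (by rw [h1, h2, e0])
        | exact t2 (by rw [h1, h2, mul_assoc, e0, mul_one])
    · first
        | exact t2 (by rw [h1, h2, ← mul_assoc, ← e1, mul_assoc, e0, mul_one])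
        | exact t1 (by
            rw [h1, h2]
            calc v * (a * b) * (v * (a * b)) = v * ((a * b) * v) * (a * b) := by group
              _ = v * (v * (a * b)) * (a * b) := by rw [e1]
              _ = (v * v) * ((a * b) * (a * b)) := by group
              _ = 1 := by rw [vv, e0, mul_one])

namespace W3

variable (h : W3 Om)

include h

/-- `q(n) = β(n, n^x)` -/
theorem exists_t {e : Fin 8 → Fin 8 → G} (hz : InZ Om z) (ch : ChtG Om (A0 Om z) e) (hx : InZ Om x)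
    (hc : x * z = z * x) (hall : ∀ u ∈ A0 Om z, x * u ≠ u * x → Swp Om u (x * u * x⁻¹)) :
    ∃ t : Fin 8 → ZMod 2, ∀ i j k l, Dst i j k l →
      (x * (e i j * e k l) = (e i j * e k l) * x ↔ t i + t j + t k + t l = 0) := by
  have nil := h.nilS hz
  obtain ⟨N, _, _, ι, E⟩ := nil.exists_emb
  obtain ⟨β, F⟩ := nil.exists_form h.w E
  have hy : ∀ c ∈ A0 Om z, x * c * x⁻¹ ∈ A0 Om z := fun c hcc => h.conj_mem hcc hc
  obtain ⟨σ, hσ⟩ := E.exists_conj hy
  have hxx := hx.z2 h.w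
  have σadd : ∀ n m, σ (n + m) = σ n + σ m := by
    intro n m
    apply E.inj
    rw [E.add, hσ, hσ, hσ, E.add]
    group
  have σσ : ∀ n, σ (σ n) = n := by
    intro n
    apply E.inj
    rw [hσ, hσ]
    calc x * (x * ι n * x⁻¹) * x⁻¹ = (x * x) * ι n * (x * x)⁻¹ := by group
      _ = ι n := by rw [hxx, one_mul, inv_one, mul_one]
  obtain ⟨q, hq⟩ : ∃ q : N → ZMod 2, ∀ n, q n = β n (σ n) := ⟨fun n => β n (σ n), fun _ => rfl⟩
  have qadd : ∀ n m, q (n + m) = q n + q m := by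
    intro n m
    have h1 : β n (σ m) = β m (σ n) := by
      rw [← F.conj nil h.w E hy hσ n (σ m), σσ, F.symm]
    rw [hq, hq, hq, σadd, F.addl, F.addr, F.addr, h1]
    generalize β n (σ n) = a, β m (σ n) = b, β m (σ m) = c
    revert a b c; decide
  have h1 : ∀ i j, ∃ n, ι n = e i j := fun i j => E.ex (ch.cl i j)
  choose ε hε using h1
  refine ⟨fun i => q (ε 0 i), fun i j k l hd => ?_⟩
  have hs : ∀ i j, q (ε i j) = q (ε 0 i) + q (ε 0 j) := by
    intro i j
    rw [← qadd]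
    congr 1
    apply E.inj
    rw [E.add, hε, hε, hε, cadd' ch nil h.w]
  have hm := ch.mem i j k l hd
  have h2 : ι (ε i j + ε k l) = e i j * e k l := by rw [E.add, hε, hε]
  have h3 : q (ε i j + ε k l) = q (ε 0 i) + q (ε 0 j) + q (ε 0 k) + q (ε 0 l) := by
    rw [qadd, hs i j, hs k l, ← add_assoc]
  show _ ↔ q (ε 0 i) + q (ε 0 j) + q (ε 0 k) + q (ε 0 l) = 0
  rw [← h3, hq]
  constructor
  · intro h4
    have h5 : σ (ε i j + ε k l) = ε i j + ε k l := by
      apply E.inj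
      rw [hσ, h2, h4, mul_inv_cancel_right]
    rw [h5, F.alt]
  · intro h4
    by_contra h5
    have h6 := hall _ hm h5
    rw [← h2, ← hσ] at h6
    rw [← h2] at hm
    rw [(F.swp hm).2 h6] at h4
    exact absurd h4 (by decide)

/-- the moved four-sets are those containing one of `p`, `p'` -/
theorem exists_pair {e : Fin 8 → Fin 8 → G} (hz : InZ Om z) (ch : ChtG Om (A0 Om z) e) (hx : InZ Om x)
    (hin : ∀ v ∈ A0 Om z, InG e v)
    (hc : x * z = z * x) (hu : u ∈ A0 Om z) (hm : x * u ≠ u * x)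
    (hall : ∀ u ∈ A0 Om z, x * u ≠ u * x → Swp Om u (x * u * x⁻¹)) :
    ∃ p p' : Fin 8, p ≠ p' ∧ ∃ t : Fin 8 → ZMod 2, (∀ i j k l, Dst i j k l →
      (x * (e i j * e k l) = (e i j * e k l) * x ↔ t i + t j + t k + t l = 0)) ∧
      ∃ τ, t p = τ + 1 ∧ ∀ m, m ≠ p → m ≠ p' → t m = τ := by
  have nil := h.nilS hz
  obtain ⟨t, ht⟩ := h.exists_t hz ch hx hc hall
  have hu' := h.conj_mem hu hc
  obtain ⟨i, j, k, l, hd, e1⟩ := hin _ hu
  obtain ⟨i', j', k', l', hd', e2⟩ := hin _ hu'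
  -- odd intersection
  have h1 := hall u hu hm
  rw [e2] at h1
  nth_rw 1 [e1] at h1
  rw [swp_fs ch nil h.w hd hd'] at h1
  have ho : Odd (fs i j k l ∩ fs i' j' k' l').card := by
    rw [Finset.inter_comm]
    have h2 := (ZMod.natCast_eq_one_iff_odd).1 h1
    exact h2
  obtain ⟨p, p', hne, h2⟩ := comb _ _ (card_fs hd) (card_fs hd') ho
  -- the fixed four-sets
  have hfix : ∀ a b c d, Dst a b c d → t a + t b + t c + t d = 0 →
      ind (fs i j k l) a + ind (fs i j k l) b + ind (fs i j k l) c + ind (fs i j k l) d =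
      ind (fs i' j' k' l') a + ind (fs i' j' k' l') b + ind (fs i' j' k' l') c + ind (fs i' j' k' l') d := by
    intro a b c d hab h3
    have h4 := (ht a b c d hab).2 h3
    have h5 : Swp Om (e a b * e c d) u ↔ Swp Om (e a b * e c d) (x * u * x⁻¹) := by
      have h6 : x * (e a b * e c d) * x⁻¹ = e a b * e c d := by rw [h4, mul_inv_cancel_right]
      constructor
      · intro h7
        have h8 := h7.conj h.w x
        rwa [h6] at h8
      · intro h7
        have h8 := h7.conj h.w x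
        rw [h6] at h8
        have hxx := hx.z2 h.w
        have h9 : x * (x * u * x⁻¹) * x⁻¹ = u := by
          calc x * (x * u * x⁻¹) * x⁻¹ = (x * x) * u * (x * x)⁻¹ := by group
            _ = u := by rw [hxx, one_mul, inv_one, mul_one]
        rwa [h9] at h8
    rw [e2] at h5
    nth_rw 1 [e1] at h5
    rw [swp_fs ch nil h.w hab hd, swp_fs ch nil h.w hab hd', Finset.inter_comm, ← sum_ind, sum_fs hab,
      Finset.inter_comm (fs i' j' k' l'), ← sum_ind, sum_fs hab] at h5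
    revert h5
    generalize ind (fs i j k l) a + ind (fs i j k l) b + ind (fs i j k l) c + ind (fs i j k l) d = P,
      ind (fs i' j' k' l') a + ind (fs i' j' k' l') b + ind (fs i' j' k' l') c + ind (fs i' j' k' l') d = Q
    revert P Q; decide
  -- `t m ≠ t p` outside
  have hout : ∀ r r', r ≠ r' → (∀ m, (m = r ∨ m = r') ↔ (m = p ∨ m = p')) → ∀ m, m ≠ p → m ≠ p' → t m ≠ t r := by
    intro r r' hrr hrp m hm1 hm2 h3
    have hmr : m ≠ r := by
      intro h4
      rcases (hrp m).1 (Or.inl h4) with h5 | h5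
      · exact hm1 h5
      · exact hm2 h5
    have hmr' : m ≠ r' := by
      intro h4
      rcases (hrp m).1 (Or.inr h4) with h5 | h5
      · exact hm1 h5
      · exact hm2 h5
    -- two points with the same value
    obtain ⟨a, ha, b, hb, hab, h4⟩ : ∃ a ∈ (Finset.univ \ {r, r', m} : Finset (Fin 8)),
        ∃ b ∈ (Finset.univ \ {r, r', m} : Finset (Fin 8)), a ≠ b ∧ t a = t b := by
      refine Finset.exists_ne_map_eq_of_card_lt_of_maps_to (t := Finset.univ) ?_ fun _ _ => Finset.mem_coe.2 (Finset.mem_univ _)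
      have h5 : ({r, r', m} : Finset (Fin 8)).card ≤ 3 := Finset.card_le_three
      have h6 := Finset.le_card_sdiff ({r, r', m} : Finset (Fin 8)) Finset.univ
      rw [Finset.card_univ, Fintype.card_fin] at h6
      rw [Finset.card_univ, ZMod.card]
      omega
    rw [Finset.mem_sdiff, Finset.mem_insert, Finset.mem_insert, Finset.mem_singleton] at ha hb
    have ha' := ha.2
    have hb' := hb.2
    push Not at ha' hb'
    have hd'' : Dst r m a b := ⟨hmr.symm, ha'.1.symm, hb'.1.symm, ha'.2.2.symm, hb'.2.2.symm, hab⟩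
    have h5 := hfix r m a b hd'' (by
      rw [h3, h4]
      generalize t r = P, t b = Q
      revert P Q; decide)
    have inr : r = p ∨ r = p' := (hrp r).1 (Or.inl rfl)
    have out : ∀ m, m ≠ r → m ≠ r' → ¬ (m = p ∨ m = p') := fun m h6 h7 h8 => by
      rcases (hrp m).2 h8 with h9 | h9
      · exact h6 h9
      · exact h7 h9
    have om := out m hmr hmr'
    have oa := out a ha'.1 ha'.2.1
    have ob := out b hb'.1 hb'.2.1
    have hcase : ∀ A B : Finset (Fin 8), ∀ m, ((m ∈ A ↔ ¬ m ∈ B) → ind A m = ind B m + 1) ∧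
        ((m ∈ A ↔ m ∈ B) → ind A m = ind B m) := by
      intro A B m
      unfold ind
      by_cases h1 : m ∈ A <;> by_cases h2 : m ∈ B <;> simp only [h1, h2, _root_.not_true_eq_false, _root_.iff_false, ↓ _root_.reduceIte, _root_.left_eq_add, _root_.one_ne_zero, _root_.imp_self, _root_.and_self, _root_.not_false_eq_true, _root_.zero_add, _root_.forall_const, _root_.iff_true, _root_.zero_ne_one, _root_.and_true] <;> decide
    have hn1 : ∀ P Q : Prop, ¬ (P ↔ ¬ Q) → (P ↔ Q) := by intro P Q; by_cases h1 : P <;> by_cases h2 : Q <;> simp [h1, h2]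
    have hn2 : ∀ P Q : Prop, ¬ (P ↔ Q) → (P ↔ ¬ Q) := by intro P Q; by_cases h1 : P <;> by_cases h2 : Q <;> simp [h1, h2]
    rcases h2 with h2 | h2
    · have c1 := (hcase (fs i j k l) (fs i' j' k' l') r).1 ((h2 r).2 inr)
      have c2 := (hcase (fs i j k l) (fs i' j' k' l') m).2 (hn1 _ _ (mt (h2 m).1 om))
      have c3 := (hcase (fs i j k l) (fs i' j' k' l') a).2 (hn1 _ _ (mt (h2 a).1 oa))
      have c4 := (hcase (fs i j k l) (fs i' j' k' l') b).2 (hn1 _ _ (mt (h2 b).1 ob))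
      rw [c1, c2, c3, c4] at h5
      revert h5
      generalize ind (fs i' j' k' l') r = P, ind (fs i' j' k' l') m = Q, ind (fs i' j' k' l') a = R,
        ind (fs i' j' k' l') b = S
      revert P Q R S; decide
    · have c1 := (hcase (fs i j k l) (fs i' j' k' l') r).2 ((h2 r).2 inr)
      have c2 := (hcase (fs i j k l) (fs i' j' k' l') m).1 (hn2 _ _ (mt (h2 m).1 om))
      have c3 := (hcase (fs i j k l) (fs i' j' k' l') a).1 (hn2 _ _ (mt (h2 a).1 oa))
      have c4 := (hcase (fs i j k l) (fs i' j' k' l') b).1 (hn2 _ _ (mt (h2 b).1 ob))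
      rw [c1, c2, c3, c4] at h5
      revert h5
      generalize ind (fs i' j' k' l') r = P, ind (fs i' j' k' l') m = Q, ind (fs i' j' k' l') a = R,
        ind (fs i' j' k' l') b = S
      revert P Q R S; decide
  have ho1 := hout p p' hne (fun m => Iff.rfl)
  refine ⟨p, p', hne, t, ht, t p + 1, ?_, fun m h3 h4 => ?_⟩
  · generalize t p = P
    revert P; decide
  · have h5 := ho1 m h3 h4
    revert h5
    generalize t p = P, t m = Q
    revert P Q; decide

/-- `Fx` -/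
theorem fx {I : Type*} [DecidableEq I] {e : I → I → G} {a b c d m p : I} (hz : InZ Om z) (ch : ChtG Om (A0 Om z) e)
    (hx : InZ Om x) {t : I → ZMod 2}
    (ht : ∀ i j k l, Dst i j k l → (x * (e i j * e k l) = (e i j * e k l) * x ↔ t i + t j + t k + t l = 0))
    {τ : ZMod 2} (ta : t a = τ) (tb : t b = τ) (tc : t c = τ) (td : t d = τ) (tm : t m = τ) (tp : t p = τ + 1)
    (hd : Dst a b c d) (ma : m ≠ a) (mb : m ≠ b) (mc : m ≠ c) (md : m ≠ d) : Fx Om z x (e a b * e c d) := by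
  have nil := h.nilS hz
  have pne : ∀ q, t q = τ → p ≠ q := by
    rintro q hq rfl
    rw [tp] at hq
    have h1 : ∀ τ : ZMod 2, τ + 1 ≠ τ := by decide
    exact h1 τ hq
  have pa := pne a ta
  have pb := pne b tb
  have pc := pne c tc
  have pd := pne d td
  have pm := pne m tm
  have t4 : ∀ τ : ZMod 2, τ + τ + τ + τ = 0 := by decide
  -- the fixed pairs
  have key : ∀ {a b c d m : I}, t a = τ → t b = τ → t c = τ → t d = τ → t m = τ → Dst a b c d → m ≠ a → m ≠ b → m ≠ c →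
      m ≠ d → x * e a b = e a b * x := by
    intro a b c d m ta tb tc td tm hd ma mb mc md
    have h1 := (ht a c d m ⟨hd.ik, hd.il, ma.symm, hd.kl, mc.symm, md.symm⟩).2 (by rw [ta, tc, td, tm]; exact t4 τ)
    have h2 := (ht b c d m ⟨hd.jk, hd.jl, mb.symm, hd.kl, mc.symm, md.symm⟩).2 (by rw [tb, tc, td, tm]; exact t4 τ)
    have h3 : e a b = (e a c * e d m) * (e b c * e d m) := by
      rw [mul_assoc, ← mul_assoc (e d m), ccm ch nil d m b c, mul_assoc, csq ch nil h.w, mul_one,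
        csy ch nil h.w b c, ch.add]
    rw [h3]
    calc x * ((e a c * e d m) * (e b c * e d m)) = (x * (e a c * e d m)) * (e b c * e d m) := by group
      _ = (e a c * e d m) * (x * (e b c * e d m)) := by rw [h1]; group
      _ = _ := by rw [h2]; group
  have x1 := key ta tb tc td tm hd ma mb mc md
  have x2 := key ta tc tb td tm ⟨hd.ik, hd.ij, hd.il, hd.jk.symm, hd.kl, hd.jl⟩ ma mc mb md
  have hm := ch.mem a b c d hd
  refine ⟨hm, (ht a b c d hd).2 (by rw [ta, tb, tc, td]; exact t4 τ), ?_, ?_⟩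
  · have hab1 : e a b ≠ 1 := cne ch nil (i := a) (k := c) (l := d) (m := m)
      ⟨hd.ik, hd.il, ma.symm, hd.kl, mc.symm, md.symm⟩ hd.ij.symm hd.jk hd.jl mb.symm
    have hcd1 : e c d ≠ 1 := cne ch nil (i := c) (k := a) (l := b) (m := m)
      ⟨hd.ik.symm, hd.jk.symm, mc.symm, hd.ij, ma.symm, mb.symm⟩ hd.kl.symm hd.il.symm hd.jl.symm md.symm
    have hac1 : e a c ≠ 1 := cne ch nil (i := a) (k := b) (l := d) (m := m)
      ⟨hd.ij, hd.il, ma.symm, hd.jl, mb.symm, md.symm⟩ hd.ik.symm hd.jk.symm hd.kl mc.symm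
    have hbd1 : e b d ≠ 1 := cne ch nil (i := b) (k := a) (l := c) (m := m)
      ⟨hd.ij.symm, hd.jk, mb.symm, hd.ik, ma.symm, mc.symm⟩ hd.jl.symm hd.il.symm hd.kl.symm md.symm
    have hbc1 : e b c ≠ 1 := cne ch nil (i := b) (k := a) (l := d) (m := m)
      ⟨hd.ij.symm, hd.jl, mb.symm, hd.il, ma.symm, md.symm⟩ hd.jk.symm hd.ik.symm hd.kl mc.symm
    have had1 : e a d ≠ 1 := cne ch nil (i := a) (k := b) (l := c) (m := m)
      ⟨hd.ij, hd.ik, ma.symm, hd.jk, mb.symm, mc.symm⟩ hd.il.symm hd.jl.symm hd.kl.symm md.symm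
    have hr2 : e a c ∈ RZ Om (e a b * e c d) := by
      rw [cq ch nil h.w]
      exact ch.inB a c b d ⟨hd.ik, hd.ij, hd.il, hd.jk.symm, hd.kl, hd.jl⟩
    refine nff h.w hm.1 hx (ch.inB a b c d hd) hr2 x1 x2 hab1 ?_ hac1 ?_ ?_ ?_
    · intro h1; exact hcd1 (left_eq_mul.1 h1)
    · intro h1
      rw [cq ch nil h.w] at h1
      exact hbd1 (left_eq_mul.1 h1)
    · rw [cadd' ch nil h.w]; exact hbc1
    · rw [cadd' ch nil h.w]
      intro h1
      rw [csy ch nil h.w c d, cq ch nil h.w, ccm ch nil] at h1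
      exact had1 (left_eq_mul.1 h1)
  · have hd1 : Dst a b p m := ⟨hd.ij, pa.symm, ma.symm, pb.symm, mb.symm, pm⟩
    refine ⟨_, ch.mem a b p m hd1, ?_, h.ti2 hz ch hd1 hd ⟨pm, pc, pd, mc, md, hd.kl⟩⟩
    rw [Ne, ht a b p m hd1, ta, tb, tp, tm]
    have h1 : ∀ τ : ZMod 2, ¬ τ + τ + (τ + 1) + τ = 0 := by decide
    exact h1 τ

/-- **`H8`** -/
theorem h8 (hp : ∀ z, InZ Om z → Pat1 Om (A0 Om z)) : H8 Om := by
  rintro z x hz hx hc ⟨u, hu, hm⟩ hall
  obtain ⟨e, ch, hin⟩ := h.eight hz (hp z hz) hu (h.conj_mem hu hc) (hall u hu hm)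
  obtain ⟨p, p', hne, t, ht, τ, tp, tout⟩ := h.exists_pair hz ch hx hin hc hu hm hall
  have nil := h.nilS hz
  -- a numbering of the points
  obtain ⟨f, hf0, hf1⟩ : ∃ f : Equiv.Perm (Fin 8), f 0 = p ∧ f 1 = p' := by
    refine ⟨(Equiv.swap 0 p).trans (Equiv.swap ((Equiv.swap 0 p) 1) p'), ?_, ?_⟩
    · rw [Equiv.trans_apply, Equiv.swap_apply_left]
      refine Equiv.swap_apply_of_ne_of_ne (fun h1 => ?_) hne
      have h2 : (Equiv.swap 0 p) 0 = (Equiv.swap 0 p) 1 := by rw [Equiv.swap_apply_left]; exact h1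
      exact absurd ((Equiv.swap 0 p).injective h2) (by decide)
    · rw [Equiv.trans_apply, Equiv.swap_apply_left]
  have hfo : ∀ i, i ≠ 0 → i ≠ 1 → t (f i) = τ := by
    intro i h0 h1
    refine tout _ (fun h2 => h0 (f.injective ?_)) (fun h2 => h1 (f.injective ?_))
    · rw [h2, hf0]
    · rw [h2, hf1]
  have ne : ∀ {i j : Fin 8}, i ≠ j → f i ≠ f j := fun h1 h2 => h1 (f.injective h2)
  have dst : ∀ {i j k l : Fin 8}, Dst i j k l → Dst (f i) (f j) (f k) (f l) := fun hd =>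
    ⟨ne hd.ij, ne hd.ik, ne hd.il, ne hd.jk, ne hd.jl, ne hd.kl⟩
  have tp0 : t (f 0) = τ + 1 := by rw [hf0, tp]
  have d1 : Dst (f 2) (f 3) (f 4) (f 5) := dst (by constructor <;> decide)
  have d2 : Dst (f 2) (f 3) (f 6) (f 7) := dst (by constructor <;> decide)
  have d3 : Dst (f 4) (f 5) (f 6) (f 7) := dst (by constructor <;> decide)
  have T : ∀ i : Fin 8, i ≠ 0 → i ≠ 1 → t (f i) = τ := hfo
  refine ⟨_, _, h.ti2 hz ch d1 d2 d3, ?_, ?_, ?_⟩
  · exact h.fx hz ch hx ht (T 2 (by decide) (by decide)) (T 3 (by decide) (by decide)) (T 4 (by decide) (by decide))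
      (T 5 (by decide) (by decide)) (T 6 (by decide) (by decide)) tp0 d1 (ne (by decide)) (ne (by decide))
      (ne (by decide)) (ne (by decide))
  · exact h.fx hz ch hx ht (T 2 (by decide) (by decide)) (T 3 (by decide) (by decide)) (T 6 (by decide) (by decide))
      (T 7 (by decide) (by decide)) (T 4 (by decide) (by decide)) tp0 d2 (ne (by decide)) (ne (by decide))
      (ne (by decide)) (ne (by decide))
  · have h1 : e (f 2) (f 3) * e (f 4) (f 5) * (e (f 2) (f 3) * e (f 6) (f 7)) = e (f 4) (f 5) * e (f 6) (f 7) := by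
      rw [ccm ch nil (f 2) (f 3) (f 4) (f 5), mul_assoc, ← mul_assoc (e (f 2) (f 3)), csq ch nil h.w, one_mul]
    rw [h1]
    exact h.fx hz ch hx ht (T 4 (by decide) (by decide)) (T 5 (by decide) (by decide)) (T 6 (by decide) (by decide))
      (T 7 (by decide) (by decide)) (T 2 (by decide) (by decide)) tp0 d3 (ne (by decide)) (ne (by decide))
      (ne (by decide)) (ne (by decide))

end W3

end Fin

end Cfsg.Agent.Cit.Nil.RTwoM.MThree
end

-- part: Cit/Nil/RTwoM/MThree/Star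
section
/-!
# S1309, (6b), (C3), `r = 2`, `m = 3`, `|T| = 4` (helper545, bb #18935): (7), STAR

* `Cn Om z w` : `w` is in the component of `z` of the C-graph;
* `W3.cn_comm`, `W3.cn_conj`; **`W3.cn`** : `x ∈ Z ∩ C(z)` is in the component of `z`;
* **`W3.star`** : `StarC Om`.
-/

set_option autoImplicit false
set_option linter.style.haveILetI false
set_option linter.unusedSectionVars false

namespace Cfsg.Agent.Cit.Nil.RTwoM.MThree

open Subgroup Cfsg Cfsg.Agent.Cit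

open RTwo (Q3)
open RG (WR CP Ov InO Tr)
open RI (CS)

variable {G : Type*} [Group G] {Om : Set (Subgroup G)} {K L M : Subgroup G}
  {a b c d e g g' k l n q r s t u v w x y z : G}

/-- the component of the C-graph -/
def Cn (Om : Set (Subgroup G)) (z w : G) : Prop := Relation.ReflTransGen (fun a b => InZ Om a ∧ b ∈ A0 Om a) z w

section Fin

variable [Finite G]

namespace W3

variable (h : W3 Om)

include h

theorem cn_inZ (hz : InZ Om z) (hw : Cn Om z w) : InZ Om w := by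
  induction hw with
  | refl => exact hz
  | tail _ hbc _ => exact hbc.2.1

theorem cn_symm (hw : Cn Om z w) : Cn Om w z := by
  induction hw with
  | refl => exact Relation.ReflTransGen.refl
  | tail _ hbc ih => exact Relation.ReflTransGen.head ⟨hbc.2.1, h.symm_mem hbc.1 hbc.2⟩ ih

theorem cn_trans (hw : Cn Om z w) (hv : Cn Om w v) : Cn Om z v := Relation.ReflTransGen.trans hw hv

theorem cn_a0 (hz : InZ Om z) (hw : w ∈ A0 Om z) : Cn Om z w := Relation.ReflTransGen.single ⟨hz, hw⟩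

theorem cn_comm (h8 : H8 Om) (hx : InZ Om x) (hc : x * z = z * x) (hw : Cn Om z w) : x * w = w * x := by
  induction hw with
  | refl => exact hc
  | tail _ hbc ih => exact h.hh h8 hbc.1 hx ih hbc.2

theorem cn_comm' (h8 : H8 Om) (hz : InZ Om z) (hw : Cn Om z w) (hv : Cn Om z v) : w * v = v * w :=
  h.cn_comm h8 (h.cn_inZ hz hw) (h.cn_comm h8 hz rfl hw).symm hv

theorem cn_conj' (hw : Cn Om z w) (g : G) : Cn Om (g * z * g⁻¹) (g * w * g⁻¹) := by
  induction hw with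
  | refl => exact Relation.ReflTransGen.refl
  | tail _ hbc ih => exact Relation.ReflTransGen.tail ih ⟨hbc.1.conj h.w g, hbc.2.1.conj h.w g, cp_conj h.w hbc.2.2 g⟩

theorem cn_conj (ht : Cn Om z t) (hg : g * t = t * g) (hw : Cn Om z w) : Cn Om z (g * w * g⁻¹) := by
  have h1 := h.cn_conj' (h.cn_trans (h.cn_symm ht) hw) g
  rw [hg, mul_inv_cancel_right] at h1
  exact h.cn_trans ht h1

/-- the closure of the component -/
theorem clo (h8 : H8 Om) (hz : InZ Om z) : (∀ a ∈ _root_.Subgroup.closure {w | Cn Om z w}, ∀ b ∈ closure {w | Cn Om z w}, a * b = b * a) ∧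
    (∀ a ∈ closure {w | Cn Om z w}, a * a = 1) ∧
    ∀ t, Cn Om z t → ∀ r, t * r = r * t → r ∈ normalizer (closure {w | Cn Om z w} : Set G) := by
  have h1 : ∀ w, Cn Om z w → ∀ b ∈ _root_.Subgroup.closure {w | Cn Om z w}, w * b = b * w := by
    intro w hw b hb
    have h2 : closure {w | Cn Om z w} ≤ centralizer ({w} : Set G) := by
      refine (closure_le _).2 fun v hv => mem_centralizer_singleton_iff.2 ?_
      exact (h.cn_comm' h8 hz hw hv).symm
    exact (mem_centralizer_singleton_iff.1 (h2 hb)).symm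
  have h3 : ∀ a ∈ closure {w | Cn Om z w}, ∀ b ∈ closure {w | Cn Om z w}, a * b = b * a := by
    intro a ha b hb
    have h2 : closure {w | Cn Om z w} ≤ centralizer ({b} : Set G) := by
      refine (closure_le _).2 fun v hv => mem_centralizer_singleton_iff.2 ?_
      exact h1 v hv b hb
    exact mem_centralizer_singleton_iff.1 (h2 ha)
  refine ⟨h3, ?_, ?_⟩
  · intro a ha
    refine closure_induction (p := fun x _ => x * x = 1) ?_ ?_ ?_ ?_ ha
    · exact fun u hu => (h.cn_inZ hz hu).z2 h.w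
    · rw [one_mul]
    · intro a b ha hb h1 h2
      calc a * b * (a * b) = a * (b * a) * b := by group
        _ = (a * a) * (b * b) := by rw [h3 b hb a ha]; group
        _ = 1 := by rw [h1, h2, one_mul]
    · intro a _ h1
      rw [← mul_inv_rev, h1, inv_one]
  · intro t ht
    have key : ∀ r, t * r = r * t → cj r (_root_.Subgroup.closure {w | Cn Om z w}) ≤ closure {w | Cn Om z w} := by
      intro r hr
      rw [cj, map_le_iff_le_comap]
      exact (closure_le _).2 fun u hu => _root_.Subgroup.subset_closure (h.cn_conj ht hr.symm hu)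
    intro r hr
    rw [mem_normalizer_iff_cj]
    refine le_antisymm (key r hr) ?_
    have h4 : t * r⁻¹ = r⁻¹ * t := by rw [eq_inv_mul_iff_mul_eq, ← mul_assoc, ← hr, mul_inv_cancel_right]
    have h5 := cj_mono r (key r⁻¹ h4)
    rwa [cj_cj_inv] at h5

/-- the types of `w`, `v`, `w v` at `x` -/
theorem no_cp (hz : InZ Om z) (hx : InZ Om x) (hn : ¬ Cn Om z x) (hw : Cn Om z w) : x ≠ w ∧ ¬ CP Om x w ∧ w ∉ CX Om x := by
  have h1 : x ≠ w := by rintro rfl; exact hn hw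
  have h2 : ¬ CP Om x w := fun h1 => hn (h.cn_trans hw (h.cn_symm (h.cn_a0 hx ⟨h.cn_inZ hz hw, h1⟩)))
  exact ⟨h1, h2, fun h3 => ((cen_iff h.w hx (h.cn_inZ hz hw)).1 h3).elim h1 h2⟩

/-- some `w` of the component is of type I with `x` -/
theorem exists_ti (h8 : H8 Om) (hz : InZ Om z) (hx : InZ Om x) (hc : x * z = z * x) (hn : ¬ Cn Om z x) :
    ∃ w, Cn Om z w ∧ TI Om x w := by
  obtain ⟨hA, hsq, hnor⟩ := h.clo h8 hz
  have hxw : ∀ w, Cn Om z w → x * w = w * x := fun w hw => h.cn_comm h8 hx hc hw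
  obtain ⟨u, hu⟩ : ∃ u, u ∈ A0 Om z := h.ex z hz
  have hzu := h.mul_mem hz hu
  have c1 : Cn Om z z := Relation.ReflTransGen.refl
  have c2 := h.cn_a0 hz hu
  have c3 := h.cn_a0 hz hzu
  by_cases hxE : x ∈ _root_.Subgroup.closure {w | Cn Om z w}
  · -- no `f`
    have hnf : ∀ w, Cn Om z w → ¬ Ff Om w x := by
      intro w hw hf
      have hwZ := h.cn_inZ hz hw
      obtain ⟨K, hK⟩ := hwZ
      obtain ⟨a, ha⟩ := hf.exists_tr h.w (hx.z2 h.w) hK
      have haa := Tr.sq' ha hK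
      obtain ⟨b, hb, hbb, hne, hne'⟩ := hK.exists_off h.w ha.mem haa
      have h1 := ha.com b hb (by rw [hbb, hK.2]) hne hne'
      have h2 : x * b * x⁻¹ * b⁻¹ ∈ _root_.Subgroup.closure {w | Cn Om z w} := by
        have h3 := hnor w hw b (hK.comm_z h.w hb).symm
        have h4 : x * b * x⁻¹ * b⁻¹ = x * (b * x⁻¹ * b⁻¹) := by group
        rw [h4]
        exact Subgroup.mul_mem _ hxE ((mem_normalizer_iff.1 h3 _).1 (Subgroup.inv_mem _ hxE))
      have h3 := hsq _ h2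
      rcases h1 with h1 | h1
      · rw [h1, haa] at h3; exact hK.inZ.z1 h.w h3
      · rw [h1, ← mul_inv_rev, haa, inv_eq_one] at h3; exact hK.inZ.z1 h.w h3
    have key : ∀ w, Cn Om z w → TI Om x w ∨ Swp Om x w := by
      intro w hw
      obtain ⟨h1, h2, -⟩ := h.no_cp hz hx hn hw
      rcases four h.w hx (h.cn_inZ hz hw) h1 (hxw w hw) with h3 | h3 | h3 | h3
      · exact absurd h3 h2
      · exact Or.inl h3
      · exact Or.inr h3
      · exact absurd (h.ff_symm hx (h.cn_inZ hz hw) h3) (hnf w hw)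
    rcases key z c1 with h1 | h1
    · exact ⟨z, c1, h1⟩
    rcases key u c2 with h2 | h2
    · exact ⟨u, c2, h2⟩
    refine ⟨z * u, c3, (key _ c3).resolve_right ?_⟩
    rw [swp_mul h.w hx (hxw z c1).symm (hxw u c2).symm]
    exact ⟨fun _ => h2, fun _ => h1⟩
  · -- `T = {1, z, u, z u}`
    have hzz := hz.z2 h.w
    have huu := hu.1.z2 h.w
    have hzu' := h.comm_z hz hu
    have hTm : ∀ t, t = 1 ∨ t = z ∨ t = u ∨ t = z * u → t ∈ _root_.Subgroup.closure ({z, u} : Set G) := by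
      intro t ht
      have m1 : z ∈ closure ({z, u} : Set G) := _root_.Subgroup.subset_closure (by simp)
      have m2 : u ∈ _root_.Subgroup.closure ({z, u} : Set G) := _root_.Subgroup.subset_closure (by simp)
      rcases ht with rfl | rfl | rfl | rfl
      · exact one_mem _
      · exact m1
      · exact m2
      · exact Subgroup.mul_mem _ m1 m2
    have hT : ∀ t ∈ closure ({z, u} : Set G), t = 1 ∨ t = z ∨ t = u ∨ t = z * u := by
      intro t ht
      refine closure_induction (p := fun t _ => t = 1 ∨ t = z ∨ t = u ∨ t = z * u) ?_ ?_ ?_ ?_ ht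
      · intro t ht
        rcases ht with rfl | ht
        · exact Or.inr (Or.inl rfl)
        · rw [Set.mem_singleton_iff] at ht
          exact Or.inr (Or.inr (Or.inl ht))
      · exact Or.inl rfl
      · intro a b _ _ ha hb
        exact VV.mul hzz huu hzu' ha hb
      · intro a _ ha
        have h1 : a * a = 1 := by
          rcases ha with rfl | rfl | rfl | rfl
          · rw [one_mul]
          · exact hzz
          · exact huu
          · exact (hzu.1).z2 h.w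
        rw [inv_eq_of_mul_eq_one_right h1]
        exact ha
    have hTC : ∀ t ∈ closure ({z, u} : Set G), t ≠ 1 → Cn Om z t := by
      intro t ht ht1
      rcases hT t ht with rfl | rfl | rfl | rfl
      · exact absurd rfl ht1
      · exact c1
      · exact c2
      · exact c3
    have j : JF Om (closure {w | Cn Om z w}) (closure {z, u}) x :=
      { inZ := hx
        comm' := hA
        sq := hsq
        nin := hxE
        le := by
          refine (closure_le _).2 ?_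
          rintro t (rfl | ht)
          · exact _root_.Subgroup.subset_closure c1
          · rw [Set.mem_singleton_iff] at ht
            rw [ht]
            exact _root_.Subgroup.subset_closure c2
        tx := by
          intro t ht
          by_cases h1 : t = 1
          · rw [h1, one_mul, mul_one]
          · exact (hxw t (hTC t ht h1)).symm
        nor := fun t ht ht1 r _ hr a ha => (mem_normalizer_iff.1 (hnor t (hTC t ht ht1) r hr) a).1 ha
        ff := by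
          intro t ht htx
          by_contra ht1
          exact (h.no_cp hz hx hn (hTC t ht ht1)).2.2 htx
        three := ⟨z, hTm z (Or.inr (Or.inl rfl)), u, hTm u (Or.inr (Or.inr (Or.inl rfl))), hz.z1 h.w, hu.1.z1 h.w, hu.2.1⟩ }
    obtain ⟨K, hK⟩ := hx
    obtain ⟨p, hp, s, hs, a, ha, -, hs1, -, haa, has, -⟩ := j.main h.w hK
    have hsC := hTC s hs hs1
    refine ⟨s, hsC, ?_⟩
    obtain ⟨h1, h2, -⟩ := h.no_cp hz hK.inZ hn hsC
    rcases inn_cases h.w hK (h.cn_inZ hz hsC) (fun k hk => by rw [has.2 k hk]; exact hK.comm_or h.w hk ha) with h3 | h3 | h3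
    · exact absurd h3 h1
    · exact absurd h3 h2
    · exact h3

/-- **`Z ∩ C(z)` is the component of `z`** -/
theorem cn (h8 : H8 Om) (h8' : H8' Om) (hz : InZ Om z) (hx : InZ Om x) (hc : x * z = z * x) : Cn Om z x := by
  by_contra hn
  obtain ⟨w, hw, hti⟩ := h.exists_ti h8 hz hx hc hn
  have hwZ := h.cn_inZ hz hw
  have hxw : ∀ w, Cn Om z w → x * w = w * x := fun w hw => h.cn_comm h8 hx hc hw
  have c0 : ∀ v ∈ A0 Om w, Cn Om z v := fun v hv => h.cn_trans hw (h.cn_a0 hwZ hv)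
  -- all `v ∈ a₀(w)` are swaps at `x`
  have key : ∀ v ∈ A0 Om w, Swp Om x v := by
    intro v hv
    obtain ⟨h1, h2, -⟩ := h.no_cp hz hx hn (c0 v hv)
    rcases four h.w hx hv.1 h1 (hxw v (c0 v hv)) with h3 | h3 | h3 | h3
    · exact absurd h3 h2
    · exfalso
      exact (h.no_cp hz hx hn (c0 _ (h.mul_mem hwZ hv))).2.2 (tt_II_cx h.w hv.2 hti h3)
    · exact h3
    · exact (tt_If h.w hv.2 hti hv.1 h3).elim
  have no : ∀ v ∈ A0 Om w, ∀ v' ∈ A0 Om w, ¬ TI Om v v' := by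
    intro v hv v' hv' h1
    have h2 := key _ (h.ti_mem hwZ hv hv' h1)
    exact (swp_mul h.w hx (hxw v (c0 v hv)).symm (hxw v' (c0 v' hv')).symm).2
      ⟨fun _ => key v' hv', fun _ => key v hv⟩ h2
  have no' : ∀ v ∈ A0 Om w, ∀ v' ∈ A0 Om w, ¬ Swp Om v v' := by
    intro v hv v' hv' h1
    obtain ⟨a, ha, b, hb, h2⟩ := h8' w v v' hwZ hv hv' h1
    exact no a ha b hb h2
  -- `r ∈ K_x` acting as `w`
  obtain ⟨v, hv⟩ : ∃ v, v ∈ A0 Om w := h.ex w hwZ
  obtain ⟨K, hK⟩ := hti.inZ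
  obtain ⟨r, hr, hrr⟩ := hti.exists_as h.w hK
  have hs := key v hv
  have hrw : r * w = w * r := hr.comm.symm
  have hm := h.conj_mem hv hrw
  have hne : v ≠ r * v * r⁻¹ := by
    intro h1
    have h2 : v * r = r * v := by rw [eq_mul_inv_iff_mul_eq] at h1; exact h1
    have h3 : v * r * v⁻¹ = r := by rw [h2, mul_inv_cancel_right]
    have h4 : r ∈ cj v K := by
      have := conj_mem_cj (g := v) hr.1
      rwa [h3] at this
    rcases hK.inf (hs.mem h.w hK) h.w (hs.ne hK) hr.1 h4 with h5 | h5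
    · rw [h5, one_mul] at hrr; exact hx.z1 h.w hrr.symm
    · rw [h5, hx.z2 h.w] at hrr; exact hx.z1 h.w hrr.symm
  rcases h.dich hwZ hv hm hne with h1 | h1 | ⟨h1, -⟩
  · -- `w = [r, v] ∈ R_x`
    have h2 : w = r * (v * r⁻¹ * v⁻¹) := by
      have h3 : r * (v * r⁻¹ * v⁻¹) = (r * v * r⁻¹) * v⁻¹ := by group
      rw [h3, h1, mul_inv_cancel_right]
    have h3 : w ∈ RZ Om x := by
      rw [h2]
      exact Subgroup.mul_mem _ (hK.le_RZ hr.1) (RZ_conj_comm h.w hs.1 (Subgroup.inv_mem _ (hK.le_RZ hr.1)))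
    exact hti.ne (h.thin hx hwZ h3).symm
  · exact no _ hv _ hm h1
  · exact no' _ hv _ hm h1

/-- **STAR for `m = 3`, `|T| = 4`** -/
theorem star (h8 : H8 Om) (h8' : H8' Om) : StarC Om := by
  intro S x y hx hy hxS hyS
  obtain ⟨K, hKO, hKS⟩ : ∃ K ∈ Om, K ≤ (S : Subgroup G) := by
    obtain ⟨K, hK⟩ := hx
    obtain ⟨S', hS'⟩ := (h.w.isPGroup hK.1).exists_le_sylow
    obtain ⟨g, hg⟩ := MulAction.exists_smul_eq G S' S
    have hgS : (S : Subgroup G) = cj g S' := by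
      rw [← hg]
      rfl
    exact ⟨cj g K, h.w.hyp.conj K hK.1 g, by rw [hgS]; exact cj_mono g hS'⟩
  have hz : zz K ∈ CS Om (S : Subgroup G) := ⟨K, ⟨hKO, rfl⟩, hKS⟩
  have h1 := comm_CS_of_NCS h.w h.l0 S.isPGroup' hx hxS hz
  have h2 := comm_CS_of_NCS h.w h.l0 S.isPGroup' hy hyS hz
  have hzZ := CS.inZ hz
  exact (h.cn_comm h8 hy h2 (h.cn h8 h8' hzZ hx h1)).symm

end W3

end Fin

end Cfsg.Agent.Cit.Nil.RTwoM.MThree
end

-- part: Cit/Nil/RTwoM/MThree/Fin
section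
/-!
# S1309, (6b), (C3), `r = 2`, `m = 3`, `|T| = 4` : `LAMBDA0 ⟹ StarC`

* `Rot.ne_comm`; `W3.pat1` : the pattern (111) on `a₀(z)`;
* **`starC_three`** : `WM, L0, ANT, ANS, OneCl, (C3), |C_S| = 3, |T_S| = 4 ⟹ StarC`.
-/

set_option autoImplicit false
set_option linter.style.haveILetI false
set_option linter.unusedSectionVars false

namespace Cfsg.Agent.Cit.Nil.RTwoM

open Subgroup Cfsg Cfsg.Agent.Cit

open RG (WR CP Ov InO)
open RI (CS)

variable {G : Type*} [Group G] [Finite G] {Om : Set (Subgroup G)} {K L M : Subgroup G}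
  {a b c d e s t u v x y z g k n : G}

/-- a rotation moves every `y ∈ K`, `y² = z`, to an element not commuting with it -/
theorem Rot.ne_comm (h : WM Om) (hK : Mem Om z K) (hc : Rot z K c) (hk : k ∈ K) (hkk : k * k = z) :
    k * (c * k * c⁻¹) ≠ (c * k * c⁻¹) * k := by
  have hcz : c * z = z * c := hK.of_cj h hc.1
  have hck : c * k * c⁻¹ ∈ K := by
    have := conj_mem_cj (g := c) hk
    rwa [hc.1] at this
  have hckk : c * k * c⁻¹ * (c * k * c⁻¹) = z := by
    calc c * k * c⁻¹ * (c * k * c⁻¹) = c * (k * k) * c⁻¹ := by group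
      _ = z := by rw [hkk, hcz, mul_inv_cancel_right]
  obtain ⟨h1, h2⟩ := hc.2 k hk hkk
  intro h5
  rcases hK.of_comm h hk hkk hck h5 with h6 | h6 | h6 | h6
  · rw [h6, one_mul] at hckk; exact hK.inZ.z1 h hckk.symm
  · rw [h6, hK.inZ.z2 h] at hckk; exact hK.inZ.z1 h hckk.symm
  · exact h1 h6
  · exact h2 h6

namespace MThree

theorem W3.pat1 (h : W3 Om) (c3 : C3R Om) (hm : ∀ S : Sylow 2 G, (CS Om (S : Subgroup G)).ncard ≤ 3)
    (hz : InZ Om z) : Pat1 Om (A0 Om z) := by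
  refine (W3.nilS h hz).pat1_of_rot h.w ?_
  intro b hb _
  obtain ⟨S, hzS, hbS⟩ := exists_sylow_of_cp h.w hz hb.1 hb.2
  obtain ⟨K, hK, hKS⟩ := hbS
  obtain ⟨c, hc, hct⟩ := c3.exists_cent h.w S (hm S) hK hKS
  have hcz : c * z = z * c := hct z (CS.mem_TT hzS)
  refine ⟨c, ?_, K, hK, hc.1, fun k hk hkk => hc.ne_comm h.w hK hk hkk⟩
  intro d hd
  have h1 : c * z * c⁻¹ = z := by rw [hcz, mul_inv_cancel_right]
  refine ⟨InZ.conj hd.1 h.w c, ?_⟩
  have h2 := cp_conj h.w hd.2 c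
  rwa [h1] at h2

end MThree

/-- **`m = 3`, `|T| = 4`** : `StarC` -/
theorem starC_three (h : WM Om) (l0 : L0 Om) (an : ANT Om) (as : ANS Om) (oc : OneCl Om) (c3 : C3R Om)
    (h3 : ∀ S : Sylow 2 G, (CS Om (S : Subgroup G)).ncard = 3)
    (h4 : ∀ S : Sylow 2 G, Nat.card (TT Om (S : Subgroup G)) = 4) : StarC Om := by
  have w := MThree.W3.of h l0 an oc as h3 h4
  have hp : ∀ z, InZ Om z → Pat1 Om (MThree.A0 Om z) := fun z hz =>
    w.pat1 c3 (fun S => le_of_eq (h3 S)) hz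
  exact w.star (w.h8 hp) (w.h8' hp)

end Cfsg.Agent.Cit.Nil.RTwoM
end

-- part: Cit/Nil/RTwoM/U/UCent
section
/-!
# S1309, (6b), (C3), `r = 2`, any `m`, `LAMBDA0`: CENT in world SW (section 5.1 of helper762's text, simplified)

* `CW Om D x` : `D` a commuting subset of `Z` normalised by the `R_b`, with (111), `x ∈ Z` normalises `D`, and
  over each `w ∈ D` fixed by `x` there is a self-centralising `B ≤ R_w` centralised by `x` and `D`;
* `CW.comm_of_mem` : `x` centralises `⟨D⟩ ⊓ R_w`, `w` fixed; `CW.swp` : `y` moved ⟹ `(y, y^x)` is a swap pair;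
* **`CW.fix`** : `y ∈ D`, `r ∈ ⟨D⟩ ⊓ R_y` not in `{1, y}`, `[x, r] = 1` ⟹ `[x, y] = 1`;
* `CW.fix_swp`, `CW.fix_ti`, `CW.all` : `w` fixed, `y` not a C-partner of `w` ⟹ `y` fixed;
* **`cent_sw`** : `RegSW Om`, rotations ⟹ `CENT Om`.
-/

set_option autoImplicit false
set_option linter.style.haveILetI false
set_option linter.unusedSectionVars false

namespace Cfsg.Agent.Cit.Nil.RTwoM

open Subgroup Cfsg Cfsg.Agent.Cit

open RG (WR CP Ov InO Tr)
open RI (CS)
open Blk (sm sg Data sm_zero sm_one)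

variable {G : Type*} [Group G] {Om : Set (Subgroup G)} {K L M : Subgroup G} {D : Set G}
  {a b d g g' k l m n r s t u v w x y z : G}

/-- over `w` there is a self-centralising `B ≤ R_w` centralised by `x` and `D` -/
def RegAt (Om : Set (Subgroup G)) (D : Set G) (x w : G) : Prop :=
  ∃ B : Subgroup G, B ≤ RZ Om w ∧ (∀ r ∈ RZ Om w, (∀ b ∈ B, r * b = b * r) → r ∈ B) ∧
    (∀ b ∈ B, x * b = b * x) ∧ ∀ y ∈ D, ∀ b ∈ B, y * b = b * y

/-- the situation of section 5.1 -/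
structure CW (Om : Set (Subgroup G)) (D : Set G) (x : G) : Prop where
  h : WM Om
  l0 : L0 Om
  nil : NilS Om D
  pat : Pat1 Om D
  inZ : InZ Om x
  nor : ∀ y ∈ D, x * y * x⁻¹ ∈ D
  reg : ∀ w ∈ D, x * w = w * x → RegAt Om D x w

section Fin

variable [Finite G]

theorem cx_of_as (h : WM Om) (hK : Mem Om z K) (hL : Mem Om z L) (hne : K ≠ L) (h1 : As K g a) (h2 : As K g' a)
    (h3 : As L g b) (h4 : As L g' b) : g * g'⁻¹ ∈ CX Om z := by
  rw [mem_CX]
  intro M hM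
  rcases hK.cases hL h hne hM with rfl | rfl
  · have h5 := h1.mul h2.inv
    rw [mul_inv_cancel] at h5
    exact As.one_iff.1 h5
  · have h5 := h3.mul h4.inv
    rw [mul_inv_cancel] at h5
    exact As.one_iff.1 h5

/-- `v` a swap at `m`, `x` centralises `C_{R_m}(v)` : `[v, x] ∈ C(R_m)` -/
theorem swp_comm_cx (h : WM Om) (hs : Swp Om m v) (hvv : v * v = 1) (hxm : x * m = m * x)
    (hc : ∀ K, Mem Om m K → ∀ k ∈ K, x * qq v k = qq v k * x) (hm : InZ Om m) : v * x * v⁻¹ * x⁻¹ ∈ CX Om m := by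
  obtain ⟨K, hK⟩ := hm
  have hL := hs.mem h hK
  have hne := hs.ne hK
  have hv' : v⁻¹ = v := inv_eq_of_mul_eq_one_right hvv
  have back : cj v (cj v K) = K := by rw [← cj_mul, hvv, cj_one]
  have conj2 : ∀ a : G, v * (v * a * v⁻¹) * v⁻¹ = a := fun a => by
    rw [hv', show v * (v * a * v) * v = (v * v) * a * (v * v) by group, hvv, one_mul, mul_one]
  rcases hs.cent h hvv hK hxm (hc K hK) with ⟨a, ha, h1, h2⟩ | ⟨-, a, ha, h1, h2⟩
  · have e1 := h1.conj v
    have e2 := h2.conj v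
    rw [back, conj2] at e2
    exact cx_of_as h hK hL hne e2 h1 e1 h2
  · have e1 := h1.conj v
    have e2 := h2.conj v
    rw [back, conj2] at e2
    have e3 := cx_of_as h hK hL hne e2 h1 e1 h2
    have e4 : v * x * v⁻¹ * x⁻¹ = v * (x * v) * v⁻¹ * (x * v)⁻¹ := by group
    rw [e4]; exact e3

/-- a nontrivial action of type I : an element of `R_w` acting as `y` -/
theorem TI.exists_rz (hti : TI Om y w) (h : WM Om) : ∃ r ∈ RZ Om w, y * r ∈ CX Om w := by
  rcases hti.dich h with h1 | ⟨q, -, hq, -, -, h2⟩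
  · exact ⟨y, h1, by rw [hti.inZ.z2 h]; exact one_mem _⟩
  · exact ⟨q, hq, h2⟩

namespace CW

variable (c : CW Om D x)

include c

theorem xx : x * x = 1 := c.inZ.z2 c.h

theorem comm_cl (hn : n ∈ _root_.Subgroup.closure D) (hb : ∀ y ∈ D, y * b = b * y) : n * b = b * n := by
  have h1 : closure D ≤ centralizer ({b} : Set G) := (closure_le _).2 fun y hy =>
    mem_centralizer_singleton_iff.2 (hb y hy)
  exact mem_centralizer_singleton_iff.1 (h1 hn)

/-- `x` centralises `⟨D⟩ ⊓ R_w` if `w` is fixed -/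
theorem comm_of_mem (hw : w ∈ D) (hxw : x * w = w * x) (hr : r ∈ RZ Om w) (hrc : r ∈ _root_.Subgroup.closure D) : x * r = r * x := by
  obtain ⟨B, -, hB, hx, hD⟩ := c.reg w hw hxw
  exact hx r (hB r hr fun b hb => c.comm_cl hrc fun y hy => hD y hy b hb)

/-- `[k, v] ∈ ⟨D⟩` -/
theorem qq_cl (hw : w ∈ D) (hv : v ∈ D) (hK : Mem Om w K) (hk : k ∈ K) : qq v k ∈ _root_.Subgroup.closure D := by
  have h1 := c.nil.nor w hw k (hK.le_RZ hk) v hv
  have hwv : w * v = v * w := c.nil.comm w hw v hv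
  have hkw := hK.comm_z c.h hk
  have hcl := c.nil.cl_sq c.h (_root_.Subgroup.subset_closure hv)
  rcases hK.sq_cases c.h hk with h2 | h2 | h2
  · rw [h2, qq_one]; exact one_mem _
  · rw [h2, qq]
    have h3 : w * (v * w * v⁻¹) = 1 := by
      rw [← hwv, mul_inv_cancel_right, (c.nil.inZ w hw).z2 c.h]
    rw [h3]; exact one_mem _
  · have h3 : k = w * k⁻¹ := by
      rw [← h2]; group
    have h4 : qq v k = w * (k * v * k⁻¹) * v⁻¹ := by
      calc qq v k = k * (v * (w * k⁻¹) * v⁻¹) := by rw [qq, ← h3]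
        _ = k * (v * w) * k⁻¹ * v⁻¹ := by group
        _ = (k * w) * v * k⁻¹ * v⁻¹ := by rw [← hwv]; group
        _ = _ := by rw [hkw]; group
    rw [h4]
    exact mul_mem (mul_mem (_root_.Subgroup.subset_closure hw) (_root_.Subgroup.subset_closure h1)) (inv_mem (_root_.Subgroup.subset_closure hv))

theorem comm_qq (hw : w ∈ D) (hxw : x * w = w * x) (hv : v ∈ D) (hs : Swp Om w v) (hK : Mem Om w K) (hk : k ∈ K) :
    x * qq v k = qq v k * x :=
  c.comm_of_mem hw hxw (qq_mem hs c.h hK hk) (c.qq_cl hw hv hK hk)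

/-- (KEY2) against REG -/
theorem no_TI (hw : w ∈ D) (hxw : x * w = w * x) (hy : y ∈ D) (hti : TI Om y w) : x * y * x⁻¹ ≠ y * w := by
  intro h1
  obtain ⟨r, hr, hyr⟩ := hti.exists_rz c.h
  obtain ⟨B, hBR, hB, hx, hD⟩ := c.reg w hw hxw
  have hrB : r ∈ B := by
    refine hB r hr fun b hb => ?_
    have h2 : y * b = b * y := hD y hy b hb
    have h3 : (y * r) * b = b * (y * r) := CX_comm (hBR hb) hyr
    have h4 : y * (r * b) = y * (b * r) := by
      calc y * (r * b) = (y * r) * b := by group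
        _ = (b * y) * r := by rw [h3]; group
        _ = _ := by rw [← h2]; group
    exact mul_left_cancel h4
  have h2 := hti.key2 c.h h1 hxw hr hyr
  rw [hx r hrB, mul_inv_cancel_right] at h2
  exact hti.inT.z1 c.h (right_eq_mul.1 h2)

/-- a moved element is a swap partner of its conjugate -/
theorem swp (hy : y ∈ D) (hne : x * y ≠ y * x) : Swp Om y (x * y * x⁻¹) := by
  have hy' := c.nor y hy
  have iy := c.nil.inZ y hy
  have iy' := c.nil.inZ _ hy'
  have hx' := c.inZ.inv c.h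
  have hxx := c.xx
  have hn : y ≠ x * y * x⁻¹ := fun h1 => hne (by rw [eq_mul_inv_iff_mul_eq] at h1; exact h1.symm)
  have hcm := c.nil.comm y hy _ hy'
  rcases tri c.h iy iy' hn hcm with h1 | h1 | ⟨h1, -⟩
  · exact absurd h1 (c.l0 y x iy c.inZ)
  · exfalso
    obtain ⟨L, hL⟩ := iy'
    obtain ⟨v, hv, -, -, hvy⟩ := h1.exists_mv c.h hL
    have hmD : y * (x * y * x⁻¹) ∈ D := by
      rw [← hvy]
      exact c.nil.nor _ hy' v (hL.le_RZ hv) y hy
    have hti : TI Om y (y * (x * y * x⁻¹)) := h1.mul_right c.h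
    refine c.no_TI hmD ?_ hy hti ?_
    · calc x * (y * (x * y * x⁻¹)) = (x * y * x⁻¹) * ((x * x) * y * x⁻¹) := by group
        _ = (x * y * x⁻¹) * (y * x⁻¹) := by rw [hxx, one_mul]
        _ = ((x * y * x⁻¹) * y) * x := by simp only [hx', mul_assoc]
        _ = _ := by rw [← hcm]
    · have hyy := iy.z2 c.h
      rw [← mul_assoc, hyy, one_mul]
  · rcases h1.cases with h2 | h2
    · exact h2
    · exact absurd h2 (c.nil.not_ff c.h hy (_root_.Subgroup.subset_closure hy'))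

/-- **`x` centralises no element of `⟨D⟩ ⊓ R_y` except `1`, if `y ∈ D` is moved** -/
theorem fix (hy : y ∈ D) (hr : r ∈ RZ Om y) (hrc : r ∈ _root_.Subgroup.closure D) (hr1 : r ≠ 1) (hry : r ≠ y)
    (hxr : x * r = r * x) : x * y = y * x := by
  by_contra hne
  have h := c.h
  have nil := c.nil
  have hs := c.swp hy hne
  have hxx := c.xx
  have hx' := c.inZ.inv h
  have hy' := c.nor y hy
  obtain ⟨N, _, _, ι, E⟩ := nil.exists_emb
  obtain ⟨β, F⟩ := nil.exists_form h E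
  obtain ⟨B, hB⟩ : ∃ B : N → AddSubgroup N, ∀ b x, x ∈ B b ↔ ι x ∈ RZ Om (ι b) := by
    refine ⟨fun b =>
      { carrier := {x | ι x ∈ RZ Om (ι b)}
        add_mem' := ?_
        zero_mem' := ?_
        neg_mem' := ?_ }, fun b x => Iff.rfl⟩
    · intro x y hx hy
      show ι (x + y) ∈ RZ Om (ι b)
      rw [E.add]; exact mul_mem hx hy
    · show ι 0 ∈ RZ Om (ι b)
      rw [E.zero]; exact one_mem _
    · intro x hx
      show ι (-x) ∈ RZ Om (ι b)
      rw [E.neg]; exact inv_mem hx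
  obtain ⟨-, act⟩ := nil.exists_one h E F B hB c.pat
  obtain ⟨y₀, rfl⟩ := E.ex (_root_.Subgroup.subset_closure hy)
  obtain ⟨r₀, rfl⟩ := E.ex hrc
  obtain ⟨y₁, hy₁⟩ := E.ex (_root_.Subgroup.subset_closure hy')
  rw [← hy₁] at hs hy'
  have b01 : β y₀ y₁ = 1 := (F.swp hy).2 hs
  have b10 : β y₁ y₀ = 1 := by rw [F.symm, b01]
  have hr' : ι r₀ ∈ RZ Om (ι y₁) := by
    have h1 := RZ_conj h x hr
    rwa [hxr, mul_inv_cancel_right, ← hy₁] at h1
  have b1r : β y₁ r₀ = 0 := F.perp nil h hy' hr'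
  have b0r : β y₀ r₀ = 0 := F.perp nil h hy hr
  have hr0 : r₀ ≠ 0 := fun h1 => hr1 (by rw [h1, E.zero])
  have hry0 : r₀ ≠ y₀ := fun h1 => hry (by rw [h1])
  obtain ⟨K, hK, k, hk, -, hact⟩ := act y₀ hy ⟨y₁, b01⟩ r₀ ((hB _ _).2 hr) hr0 hry0
  have m1 : k * ι y₁ * k⁻¹ = ι (y₁ + (r₀ + y₀)) := by
    rw [hact, sg, b10, b1r]; simp
  have m2 : k * ι r₀ * k⁻¹ = ι r₀ := by
    rw [hact, sg, F.symm r₀ y₀, b0r, F.alt]; simp
  have hmD : ι (y₁ + (r₀ + y₀)) ∈ D := by
    rw [← m1]; exact nil.nor _ hy k (hK.le_RZ hk) _ hy'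
  -- `m` is fixed
  have hxm : x * ι (y₁ + (r₀ + y₀)) = ι (y₁ + (r₀ + y₀)) * x := by
    have e1 : x * ι y₁ * x⁻¹ = ι y₀ := by
      rw [hy₁, hx']
      calc x * (x * ι y₀ * x) * x = (x * x) * ι y₀ * (x * x) := by group
        _ = _ := by rw [hxx, one_mul, mul_one]
    have e2 : x * ι r₀ * x⁻¹ = ι r₀ := by rw [hxr, mul_inv_cancel_right]
    have e3 : x * ι (y₁ + (r₀ + y₀)) * x⁻¹ = ι (y₁ + (r₀ + y₀)) := by
      rw [E.add, E.add]
      calc x * (ι y₁ * (ι r₀ * ι y₀)) * x⁻¹ = (x * ι y₁ * x⁻¹) * ((x * ι r₀ * x⁻¹) * (x * ι y₀ * x⁻¹)) := by group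
        _ = ι y₀ * (ι r₀ * ι y₁) := by rw [e1, e2, hy₁]
        _ = _ := by
          rw [← E.add, ← E.add, ← E.add, ← E.add]
          congr 1
          abel
    rw [mul_inv_eq_iff_eq_mul] at e3
    exact e3
  have bm0 : β (y₁ + (r₀ + y₀)) y₀ = 1 := by
    rw [F.addl, F.addl, b10, F.symm r₀, b0r, F.alt]; rfl
  have hsm : Swp Om (ι (y₁ + (r₀ + y₀))) (ι y₀) := (F.swp hmD).1 bm0
  have h1 := swp_comm_cx h hsm (E.sq nil h y₀) hxm
    (fun K hK k hk => c.comm_qq hmD hxm hy hsm hK hk) (nil.inZ _ hmD)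
  -- `r = y y' m` centralises `R_m`
  have h2 : ι r₀ ∈ CX Om (ι (y₁ + (r₀ + y₀))) := by
    have e1 : ι y₀ * x * (ι y₀)⁻¹ * x⁻¹ = ι (y₀ + y₁) := by
      have e0 : (ι y₀)⁻¹ = ι y₀ := inv_eq_of_mul_eq_one_right (E.sq nil h y₀)
      rw [E.add, hy₁, e0]; group
    rw [e1] at h1
    have e2 : ι r₀ = ι (y₀ + y₁) * ι (y₁ + (r₀ + y₀)) := by
      rw [← E.add]
      congr 1
      have two := E.two nil h
      calc r₀ = r₀ + (y₀ + y₀) + (y₁ + y₁) := by rw [two, two, add_zero, add_zero]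
        _ = _ := by abel
    rw [e2]
    exact mul_mem h1 (z_mem_CX h)
  have h3 : ι r₀ ∈ CX Om (ι y₁) := by
    rw [← CX_conj h k, m1, m2]; exact h2
  rcases RZ_CX h (nil.inZ _ hy') hr' h3 with h4 | h4
  · exact hr1 h4
  · have := E.inj h4
    rw [this, b01] at b0r
    exact absurd b0r (by decide)

/-- swap partners of fixed elements are fixed -/
theorem fix_swp (hw : w ∈ D) (hxw : x * w = w * x) (hy : y ∈ D) (hs : Swp Om w y) : x * y = y * x := by
  have h := c.h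
  have nil := c.nil
  obtain ⟨N, _, _, ι, E⟩ := nil.exists_emb
  obtain ⟨β, F⟩ := nil.exists_form h E
  obtain ⟨B, hB⟩ : ∃ B : N → AddSubgroup N, ∀ b x, x ∈ B b ↔ ι x ∈ RZ Om (ι b) := by
    refine ⟨fun b =>
      { carrier := {x | ι x ∈ RZ Om (ι b)}
        add_mem' := ?_
        zero_mem' := ?_
        neg_mem' := ?_ }, fun b x => Iff.rfl⟩
    · intro x y hx hy
      show ι (x + y) ∈ RZ Om (ι b)
      rw [E.add]; exact mul_mem hx hy
    · show ι 0 ∈ RZ Om (ι b)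
      rw [E.zero]; exact one_mem _
    · intro x hx
      show ι (-x) ∈ RZ Om (ι b)
      rw [E.neg]; exact inv_mem hx
  obtain ⟨one, act⟩ := nil.exists_one h E F B hB c.pat
  obtain ⟨w₀, rfl⟩ := E.ex (_root_.Subgroup.subset_closure hw)
  obtain ⟨y₀, rfl⟩ := E.ex (_root_.Subgroup.subset_closure hy)
  have bwy : β w₀ y₀ = 1 := (F.swp hw).2 hs
  have byw : β y₀ w₀ = 1 := by rw [F.symm, bwy]
  have hwS : w₀ ∈ {b | ι b ∈ D ∧ ∃ w, β b w = 1} := ⟨hw, y₀, bwy⟩
  have hyS : y₀ ∈ {b | ι b ∈ D ∧ ∃ w, β b w = 1} := ⟨hy, w₀, byw⟩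
  obtain ⟨a₁, a₂, a₃, ta⟩ := one.exists_tri hwS bwy
  obtain ⟨b₁, b₂, b₃, tb⟩ := one.exists_tri hyS byw
  -- `r = a₁ + a₂`
  have hrB : a₁ + a₂ ∈ B w₀ := add_mem ta.m₁ ta.m₂
  have byr : β y₀ (a₁ + a₂) = 0 := by rw [F.addr, ta.w₁, ta.w₂]; decide
  have hr0 : a₁ + a₂ ≠ 0 := by
    intro h1
    have h2 : β (a₁ + a₂) a₂ = 1 := by rw [F.addl, ta.c₁₂, F.alt]; rfl
    rw [h1, F.symm, F.zr] at h2
    exact absurd h2 (by decide)
  have bwr : β w₀ (a₁ + a₂) = 0 := F.perp nil h hw ((hB _ _).1 hrB)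
  have hxr : x * ι (a₁ + a₂) = ι (a₁ + a₂) * x := c.comm_of_mem hw hxw ((hB _ _).1 hrB) (E.cl _)
  have ne1 : ∀ {n : N}, n ≠ 0 → ι n ≠ 1 := fun hn h1 => hn (E.inj (by rw [h1, E.zero]))
  rcases one.pat hwS hyS bwy with h1 | h1
  · refine c.fix hy ((hB _ _).1 (h1 _ hrB byr)) (E.cl _) (ne1 hr0) (fun h2 => ?_) hxr
    rw [E.inj h2, bwy] at bwr
    exact absurd bwr (by decide)
  · obtain ⟨n0, n1⟩ := tb.ne₁ one hyS
    obtain ⟨K, hK, k, hk, -, hact⟩ := act y₀ hy ⟨w₀, byw⟩ b₁ tb.m₁ n0 n1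
    have hbr : β (a₁ + a₂) b₁ = 0 := h1 _ hrB byr _ tb.m₁
    have e1 : k * ι w₀ * k⁻¹ = ι (w₀ + b₁) := by rw [hact, tb.s₁ one hyS]
    have e2 : k * ι (a₁ + a₂) * k⁻¹ = ι (a₁ + a₂) := by
      rw [hact, sg, F.symm _ y₀, byr, hbr, sm_zero, sm_zero, add_zero, add_zero]
    have hw1 : ι (w₀ + b₁) ∈ D := by rw [← e1]; exact nil.nor _ hy k (hK.le_RZ hk) _ hw
    have hr1 : ι (a₁ + a₂) ∈ RZ Om (ι (w₀ + b₁)) := by
      have h3 := RZ_conj h k ((hB _ _).1 hrB)
      rwa [e1, e2] at h3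
    have hxw1 : x * ι (w₀ + b₁) = ι (w₀ + b₁) * x := by
      refine c.fix hw1 hr1 (E.cl _) (ne1 hr0) (fun h2 => ?_) hxr
      rw [E.inj h2, F.addr, F.alt, tb.w₁] at bwr
      exact absurd bwr (by decide)
    have hxb : x * ι b₁ = ι b₁ * x := by
      have h3 : ι b₁ = ι w₀ * ι (w₀ + b₁) := by
        rw [← E.add, ← add_assoc, E.two nil h, zero_add]
      rw [h3, ← mul_assoc, hxw, mul_assoc, hxw1, mul_assoc]
    exact c.fix hy ((hB _ _).1 tb.m₁) (E.cl _) (ne1 n0) (fun h2 => n1 (E.inj h2)) hxb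

/-- type I partners of fixed elements are fixed -/
theorem fix_ti (hw : w ∈ D) (hxw : x * w = w * x) (hy : y ∈ D) (hti : TI Om w y) : x * y = y * x := by
  by_contra hne
  have h := c.h
  have nil := c.nil
  have hs := c.swp hy hne
  have hv := c.nor y hy
  obtain ⟨v, hvd⟩ : ∃ v, v = x * y * x⁻¹ := ⟨_, rfl⟩
  rw [← hvd] at hs hv
  have hcom : ∀ {a b : G}, a ∈ D → b ∈ D → a * b = b * a := fun ha hb => nil.comm _ ha _ hb
  obtain ⟨v', hv', hs1, hs2⟩ : ∃ v' ∈ D, Swp Om w v' ∧ Swp Om y v' := by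
    by_cases hsw : Swp Om w v
    · exact ⟨v, hv, hsw, hs⟩
    obtain ⟨L, hL⟩ := hti.inT
    obtain ⟨κ, hκ, -, hκy, hκw⟩ := hti.exists_mv h hL
    have hv' : κ * v * κ⁻¹ ∈ D := nil.nor y hy κ (hL.le_RZ hκ) v hv
    have hwy : w * y ∈ D := by rw [← hκw]; exact nil.nor y hy κ (hL.le_RZ hκ) w hw
    have e1 : sI Om y (κ * v * κ⁻¹) = 1 := by
      have h1 := sI_conj (Om := Om) (z := y) (g := v) h κ
      rw [hκy, mul_inv_cancel_right] at h1
      rw [h1]; exact sI_eq_one.2 hs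
    have e2 : sI Om (w * y) (κ * v * κ⁻¹) = 0 := by
      rw [← hκw, sI_conj h κ]
      exact sI_eq_zero.2 hsw
    have e3 : sI Om w (κ * v * κ⁻¹) = 1 := by
      rw [nil.sI_symm h hwy hv', sI_mul h (nil.inZ _ hv') (hcom hw hv') (hcom hy hv'),
        nil.sI_symm h hv' hw, nil.sI_symm h hv' hy, e1] at e2
      have key : ∀ s : ZMod 2, s + 1 = 0 → s = 1 := by decide
      exact key _ e2
    exact ⟨_, hv', sI_eq_one.1 e3, sI_eq_one.1 e1⟩
  have h1 := c.fix_swp hw hxw hv' hs1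
  refine hne (c.fix_swp hv' h1 hy ?_)
  rw [← sI_eq_one, nil.sI_symm h hv' hy]
  exact sI_eq_one.2 hs2

/-- `w` fixed, `y` not a C-partner of `w` : `y` is fixed -/
theorem all (hw : w ∈ D) (hxw : x * w = w * x) (hy : y ∈ D) (hne : w ≠ y) (hc : ¬ CP Om w y) : x * y = y * x := by
  rcases tri c.h (c.nil.inZ w hw) (c.nil.inZ y hy) hne (c.nil.comm w hw y hy) with h1 | h1 | ⟨h1, -⟩
  · exact absurd h1 hc
  · exact c.fix_ti hw hxw hy h1
  · rcases h1.cases with h2 | h2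
    · exact c.fix_swp hw hxw hy h2
    · exact absurd h2 (c.nil.not_ff c.h hw (_root_.Subgroup.subset_closure hy))

end CW

/-- (111) in `Z(s)`, from the rotations in `C(T)` -/
theorem pat1_ZS (h : WM Om) (l0 : L0 Om) (ant : ANT Om) (rot : ∀ S : Sylow 2 G, RotS Om (S : Subgroup G))
    (S : Sylow 2 G) (hs : s ∈ TT Om (S : Subgroup G)) (hs1 : s ≠ 1) : Pat1 Om (ZS Om s) := by
  refine (nilS_ZS' h l0 (ant S s hs hs1)).pat1_of_rot h fun b hb _ => ?_
  obtain ⟨P, hsP, hbP, -, -⟩ := exists_psi h S hs hb hb.1 (ZS_comm_s h hb).symm rfl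
  obtain ⟨K, hK⟩ := hb.1
  obtain ⟨c, hc, hcT⟩ := rot P b K hK (CS.le hbP h hK)
  refine ⟨c, fun d hd => ZS_conj h hd (hcT s hsP), K, hK, hc.1, fun k hk hkk hcom => ?_⟩
  have hck : c * k * c⁻¹ ∈ K := by
    have := conj_mem_cj (g := c) hk
    rwa [hc.1] at this
  obtain ⟨h1, h2⟩ := hc.2 k hk hkk
  have hcb : c * b = b * c := hK.of_cj h hc.1
  have hckk : (c * k * c⁻¹) * (c * k * c⁻¹) = b := by
    calc (c * k * c⁻¹) * (c * k * c⁻¹) = c * (k * k) * c⁻¹ := by group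
      _ = b := by rw [hkk, hcb, mul_inv_cancel_right]
  rcases hK.of_comm h hk hkk hck hcom with h3 | h3 | h3 | h3
  · rw [h3, one_mul] at hckk
    exact hb.1.z1 h hckk.symm
  · rw [h3, hb.1.z2 h] at hckk
    exact hb.1.z1 h hckk.symm
  · exact h1 h3
  · exact h2 h3

/-- **CENT in world SW** -/
theorem cent_sw (h : WM Om) (l0 : L0 Om) (ant : ANT Om) (rot : ∀ S : Sylow 2 G, RotS Om (S : Subgroup G))
    (reg : RegSW Om) : CENT Om := by
  intro S x hx hxS s hs hs1 y hy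
  have hxs : x * s = s * x := comm_TT_of_NCS h l0 S.isPGroup' hx hxS hs
  have cw : CW Om (ZS Om s) x := {
    h := h
    l0 := l0
    nil := nilS_ZS' h l0 (ant S s hs hs1)
    pat := pat1_ZS h l0 ant rot S hs hs1
    inZ := hx
    nor := fun y hy => ZS_conj h hy hxs
    reg := fun w hw hxw => by
      obtain ⟨P, hsP, hwP, -, hpsi⟩ := exists_psi h S hs hw hx hxs hxw
      obtain ⟨B, h1, h2, h3⟩ := reg P w hwP
      exact ⟨B, h1, h2, h3 x hpsi.1 hpsi.2, fun y hy =>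
        have hyP := Psi.of_ZS h l0 ant P hsP hs1 hy
        h3 y hyP.1 hyP.2⟩ }
  by_contra hne
  have hyS : y ∉ CS Om (S : Subgroup G) := fun h1 => hne (comm_CS_of_NCS h l0 S.isPGroup' hx hxS h1)
  obtain ⟨w, hw, hwy, hcp⟩ := exists_ncp h S hy.1 hyS
  exact hne (cw.all (CS_subset_ZS h S.isPGroup' hs hw) (comm_CS_of_NCS h l0 S.isPGroup' hx hxS hw) hy hwy hcp)

end Fin

end Cfsg.Agent.Cit.Nil.RTwoM
end

-- part: Cit/Nil/RTwoM/U/NsReg
section
/-!
# S1309, (6b), (C3), `r = 2`, any `m`, `LAMBDA0 ⟹ StarC` (helper762's uniform proof), section 4.2: world NS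

* `NSW Om` : no `Z(s)`, `s ∈ T_S#`, contains a swap pair;
* `NSW.inn` : `n ∈ N_s` is inner at `y ∈ Z(s)`;
* **`NSW.exists_t`** : every `x ∈ Ψ_S` centralises some `t ∈ T_S#` together with `R_x`;
* `NSW.inn_psi` : `x ∈ Ψ_S` is inner at `w ∈ C_S`; `NSW.index_two` : `|T : T_x| ≤ 2`;
* **`NSW.starC`** : `|T| > 4`: `StarC`.
-/

set_option autoImplicit false
set_option linter.style.haveILetI false
set_option linter.unusedSectionVars false

namespace Cfsg.Agent.Cit.Nil.RTwoM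

open Subgroup Cfsg Cfsg.Agent.Cit
open RG (WR CP Ov InO)
open RI (CS)

variable {G : Type*} [Group G] {Om : Set (Subgroup G)} {K L M X A : Subgroup G} {a b c d e g k l m n s t u v w x y z : G}

/-- world NS : no `Z(s)` contains a swap pair -/
def NSW (Om : Set (Subgroup G)) : Prop := ∀ (S : Sylow 2 G), ∀ s ∈ TT Om (S : Subgroup G), s ≠ 1 →
  ∀ y ∈ ZS Om s, ∀ y' ∈ ZS Om s, ¬ Swp Om y y'

section Fin

variable [Finite G]

theorem CS.ne1 {S : Subgroup G} (h : WM Om) (hz : z ∈ CS Om S) : z ≠ 1 := (CS.inZ hz).z1 h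

theorem not_self_of_free {S : Subgroup G} (h : WM Om) (hf : Free Om S x) (hw : w ∈ CS Om S) : w ∉ CX Om x := fun h1 =>
  CS.ne1 h hw (hf w (CS.mem_TT hw) h1)

/-- an element of `Ψ_S` which is inner at two elements of `C_S` is not free -/
theorem not_free_of_inn (h : WM Om) {S : Subgroup G} (hS : IsPGroup 2 S) (hx : InZ Om x) (hz : z ∈ CS Om S)
    (hu : u ∈ CS Om S) (hzu : z ≠ u) (h1 : Inn Om z x) (h2 : Inn Om u x) : ¬ Free Om S x := by
  intro hf
  have key : ∀ w ∈ CS Om S, Inn Om w x → TI Om x w := by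
    intro w hw hi
    rcases hi.cases h (CS.inZ hw) hx with h3 | h3 | h3
    · exfalso
      subst h3
      exact not_self_of_free h hf hw (z_mem_CX h)
    · exact (not_self_of_free h hf hw ((cen_iff h hx (CS.inZ hw)).2 (Or.inr h3.symm))).elim
    · exact h3.symm h
  have h3 := tt_II_cx h (CS.cp hz h hS hu hzu) (key z hz h1) (key u hu h2)
  have h4 := hf _ (mul_mem (CS.mem_TT hz) (CS.mem_TT hu)) h3
  apply hzu
  have h5 : z = u⁻¹ := eq_inv_of_mul_eq_one_left h4
  rw [h5, (CS.inZ hu).inv h]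

/-- `u ∈ C_S` swapping the members over `x`: `x` is not inner at `u` -/
theorem Swp.not_inn_symm (hs : Swp Om x u) (h : WM Om) (hx : InZ Om x) (hu : InZ Om u) :
    ¬ Inn Om u x := by
  intro hi
  obtain ⟨K, hK⟩ := hx
  exact hs.2 K hK ((hi.symm hu hK.inZ h).cj_eq hK h)

namespace NSW

variable (ns : NSW Om)
include ns

/-- the elements of `N_s` are inner at the elements of `Z(s)` -/
theorem inn (h : WM Om) (l0 : L0 Om) (an : ANT Om) (S : Sylow 2 G) (hs : s ∈ TT Om (S : Subgroup G)) (hs1 : s ≠ 1)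
    (hy : y ∈ ZS Om s) (hn : n ∈ NZ Om s) : Inn Om y n := by
  have nil := nilS_ZS' h l0 (an S s hs hs1)
  have hyZ := hy.1
  induction hn using closure_induction with
  | mem w hw =>
    by_cases hyw : y = w
    · subst hyw; exact Inn.of_CX (z_mem_CX h)
    rcases tri h hyZ hw.1 hyw (nil.comm y hy w hw) with h1 | h1 | ⟨h1, -⟩
    · exact inn_of_cp h hw.1 h1
    · exact h1.inn
    · exfalso
      rcases h1.cases with h2 | h2
      · exact ns S s hs hs1 y hy w hw h2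
      · exact nil.not_ff h hy (mem_NZ hw) h2
  | one => exact Inn.one
  | mul a b _ _ iha ihb => exact iha.mul ihb hyZ h
  | inv a _ iha => exact iha.inv hyZ h

theorem inn_AAS (h : WM Om) (l0 : L0 Om) (an : ANT Om) (S : Sylow 2 G) (hw : w ∈ CS Om (S : Subgroup G))
    (hx : x ∈ AAS Om (S : Subgroup G)) : Inn Om w x := by
  have hwZ := CS.inZ hw
  induction hx using closure_induction with
  | mem y hy =>
    obtain ⟨t, ht, ht1, hy⟩ := hy
    exact ns.inn h l0 an S ht ht1 (CS_subset_ZS h S.isPGroup' ht hw) (mem_NZ hy)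
  | one => exact Inn.one
  | mul a b _ _ iha ihb => exact iha.mul ihb hwZ h
  | inv a _ iha => exact iha.inv hwZ h

/-- (R1a) in NS: no element of `C_S` is of type I at `x` if another one is a swap, `|T_S| ≤ 4` -/
theorem no_a (h : WM Om) (l0 : L0 Om) (an : ANT Om) (S : Sylow 2 G) (hz : z ∈ CS Om (S : Subgroup G))
    (hu : u ∈ CS Om (S : Subgroup G)) (hzu : z ≠ u)
    (hT : ∀ t ∈ TT Om (S : Subgroup G), t = 1 ∨ t = z ∨ t = u ∨ t = z * u) (hti : TI Om x z) (hs : Swp Om x u) : False := by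
  have hzZ := CS.inZ hz
  have huZ := CS.inZ hu
  have hcp := CS.cp hz h S.isPGroup' hu hzu
  have h4 : ∀ e, InZ Om e → CP Om z e → CP Om u e → e = z * u := by
    intro e he h1 h2
    have h3 : TT Om (S : Subgroup G) ≤ CX Om e := by
      intro t ht
      have hze : z ∈ CX Om e := (cen_iff h he hzZ).2 (Or.inr h1.symm)
      have hue : u ∈ CX Om e := (cen_iff h he huZ).2 (Or.inr h2.symm)
      rcases hT t ht with rfl | rfl | rfl | rfl
      · exact one_mem _
      · exact hze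
      · exact hue
      · exact mul_mem hze hue
    have h5 : e ∈ CS Om (S : Subgroup G) := by
      refine mem_CS_of_clique h S he fun w hw => ?_
      rcases (cen_iff h he (CS.inZ hw)).1 (h3 (CS.mem_TT hw)) with h6 | h6
      · exact Or.inl h6.symm
      · exact Or.inr h6.symm
    rcases hT e (CS.mem_TT h5) with h6 | h6 | h6 | h6
    · exact (he.z1 h h6).elim
    · exact (h1.1 h6.symm).elim
    · exact (h2.1 h6.symm).elim
    · exact h6
  have hzT := CS.mem_TT hz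
  rcases r_one_a h l0 (an S z hzT (hzZ.z1 h)) huZ hcp hti hs h4 with h1 | ⟨y, hy, a, k, ha, haz, -, -, -, -, h2, h3⟩
  · exact hti.not_mem_CX h (NZ_le_CX h hzZ h1)
  · exact ns S z hzT (hzZ.z1 h) u (CS_subset_ZS h S.isPGroup' hzT hu) _ h2 h3

/-- the exceptional action of `T_S` on `R_x` does not occur -/
theorem no_ex (h : WM Om) (l0 : L0 Om) (an : ANT Om) (S : Sylow 2 G) (hz : z ∈ CS Om (S : Subgroup G))
    (hu : u ∈ CS Om (S : Subgroup G)) (hzu : z ≠ u) {p s : G} (hx : InZ Om x)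
    (ex : Ex4 Om (S : Subgroup G) x p s) :
    (∀ t ∈ TT Om (S : Subgroup G), t = 1 ∨ t = z ∨ t = u ∨ t = z * u) ∧ z * u = s ∧ Swp Om x z ∧ Swp Om x u := by
  have hS := S.isPGroup'
  have hzZ := CS.inZ hz
  have huZ := CS.inZ hu
  have hzT := CS.mem_TT hz
  have huT := CS.mem_TT hu
  have hz1 := hzZ.z1 h
  have hu1 := huZ.z1 h
  have hzz := hzZ.z2 h
  have huu := huZ.z2 h
  have hpp := TT_sq h hS ex.pT
  have hss := TT_sq h hS ex.sT
  have hps := TT_comm h hS ex.pT ex.sT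
  obtain ⟨K, hK⟩ := hx
  obtain ⟨a, ha, haa, hA, hA'⟩ := ex.as K hK
  have hxZ := hK.inZ
  have hxs : s * x = x * s := hK.of_cj h hA.cj_eq
  have hxp := ex.swp.1
  have hp1 : p ≠ 1 := by
    rintro rfl
    exact ex.swp.2 K hK (cj_one K)
  have hne : s ≠ p := by
    intro h1
    rw [h1] at hA
    exact ex.swp.2 K hK hA.cj_eq
  have hsw' : Swp Om x (p * s) := swp_mul_fix h hK ex.swp hxs hA.cj_eq
  -- `s ∉ C_S`
  have hT' : ∀ z u, z ∈ CS Om (S : Subgroup G) → u ∈ CS Om (S : Subgroup G) → z ≠ u → z = s →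
      (∀ t ∈ TT Om (S : Subgroup G), t = 1 ∨ t = z ∨ t = u ∨ t = z * u) ∧ Swp Om x u := by
    intro z u hz hu hzu hzs
    subst hzs
    rcases ex.all u (CS.mem_TT hu) with h1 | h1 | h1 | h1
    · exact ((CS.inZ hu).z1 h h1).elim
    · exact (hzu h1.symm).elim
    · subst h1
      refine ⟨fun t ht => ?_, ex.swp⟩
      rcases ex.all t ht with h2 | h2 | h2 | h2
      · exact Or.inl h2
      · exact Or.inr (Or.inl h2)
      · exact Or.inr (Or.inr (Or.inl h2))
      · exact Or.inr (Or.inr (Or.inr (h2.trans hps)))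
    · subst h1
      refine ⟨fun t ht => ?_, hsw'⟩
      rcases ex.all t ht with h2 | h2 | h2 | h2
      · exact Or.inl h2
      · exact Or.inr (Or.inl h2)
      · refine Or.inr (Or.inr (Or.inr ?_))
        rw [h2, hps, ← mul_assoc, hss, one_mul]
      · exact Or.inr (Or.inr (Or.inl h2))
  have key : ∀ z u, z ∈ CS Om (S : Subgroup G) → u ∈ CS Om (S : Subgroup G) → z ≠ u → z ≠ s := by
    intro z u hz hu hzu hzs
    obtain ⟨h1, h2⟩ := hT' z u hz hu hzu hzs
    have hti : TI Om x z := by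
      subst hzs
      refine TI.of_one h hK (CS.inZ hz) ?_ ?_ ?_
      · rintro rfl
        exact hK.not_as_one h hA haa (hK.as_z h)
      · intro k hk
        rw [hA.2 k hk]
        exact hK.comm_or h hk ha
      · intro h3
        exact hK.not_as_one h hA haa (As.one_iff.2 h3)
    exact ns.no_a h l0 an S hz hu hzu h1 hti h2
  have hzs := key z u hz hu hzu
  have hus := key u z hu hz (Ne.symm hzu)
  -- `{z, u} = {p, p s}`
  have hzc : z = p ∨ z = p * s := by
    rcases ex.all z hzT with h1 | h1 | h1 | h1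
    · exact (hz1 h1).elim
    · exact (hzs h1).elim
    · exact Or.inl h1
    · exact Or.inr h1
  have huc : u = p ∨ u = p * s := by
    rcases ex.all u huT with h1 | h1 | h1 | h1
    · exact (hu1 h1).elim
    · exact (hus h1).elim
    · exact Or.inl h1
    · exact Or.inr h1
  have e1 : p * (p * s) = s := by rw [← mul_assoc, hpp, one_mul]
  have e2 : (p * s) * p = s := by rw [mul_assoc, ← hps, ← mul_assoc, hpp, one_mul]
  have e3 : p * s * s = p := by rw [mul_assoc, hss, mul_one]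
  rcases hzc with h1 | h1 <;> rcases huc with h2 | h2
  · exact (hzu (h1.trans h2.symm)).elim
  · refine ⟨fun t ht => ?_, by rw [h1, h2, e1], h1 ▸ ex.swp, h2 ▸ hsw'⟩
    rw [h1, h2, e1]
    rcases ex.all t ht with h3 | h3 | h3 | h3
    · exact Or.inl h3
    · exact Or.inr (Or.inr (Or.inr h3))
    · exact Or.inr (Or.inl h3)
    · exact Or.inr (Or.inr (Or.inl h3))
  · refine ⟨fun t ht => ?_, by rw [h1, h2, e2], h1 ▸ hsw', h2 ▸ ex.swp⟩
    rw [h1, h2, e2]
    rcases ex.all t ht with h3 | h3 | h3 | h3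
    · exact Or.inl h3
    · exact Or.inr (Or.inr (Or.inr h3))
    · exact Or.inr (Or.inr (Or.inl h3))
    · exact Or.inr (Or.inl h3)
  · exact (hzu (h1.trans h2.symm)).elim

/-- **4.2(a)** -/
theorem exists_t (h : WM Om) (l0 : L0 Om) (an : ANT Om) (S : Sylow 2 G) (hz : z ∈ CS Om (S : Subgroup G))
    (hu : u ∈ CS Om (S : Subgroup G)) (hzu : z ≠ u) (hx : Psi Om (S : Subgroup G) x) :
    ∃ t ∈ TT Om (S : Subgroup G), t ≠ 1 ∧ t ∈ CX Om x := by
  have hS := S.isPGroup'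
  by_contra hcon
  push Not at hcon
  have key : ∀ x, Psi Om (S : Subgroup G) x → Free Om (S : Subgroup G) x → Swp Om x z ∧ Swp Om x u ∧
      (∀ t ∈ TT Om (S : Subgroup G), t = 1 ∨ t = z ∨ t = u ∨ t = z * u) ∧
      (∀ K, Mem Om x K → ∃ a ∈ K, a * a = x ∧ As K (z * u) a) := by
    intro x hx hf
    rcases rzero h l0 an S hx.1 (fun t ht => (hx.comm_TT h l0 hS ht).symm) hf hz hu hzu with h1 | ⟨p, s, ex⟩
    · exact (not_free_of_inn h hS hx.1 hz hu hzu (ns.inn_AAS h l0 an S hz h1) (ns.inn_AAS h l0 an S hu h1) hf).elim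
    · obtain ⟨h1, h2, h3, h4⟩ := ns.no_ex h l0 an S hz hu hzu hx.1 ex
      refine ⟨h3, h4, h1, fun K hK => ?_⟩
      obtain ⟨a, ha, haa, hA, -⟩ := ex.as K hK
      exact ⟨a, ha, haa, h2 ▸ hA⟩
  have hfx : Free Om (S : Subgroup G) x := fun t ht htx => by
    by_contra ht1
    exact hcon t ht ht1 htx
  obtain ⟨hxz, hxu, hT, hAs⟩ := key x hx hfx
  obtain ⟨K, hK⟩ := hx.1
  obtain ⟨a, ha, haa, hA⟩ := hAs K hK
  have hzZ := CS.inZ hz
  have huZ := CS.inZ hu
  have hcp := CS.cp hz h hS hu hzu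
  have hzT := CS.mem_TT hz
  have huT := CS.mem_TT hu
  obtain ⟨l, hl, hll, hal, hxe, heN, hk⟩ := r_one_c h hzZ huZ hx.1 hcp hxz hK hA haa
  have hzu1 : z * u ≠ 1 := by
    intro h1
    apply hzu
    rw [eq_inv_of_mul_eq_one_left h1, huZ.inv h]
  -- the conjugates `k z k⁻¹` are inner at `z`
  have key2 : ∀ k ∈ K, a * k ≠ k * a → Inn Om z (k * z * k⁻¹) := by
    intro k hk1 hk2
    obtain ⟨h1, h2, h3⟩ := hk k hk1 hk2
    obtain ⟨v, hv⟩ : ∃ v, v = k * z * k⁻¹ := ⟨_, rfl⟩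
    rw [← hv] at h1 h2 h3 ⊢
    have hvZ : InZ Om v := by rw [hv]; exact hzZ.conj h k
    have hTv : ∀ t ∈ TT Om (S : Subgroup G), v * t = t * v := by
      intro t ht
      rcases hT t ht with rfl | rfl | rfl | rfl
      · rw [one_mul, mul_one]
      · exact h1
      · exact h2
      · rw [← mul_assoc, h1, mul_assoc, h2, mul_assoc]
    have hvP : Psi Om (S : Subgroup G) v := Psi.of_comm hvZ fun w hw => hTv w (CS.mem_TT hw)
    by_cases hf : Free Om (S : Subgroup G) v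
    · exfalso
      obtain ⟨-, -, -, h4⟩ := key v hvP hf
      apply h3
      intro M hM k hk
      obtain ⟨b, hb, -, hB⟩ := h4 M hM
      rw [hB.2 k hk]
      exact hM.comm_or h hk hb
    · rw [Free] at hf
      push Not at hf
      obtain ⟨t, ht, htv, ht1⟩ := hf
      exact ns.inn h l0 an S ht ht1 (CS_subset_ZS h hS ht hz) (mem_NZ ⟨hvZ, htv⟩)
  have h1 := key2 l hl hal
  have hal' : a * (a * l) ≠ (a * l) * a := by
    intro h2
    apply hal
    have h3 : a * (a * l) = a * (l * a) := by rw [h2, mul_assoc]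
    exact mul_left_cancel h3
  have h2 := key2 (a * l) (mul_mem ha hl) hal'
  have h3 : Inn Om z (z * a * z⁻¹ * a⁻¹) :=
    ns.inn h l0 an S (mul_mem hzT huT) hzu1 (CS_subset_ZS h hS (mul_mem hzT huT) hz) heN
  have h4 : Inn Om z x := by
    rw [hxe]
    exact (h3.mul h1 hzZ h).mul h2 hzZ h
  exact hxz.not_inn_symm h hx.1 hzZ h4

/-- the elements of `Ψ_S` are inner at the elements of `C_S` -/
theorem inn_psi (h : WM Om) (l0 : L0 Om) (an : ANT Om) (S : Sylow 2 G) (hz : z ∈ CS Om (S : Subgroup G))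
    (hu : u ∈ CS Om (S : Subgroup G)) (hzu : z ≠ u) (hx : Psi Om (S : Subgroup G) x)
    (hw : w ∈ CS Om (S : Subgroup G)) : Inn Om w x := by
  obtain ⟨t, ht, ht1, htx⟩ := ns.exists_t h l0 an S hz hu hzu hx
  exact ns.inn h l0 an S ht ht1 (CS_subset_ZS h S.isPGroup' ht hw) (mem_NZ ⟨hx.1, htx⟩)

/-- **4.2(b)** : `|T : T_x| ≤ 2` -/
theorem index_two (h : WM Om) (l0 : L0 Om) (an : ANT Om) (S : Sylow 2 G) (hz : z ∈ CS Om (S : Subgroup G))
    (hu : u ∈ CS Om (S : Subgroup G)) (hzu : z ≠ u) (hx : Psi Om (S : Subgroup G) x) {s t : G}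
    (hs : s ∈ TT Om (S : Subgroup G)) (ht : t ∈ TT Om (S : Subgroup G)) (hsx : s ∉ CX Om x) (htx : t ∉ CX Om x) :
    s * t ∈ CX Om x := by
  have hS := S.isPGroup'
  obtain ⟨e, he, hex⟩ : ∃ e ∈ CS Om (S : Subgroup G), e ∉ CX Om x := by
    by_contra hcon
    push Not at hcon
    exact hsx ((closure_le (K := CX Om x)).2 hcon hs)
  have heZ := CS.inZ he
  have heT := CS.mem_TT he
  have hee := heZ.z2 h
  have hin : ∀ w ∈ CS Om (S : Subgroup G), w ∉ CX Om x → TI Om x w := by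
    intro w hw hwx
    rcases (ns.inn_psi h l0 an S hz hu hzu hx hw).cases h (CS.inZ hw) hx.1 with h1 | h1 | h1
    · exact (hwx (by rw [h1]; exact z_mem_CX h)).elim
    · exact (hwx ((cen_iff h hx.1 (CS.inZ hw)).2 (Or.inr h1.symm))).elim
    · exact h1.symm h
  have key : ∀ t ∈ TT Om (S : Subgroup G), t ∈ CX Om x ∨ e * t ∈ CX Om x := by
    intro t ht
    induction ht using closure_induction with
    | mem w hw =>
      by_cases hwx : w ∈ CX Om x
      · exact Or.inl hwx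
      right
      by_cases hew : e = w
      · rw [← hew, hee]; exact one_mem _
      · exact tt_II_cx h (CS.cp he h hS hw hew) (hin e he hex) (hin w hw hwx)
    | one => exact Or.inl (one_mem _)
    | mul a b ha hb iha ihb =>
      have hea := TT_comm h hS heT ha
      rcases iha with h1 | h1 <;> rcases ihb with h2 | h2
      · exact Or.inl (mul_mem h1 h2)
      · right
        rw [← mul_assoc, hea, mul_assoc]
        exact mul_mem h1 h2
      · right
        rw [← mul_assoc]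
        exact mul_mem h1 h2
      · left
        have h3 : a * b = (e * a) * (e * b) := by
          calc a * b = a * (e * e) * b := by rw [hee, mul_one]
            _ = (a * e) * (e * b) := by group
            _ = _ := by rw [hea]
        rw [h3]
        exact mul_mem h1 h2
    | inv a ha iha =>
      have haa := TT_sq h hS ha
      rw [inv_eq_of_mul_eq_one_right haa]
      exact iha
  rcases key s hs with h1 | h1
  · exact (hsx h1).elim
  rcases key t ht with h2 | h2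
  · exact (htx h2).elim
  have h3 : s * t = (e * s) * (e * t) := by
    calc s * t = s * (e * e) * t := by rw [hee, mul_one]
      _ = (s * e) * (e * t) := by group
      _ = _ := by rw [TT_comm h hS heT hs]
  rw [h3]
  exact mul_mem h1 h2

/-- **NS, `|T| > 4`: the elements of `Ψ_S` commute** -/
theorem comm_psi (h : WM Om) (l0 : L0 Om) (an : ANT Om) (S : Sylow 2 G) (hz : z ∈ CS Om (S : Subgroup G))
    (hu : u ∈ CS Om (S : Subgroup G)) (hzu : z ≠ u) (hT : 4 < Nat.card (TT Om (S : Subgroup G)))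
    (hx : Psi Om (S : Subgroup G) x) (hy : Psi Om (S : Subgroup G) y) : x * y = y * x := by
  classical
  have hS := S.isPGroup'
  -- pigeonhole
  haveI : Fintype (TT Om (S : Subgroup G)) := Fintype.ofFinite _
  obtain ⟨⟨s, hs⟩, ⟨t, ht⟩, hne, hst⟩ := Fintype.exists_ne_map_eq_of_card_lt
    (fun t : TT Om (S : Subgroup G) => (decide ((t : G) ∈ CX Om x), decide ((t : G) ∈ CX Om y)))
    (by rw [Fintype.card_prod, Fintype.card_bool, ← Nat.card_eq_fintype_card]; omega)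
  simp only [Prod.mk.injEq, decide_eq_decide] at hst
  have hst1 : s * t ≠ 1 := by
    intro h1
    apply hne
    have h2 : s = t⁻¹ := eq_inv_of_mul_eq_one_left h1
    have htt := TT_sq h hS ht
    apply Subtype.ext
    change s = t
    rw [h2, inv_eq_of_mul_eq_one_right htt]
  have key : ∀ x, Psi Om (S : Subgroup G) x → (s ∈ CX Om x ↔ t ∈ CX Om x) → s * t ∈ CX Om x := by
    intro x hx hiff
    by_cases h1 : s ∈ CX Om x
    · exact mul_mem h1 (hiff.1 h1)
    · exact ns.index_two h l0 an S hz hu hzu hx hs ht h1 fun h2 => h1 (hiff.2 h2)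
  exact ZS_comm h l0 (an S _ (mul_mem hs ht) hst1) ⟨hx.1, key x hx hst.1⟩ ⟨hy.1, key y hy hst.2⟩

theorem starC (h : WM Om) (l0 : L0 Om) (an : ANT Om) (hT : ∀ S : Sylow 2 G, 4 < Nat.card (TT Om (S : Subgroup G))) :
    StarC Om := by
  intro S x y hx hy hxS hyS
  obtain ⟨z, hz, u, hu, hzu⟩ : ∃ z ∈ CS Om (S : Subgroup G), ∃ u ∈ CS Om (S : Subgroup G), z ≠ u := by
    by_contra hcon
    push Not at hcon
    have h1 : ∀ t ∈ TT Om (S : Subgroup G), ∀ z ∈ CS Om (S : Subgroup G), t = 1 ∨ t = z := by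
      intro t ht z hz
      have hzz := (CS.inZ hz).z2 h
      induction ht using closure_induction with
      | mem w hw => exact Or.inr (hcon w hw z hz)
      | one => exact Or.inl rfl
      | mul a b _ _ iha ihb =>
        rcases iha with rfl | rfl <;> rcases ihb with rfl | rfl
        · left; rw [one_mul]
        · right; rw [one_mul]
        · right; rw [mul_one]
        · left; exact hzz
      | inv a _ iha =>
        rcases iha with rfl | rfl
        · left; rw [inv_one]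
        · right; exact (CS.inZ hz).inv h
    have h2 : ∃ z, (TT Om (S : Subgroup G) : Set G) ⊆ {1, z} := by
      by_cases hne : ∃ z, z ∈ CS Om (S : Subgroup G)
      · obtain ⟨z, hz⟩ := hne
        exact ⟨z, fun t ht => h1 t ht z hz⟩
      · push Not at hne
        refine ⟨1, fun t ht => ?_⟩
        have h3 : TT Om (S : Subgroup G) ≤ ⊥ := (closure_le _).2 fun w hw => (hne w hw).elim
        exact Or.inl (mem_bot.1 (h3 ht))
    obtain ⟨z, h2⟩ := h2
    have h3 := Set.ncard_le_ncard h2 (Set.toFinite _)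
    have h4 := Set.ncard_insert_le (1 : G) {z}
    rw [Set.ncard_singleton] at h4
    have h5 : (TT Om (S : Subgroup G) : Set G).ncard = Nat.card (TT Om (S : Subgroup G)) := (Nat.card_coe_set_eq _).symm
    have h6 := hT S
    omega
  exact ns.comm_psi h l0 an S hz hu hzu (hT S) ⟨hx, hxS⟩ ⟨hy, hyS⟩

end NSW

end Fin

end Cfsg.Agent.Cit.Nil.RTwoM
end

-- part: Cit/Nil/RTwoM/Line
section
/-!
# S1309, (6b), (C3), `r = 2`, any `m` : THE CANONICAL LINE (#20332 (4))

* `RotZ Om`, `C3R.rotZ` : every member has a rotation (in the form `k · k^c ≠ k^c · k`);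
* **`exists_rot`** : the rotation may be chosen normalising `C_S`;
* **`line_eq`** : `x`, `y` swaps at `z`, `g` a rotation of a member over `z`, and every swap `v` of a `g`-closed set `P`
  containing `x`, `y` normalises `C_{R_z}(u)` for every other swap `u` of `P` : then `y` centralises `C_{R_z}(x)`;
* `line_fix` : the same conclusion for `C_{R_z}(x)` as a set; `line_hyp` : how to get the hypothesis.
-/

set_option autoImplicit false
set_option linter.style.haveILetI false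
set_option linter.unusedSectionVars false

namespace Cfsg.Agent.Cit.Nil.RTwoM

open Subgroup Cfsg Cfsg.Agent.Cit
open RG (WR CP Ov InO)
open RI (CS)
open RTwo (Q3 Act)

variable {G : Type*} [Group G] {Om : Set (Subgroup G)} {K L M : Subgroup G} {c r u v x y z g k n : G}

section Fin

variable [Finite G]

/-- an element of order 4 is not moved to a commuting one by a rotation -/
theorem Rot.nc (hr : Rot z K c) (h : WM Om) (hK : Mem Om z K) (hk : k ∈ K) (hkk : k * k = z) :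
    k * (c * k * c⁻¹) ≠ (c * k * c⁻¹) * k := by
  intro h5
  have hcz : c * z = z * c := hK.of_cj h hr.1
  have hcy : c * k * c⁻¹ ∈ K := by
    have := conj_mem_cj (g := c) hk
    rwa [hr.1] at this
  have hcyy : c * k * c⁻¹ * (c * k * c⁻¹) = z := by
    calc c * k * c⁻¹ * (c * k * c⁻¹) = c * (k * k) * c⁻¹ := by group
      _ = z := by rw [hkk, hcz, mul_inv_cancel_right]
  obtain ⟨h1, h2⟩ := hr.2 k hk hkk
  rcases hK.of_comm h hk hkk hcy h5 with h6 | h6 | h6 | h6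
  · rw [h6, one_mul] at hcyy; exact hK.inZ.z1 h hcyy.symm
  · rw [h6, hK.inZ.z2 h] at hcyy; exact hK.inZ.z1 h hcyy.symm
  · exact h1 h6
  · exact h2 h6

/-! ### The action on the axes of `K` -/

variable {a : Fin 3 → G} {σ τ ρ : Equiv.Perm (Fin 3)}

end Fin

end Cfsg.Agent.Cit.Nil.RTwoM
end

-- part: Cit/Nil/RTwoM/U/NsTwo
section
/-!
# S1309, (6b), (C3), `r = 2`, `m = 2`, `LAMBDA0 ⟹ CENT` in world NS (helper762's text, 5.2)

* `swp_lemma` (LEMMA SWP) : `(y, c)` type I, `g ∈ R_c` of full support, commuting with the direction of `y` but different from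
  it; if `g` normalises a member over `y` then `y ∈ R_c`;
* `NSW.two_false` : 5.2 (II);
* **`NSW.cent`** : `|C_S| = 2`: `CENT`.
-/

set_option autoImplicit false
set_option linter.style.haveILetI false
set_option linter.unusedSectionVars false

namespace Cfsg.Agent.Cit.Nil.RTwoM

open Subgroup Cfsg Cfsg.Agent.Cit
open RG (WR CP Ov InO)
open RI (CS)

variable {G : Type*} [Group G] {Om : Set (Subgroup G)} {K K' L M X A : Subgroup G}
  {a b c c' d e g k k' l m n q r s t u v w x y z : G}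

section Fin

variable [Finite G]

/-- **LEMMA SWP** -/
theorem swp_lemma (h : WM Om) (hti : TI Om y c) (hK : Mem Om c K) (hK' : Mem Om c K') (hne : K ≠ K')
    (ha : As K y a) (hb : As K' y b) (hk : k ∈ K) (hkk : k * k = c) (hk' : k' ∈ K') (hkk' : k' * k' = c)
    (hak : a * k ≠ k * a) (hbk : b * k' ≠ k' * b) (hL : Mem Om y L) (hgL : cj (k * k') L = L) :
    y = a * b ∨ y = c * (a * b) := by
  have haa := (hti.symm h).sq_of_as h hK ha
  have hbb := (hti.symm h).sq_of_as h hK' hb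
  obtain ⟨l, hl, hll⟩ := hti.exists_as h hL
  obtain ⟨-, -, r1⟩ := hti.rot h hL hK hl ha
  obtain ⟨-, -, r2⟩ := hti.rot h hL hK' hl hb
  have e1 := r1 k hk hkk hak
  have e2 := r2 k' hk' hkk' hbk
  have cc := hK.inZ.z2 h
  have hbK : ∀ k ∈ K, k * b = b * k := fun k hk => hK.comm hK' h hne hk hb.1
  have hcK : ∀ k ∈ K, k * c = c * k := fun k hk => hK.comm_z h hk
  have hcK' : ∀ k ∈ K', k * c = c * k := fun k hk => hK'.comm_z h hk
  -- `l (k k') l⁻¹ (k k')⁻¹`
  have key : l * (k * k') * l⁻¹ * (k * k')⁻¹ = a * b ∨ l * (k * k') * l⁻¹ * (k * k')⁻¹ = c * (a * b) := by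
    have h1 : l * (k * k') * l⁻¹ * (k * k')⁻¹ = (l * k * l⁻¹) * (l * k' * l⁻¹) * k'⁻¹ * k⁻¹ := by group
    rw [h1]
    rcases e1 with e1 | e1 <;> rcases e2 with e2 | e2
    · left
      rw [e1, e2]
      calc a * k * (b * k') * k'⁻¹ * k⁻¹ = a * (k * b) * k⁻¹ := by group
        _ = a * b := by rw [hbK k hk]; group
    · right
      rw [e1, e2]
      calc a * k * (c * (b * k')) * k'⁻¹ * k⁻¹ = a * (k * c) * b * k⁻¹ := by group
        _ = a * (c * k) * b * k⁻¹ := by rw [hcK k hk]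
        _ = (a * c) * (k * b) * k⁻¹ := by group
        _ = (c * a) * (b * k) * k⁻¹ := by rw [hcK a ha.1, hbK k hk]
        _ = _ := by group
    · right
      rw [e1, e2]
      calc c * (a * k) * (b * k') * k'⁻¹ * k⁻¹ = c * a * (k * b) * k⁻¹ := by group
        _ = c * a * (b * k) * k⁻¹ := by rw [hbK k hk]
        _ = _ := by group
    · left
      rw [e1, e2]
      calc c * (a * k) * (c * (b * k')) * k'⁻¹ * k⁻¹ = c * a * (k * c) * b * k⁻¹ := by group
        _ = c * (a * c) * (k * b) * k⁻¹ := by rw [hcK k hk]; group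
        _ = c * (c * a) * (b * k) * k⁻¹ := by rw [hcK a ha.1, hbK k hk]
        _ = (c * c) * a * b := by group
        _ = a * b := by rw [cc, one_mul]
  have hm : l * (k * k') * l⁻¹ * (k * k')⁻¹ ∈ L := by
    have h1 : (k * k') * l⁻¹ * (k * k')⁻¹ ∈ L := by
      have h2 := conj_mem_cj (g := k * k') (inv_mem hl.1)
      rwa [hgL] at h2
    have h3 : l * (k * k') * l⁻¹ * (k * k')⁻¹ = l * ((k * k') * l⁻¹ * (k * k')⁻¹) := by group
    rw [h3]
    exact mul_mem hl.1 h1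
  obtain ⟨m, hm'⟩ : ∃ m, m = l * (k * k') * l⁻¹ * (k * k')⁻¹ := ⟨_, rfl⟩
  rw [← hm'] at key hm
  have hab2 : (a * b) * (a * b) = 1 := by
    calc (a * b) * (a * b) = a * (b * a) * b := by group
      _ = (a * a) * (b * b) := by rw [← hbK a ha.1]; group
      _ = 1 := by rw [haa, hbb, cc]
  have hne1 : a * b ≠ 1 := by
    intro h1
    have h2 : a = b⁻¹ := eq_inv_of_mul_eq_one_left h1
    rcases hK.inf hK' h hne ha.1 (by rw [h2]; exact inv_mem hb.1) with h3 | h3
    · rw [h3, one_mul] at haa; exact hK.inZ.z1 h haa.symm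
    · rw [h3, cc] at haa; exact hK.inZ.z1 h haa.symm
  have hnec : c * (a * b) ≠ 1 := by
    intro h1
    have h2 : a = c⁻¹ * b⁻¹ := by
      have h4 : a * b = c⁻¹ := eq_inv_of_mul_eq_one_right h1
      rw [← h4]; group
    rcases hK.inf hK' h hne ha.1 (by rw [h2]; exact mul_mem (inv_mem (hK'.zmem h)) (inv_mem hb.1)) with h3 | h3
    · rw [h3, one_mul] at haa; exact hK.inZ.z1 h haa.symm
    · rw [h3, cc] at haa; exact hK.inZ.z1 h haa.symm
  have hmm : m * m = 1 := by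
    rcases key with h1 | h1
    · rw [h1, hab2]
    · rw [h1]
      calc c * (a * b) * (c * (a * b)) = c * a * (b * c) * (a * b) := by group
        _ = c * a * (c * b) * (a * b) := by rw [hcK' b hb.1]
        _ = c * (a * c) * b * (a * b) := by group
        _ = c * (c * a) * b * (a * b) := by rw [hcK a ha.1]
        _ = (c * c) * ((a * b) * (a * b)) := by group
        _ = 1 := by rw [cc, hab2, one_mul]
  have hm1 : m ≠ 1 := by
    rcases key with h1 | h1
    · rw [h1]; exact hne1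
    · rw [h1]; exact hnec
  rcases hL.sq_cases h hm with h1 | h1 | h1
  · exact (hm1 h1).elim
  · rwa [h1] at key
  · rw [hmm] at h1; exact (hL.inZ.z1 h h1.symm).elim

/-- the elements inner on the members over `v` act on `R_v` as `±1` -/
theorem Inn.RZ (hi : Inn Om z g) (h : WM Om) (hz : InZ Om z) (hr : r ∈ RZ Om z) :
    g * r * g⁻¹ = r ∨ g * r * g⁻¹ = z * r := by
  obtain ⟨K, hK⟩ := hz
  obtain ⟨L, hL, hne, -⟩ := hK.other h
  obtain ⟨k, hk, l, hl, rfl⟩ := (mem_RZ hK hL h hne).1 hr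
  have hzz := hK.inZ.z2 h
  have h1 : g * (k * l) * g⁻¹ = (g * k * g⁻¹) * (g * l * g⁻¹) := by group
  have hkz := hK.comm_z h hk
  rw [h1]
  rcases hi K hK k hk with h2 | h2 <;> rcases hi L hL l hl with h3 | h3
  · left; rw [h2, h3]
  · right
    rw [h2, h3, ← mul_assoc, hkz, mul_assoc]
  · right
    rw [h2, h3, mul_assoc]
  · left
    rw [h2, h3]
    calc z * k * (z * l) = z * (k * z) * l := by group
      _ = z * (z * k) * l := by rw [hkz]
      _ = (z * z) * (k * l) := by group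
      _ = _ := by rw [hzz, one_mul]

/-- `n, v ∈ R_c ∩ Z`, `n` inner at `v`: `n ∈ R_v` -/
theorem mem_RZ_of_inn (h : WM Om) (hti : TI Om v c) (hv : v ∈ RZ Om c) (hn : n ∈ RZ Om c)
    (hi : Inn Om v n) : n ∈ RZ Om v := by
  have hvZ := hti.inZ
  have hcZ := hti.inT
  obtain ⟨K, hK⟩ := hcZ
  obtain ⟨L, hL⟩ := hvZ
  have cc := hK.inZ.z2 h
  have vv := hL.inZ.z2 h
  have hvc := hti.comm
  obtain ⟨p, hp, -, hpc, hpv⟩ := hti.exists_mv h hK
  obtain ⟨q, hq, -, hqv, hqc⟩ := (hti.symm h).exists_mv h hL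
  -- `p v p⁻¹ = v c`, `q c q⁻¹ = c v`; `g = p⁻¹ q` maps `c` to `v`
  have e1 : p⁻¹ * (c * v) * p = v := by
    have h1 : c * v = p * v * p⁻¹ := by rw [hpv, hvc]
    rw [h1]; group
  have e2 : (p⁻¹ * q) * c * (p⁻¹ * q)⁻¹ = v := by
    calc (p⁻¹ * q) * c * (p⁻¹ * q)⁻¹ = p⁻¹ * (q * c * q⁻¹) * p := by group
      _ = v := by rw [hqc, e1]
  have hcV : c ∈ RZ Om v := (hti.symm h).mem_symm h hv
  have hvV : v ∈ RZ Om v := z_mem_RZ hL.inZ h
  have hgn := RZ_conj h (p⁻¹ * q) hn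
  rw [e2] at hgn
  have hpR : p ∈ RZ Om c := hK.le_RZ hp
  have hpi : ∀ r ∈ RZ Om c, p⁻¹ * r * p = r ∨ p⁻¹ * r * p = c * r := by
    intro r hr
    have := RZ_commutator h hK.inZ hr (inv_mem hpR)
    rwa [inv_inv] at this
  -- `q n q⁻¹ ∈ {n, v n}`
  have e3 : q * n * q⁻¹ = n ∨ q * n * q⁻¹ = v * n := by
    rcases hi L hL q hq with h1 | h1
    · left
      rw [mul_inv_eq_iff_eq_mul] at h1 ⊢
      exact h1.symm
    · right
      have h2 : n * q = v * q * n := by rw [← h1]; group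
      have hqv' : v * q = q * v := (hL.comm_z h hq).symm
      rw [mul_inv_eq_iff_eq_mul]
      calc q * n = (v * v) * q * n := by rw [vv, one_mul]
        _ = v * (v * q * n) := by group
        _ = v * (n * q) := by rw [h2]
        _ = _ := by group
  have hnc : ∀ r ∈ RZ Om c, r * c = c * r := fun r hr => RZ_le_centralizer h hr
  have key : ∃ t ∈ RZ Om v, (p⁻¹ * q) * n * (p⁻¹ * q)⁻¹ = t * n := by
    have h0 : (p⁻¹ * q) * n * (p⁻¹ * q)⁻¹ = p⁻¹ * (q * n * q⁻¹) * p := by group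
    rw [h0]
    rcases e3 with h1 | h1 <;> rw [h1]
    · rcases hpi n hn with h2 | h2
      · exact ⟨1, one_mem _, by rw [h2, one_mul]⟩
      · exact ⟨c, hcV, h2⟩
    · rcases hpi (v * n) (mul_mem hv hn) with h2 | h2
      · exact ⟨v, hvV, h2⟩
      · exact ⟨c * v, mul_mem hcV hvV, by rw [h2, mul_assoc]⟩
  obtain ⟨t, ht, h1⟩ := key
  have h2 : n = t⁻¹ * ((p⁻¹ * q) * n * (p⁻¹ * q)⁻¹) := by rw [h1, inv_mul_cancel_left]
  rw [h2]
  exact mul_mem (inv_mem ht) hgn

/-- rotating one component of full support away -/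
theorem exists_rot_off (h : WM Om) (hK : Mem Om c K) (hK' : Mem Om c K') (hne : K ≠ K')
    (ha : a ∈ K) (haa : a * a = c) (hk : k ∈ K) (hkk : k * k = c) (hb : b ∈ K') (hbb : b * b = c) (hk' : k' ∈ K')
    (hkk' : k' * k' = c) (hak : a * k = k * a) (hbk : b * k' ≠ k' * b) (hd : Rot c K d) :
    ∃ e, (e = d ∨ e = d * d) ∧ a * (e * k * e⁻¹) ≠ (e * k * e⁻¹) * a ∧ b * (e * k' * e⁻¹) ≠ (e * k' * e⁻¹) * b := by
  have cc := hK.inZ.z2 h
  -- on `K`
  have h1 : ∀ e, Rot c K e → a * (e * k * e⁻¹) ≠ (e * k * e⁻¹) * a := by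
    intro e he h2
    have h3 := he.nc h hK hk hkk
    apply h3
    rcases hK.of_comm h ha haa hk hak with h4 | h4 | h4 | h4
    · rw [h4, one_mul] at hkk; exact (hK.inZ.z1 h hkk.symm).elim
    · rw [h4, cc] at hkk; exact (hK.inZ.z1 h hkk.symm).elim
    · rw [h4] at h2 ⊢; exact h2
    · have hek : e * k * e⁻¹ ∈ K := by
        have := conj_mem_cj (g := e) hk
        rwa [he.1] at this
      rw [h4] at h2 hek ⊢
      have hc := hK.comm_z h hek
      calc c * a * (e * (c * a) * e⁻¹) = c * (a * (e * (c * a) * e⁻¹)) := by group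
        _ = c * ((e * (c * a) * e⁻¹) * a) := by rw [h2]
        _ = (c * (e * (c * a) * e⁻¹)) * a := by group
        _ = ((e * (c * a) * e⁻¹) * c) * a := by rw [hc]
        _ = _ := by group
  have hcd : d * c = c * d := hK.of_cj h hd.1
  have hdK' : cj d K' = K' := by
    rcases cj_cases h hK hK' hne hcd with ⟨-, h2⟩ | ⟨h2, -⟩
    · exact h2
    · exact (hne (hd.1.symm.trans h2)).elim
  by_cases h2 : b * (d * k' * d⁻¹) = (d * k' * d⁻¹) * b
  swap
  · exact ⟨d, Or.inl rfl, h1 d hd, h2⟩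
  by_cases h3 : b * ((d * d) * k' * (d * d)⁻¹) = ((d * d) * k' * (d * d)⁻¹) * b
  swap
  · exact ⟨d * d, Or.inr rfl, h1 _ (hd.sq h hK), h3⟩
  exfalso
  have m1 : d * k' * d⁻¹ ∈ K' := by
    have := conj_mem_cj (g := d) hk'
    rwa [hdK'] at this
  have m2 : (d * d) * k' * (d * d)⁻¹ ∈ K' := by
    have := conj_mem_cj (g := d) m1
    rw [hdK'] at this
    have h4 : (d * d) * k' * (d * d)⁻¹ = d * (d * k' * d⁻¹) * d⁻¹ := by group
    rw [h4]; exact this
  -- both are `b` or `c b`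
  have key : ∀ m ∈ K', m ≠ 1 → m ≠ c → b * m = m * b → m = b ∨ m = c * b := by
    intro m hm h4 h5 h6
    rcases hK'.of_comm h hb hbb hm h6 with h7 | h7 | h7 | h7
    · exact (h4 h7).elim
    · exact (h5 h7).elim
    · exact Or.inl h7
    · exact Or.inr h7
  have sq1 : (d * k' * d⁻¹) * (d * k' * d⁻¹) = c := by
    calc (d * k' * d⁻¹) * (d * k' * d⁻¹) = d * (k' * k') * d⁻¹ := by group
      _ = c := by rw [hkk', hcd, mul_inv_cancel_right]
  have hcne : c ≠ 1 := hK.inZ.z1 h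
  have ne1 : ∀ {m : G}, m * m = c → m ≠ 1 ∧ m ≠ c := by
    intro m hm
    constructor
    · rintro rfl; rw [one_mul] at hm; exact hcne hm.symm
    · rintro rfl; rw [cc] at hm; exact hcne hm.symm
  have sq2 : ((d * d) * k' * (d * d)⁻¹) * ((d * d) * k' * (d * d)⁻¹) = c := by
    calc ((d * d) * k' * (d * d)⁻¹) * ((d * d) * k' * (d * d)⁻¹) = d * ((d * k' * d⁻¹) * (d * k' * d⁻¹)) * d⁻¹ := by group
      _ = c := by rw [sq1, hcd, mul_inv_cancel_right]
  have k1 := key _ m1 (ne1 sq1).1 (ne1 sq1).2 h2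
  have k2 := key _ m2 (ne1 sq2).1 (ne1 sq2).2 h3
  have e4 : (d * d) * k' * (d * d)⁻¹ = d * (d * k' * d⁻¹) * d⁻¹ := by group
  have hcm : ∀ m ∈ K', d * (c * m) * d⁻¹ = c * (d * m * d⁻¹) := by
    intro m _
    calc d * (c * m) * d⁻¹ = (d * c) * m * d⁻¹ := by group
      _ = (c * d) * m * d⁻¹ := by rw [hcd]
      _ = _ := by group
  -- `d² k' d⁻² = d k' d⁻¹` up to `c`
  have e5 : (d * d) * k' * (d * d)⁻¹ = d * k' * d⁻¹ ∨ (d * d) * k' * (d * d)⁻¹ = c * (d * k' * d⁻¹) := by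
    rcases k1 with h4 | h4 <;> rcases k2 with h5 | h5
    · left; rw [h4, h5]
    · right; rw [h4, h5]
    · right; rw [h4, h5, ← mul_assoc, cc, one_mul]
    · left; rw [h4, h5]
  have e6 : d * k' * d⁻¹ = k' ∨ d * k' * d⁻¹ = c * k' := by
    rw [e4] at e5
    rcases e5 with h4 | h4
    · left
      exact mul_left_cancel (mul_right_cancel h4)
    · right
      rw [← hcm k' hk'] at h4
      exact mul_left_cancel (mul_right_cancel h4)
  apply hbk
  rcases e6 with h4 | h4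
  · rw [h4] at h2; exact h2
  · rw [h4] at h2
    have hcb : b * c = c * b := hK'.comm_z h hb
    have h5 : c * (b * k') = c * (k' * b) := by
      calc c * (b * k') = (c * b) * k' := by group
        _ = b * (c * k') := by rw [← hcb]; group
        _ = c * k' * b := h2
        _ = _ := by group
    exact mul_left_cancel h5

/-- **5.2 (II)** -/
theorem NSW.two_false (ns : NSW Om) (h : WM Om) (l0 : L0 Om) (an : ANT Om) (P : Sylow 2 G)
    (rot : RotS Om (P : Subgroup G)) (hc : c ∈ CS Om (P : Subgroup G)) (hc' : c' ∈ CS Om (P : Subgroup G)) (hcc : c ≠ c')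
    (hcv : CP Om c' v) (hvc : TI Om v c) (hqc : TI Om q c) (hqc' : TI Om q c') (hvq : v * q ≠ q * v) : False := by
  have hP := P.isPGroup'
  have hcp := CS.cp hc h hP hc' hcc
  have hcZ := CS.inZ hc
  have hc'Z := CS.inZ hc'
  have hvZ := hvc.inZ
  have hqZ := hqc.inZ
  have cc := hcZ.z2 h
  obtain ⟨r, hr, r', hr', -, -, hrr, -, -, -, hqr, -, hq⟩ := link h hcp hqc hqc'
  have hvX : v ∈ CX Om c' := cp_cx h hvZ hcv
  have hvr' : v * r' = r' * v := CX_comm hr' hvX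
  have hvr : v * r ≠ r * v := by
    intro h1
    apply hvq
    rw [hq]
    calc v * (r * r') = (v * r) * r' := by group
      _ = r * (v * r') := by rw [h1]; group
      _ = r * (r' * v) := by rw [hvr']
      _ = _ := by group
  -- the key
  have key : ∀ (K K' : Subgroup G) (a b k k' : G), Mem Om c K → Mem Om c K' → K ≠ K' → As K v a → As K' v b →
      k ∈ K → k' ∈ K' → k * k = c → k' * k' = c → r = k * k' → a * k = k * a → b * k' ≠ k' * b → False := by
    intro K K' a b k k' hK hK' hne ha hb hk hk' hkk hkk' hrk hak hbk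
    have haa := (hvc.symm h).sq_of_as h hK ha
    have hbb := (hvc.symm h).sq_of_as h hK' hb
    obtain ⟨d, hd, hdT⟩ := rot c K hK (CS.le hc h hK)
    obtain ⟨e, he, h1, h2⟩ := exists_rot_off h hK hK' hne ha.1 haa hk hkk hb.1 hbb hk' hkk' hak hbk hd
    have heR : Rot c K e := by
      rcases he with rfl | rfl
      · exact hd
      · exact hd.sq h hK
    have heT : ∀ t ∈ TT Om (P : Subgroup G), e * t = t * e := by
      intro t ht
      rcases he with rfl | rfl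
      · exact hdT t ht
      · rw [mul_assoc, hdT t ht, ← mul_assoc, hdT t ht, mul_assoc]
    have hec := heT c (CS.mem_TT hc)
    have hec' := heT c' (CS.mem_TT hc')
    have heK' : cj e K' = K' := by
      rcases cj_cases h hK hK' hne hec with ⟨-, h3⟩ | ⟨h3, -⟩
      · exact h3
      · exact (hne (heR.1.symm.trans h3)).elim
    obtain ⟨k1, hk1⟩ : ∃ k1, k1 = e * k * e⁻¹ := ⟨_, rfl⟩
    obtain ⟨l1, hl1⟩ : ∃ l1, l1 = e * k' * e⁻¹ := ⟨_, rfl⟩
    obtain ⟨s1, hs1⟩ : ∃ s1, s1 = e * r' * e⁻¹ := ⟨_, rfl⟩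
    obtain ⟨q1, hq1⟩ : ∃ q1, q1 = e * q * e⁻¹ := ⟨_, rfl⟩
    rw [← hk1] at h1
    rw [← hl1] at h2
    have hk1K : k1 ∈ K := by
      have := conj_mem_cj (g := e) hk
      rwa [heR.1, ← hk1] at this
    have hl1K : l1 ∈ K' := by
      have := conj_mem_cj (g := e) hk'
      rwa [heK', ← hl1] at this
    have hece : e * c * e⁻¹ = c := by rw [hec, mul_inv_cancel_right]
    have hkk1 : k1 * k1 = c := by
      rw [hk1]
      calc e * k * e⁻¹ * (e * k * e⁻¹) = e * (k * k) * e⁻¹ := by group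
        _ = c := by rw [hkk, hece]
    have hll1 : l1 * l1 = c := by
      rw [hl1]
      calc e * k' * e⁻¹ * (e * k' * e⁻¹) = e * (k' * k') * e⁻¹ := by group
        _ = c := by rw [hkk', hece]
    have hs1R : s1 ∈ RZ Om c' := by
      rw [hs1]; exact RZ_conj_comm h hec' hr'
    have hq1e : q1 = (k1 * l1) * s1 := by
      rw [hq1, hq, hrk, hk1, hl1, hs1]; group
    -- `v` commutes with `k₁ l₁`
    have hvk : v * (k1 * l1) = (k1 * l1) * v := by
      rw [← mul_inv_eq_iff_eq_mul]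
      have e1 : v * k1 * v⁻¹ = c * k1 := by
        rw [ha.2 k1 hk1K]
        exact hK.anti h hk1K hkk1 ha.1 haa (fun h3 => h1 h3.symm)
      have e2 : v * l1 * v⁻¹ = c * l1 := by
        rw [hb.2 l1 hl1K]
        exact hK'.anti h hl1K hll1 hb.1 hbb (fun h3 => h2 h3.symm)
      have hck := hK.comm_z h hk1K
      calc v * (k1 * l1) * v⁻¹ = (v * k1 * v⁻¹) * (v * l1 * v⁻¹) := by group
        _ = (c * k1) * (c * l1) := by rw [e1, e2]
        _ = c * (k1 * c) * l1 := by group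
        _ = c * (c * k1) * l1 := by rw [hck]
        _ = (c * c) * (k1 * l1) := by group
        _ = _ := by rw [cc, one_mul]
    have hvs : v * s1 = s1 * v := CX_comm hs1R hvX
    have hq1v : q1 * v = v * q1 := by
      rw [hq1e]
      calc (k1 * l1) * s1 * v = (k1 * l1) * (s1 * v) := by group
        _ = (k1 * l1) * (v * s1) := by rw [hvs]
        _ = ((k1 * l1) * v) * s1 := by group
        _ = (v * (k1 * l1)) * s1 := by rw [hvk]
        _ = _ := by group
    have hq1c : q1 * c' = c' * q1 := by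
      rw [hq1]
      calc e * q * e⁻¹ * c' = e * q * (e⁻¹ * c' * e) * e⁻¹ := by group
        _ = e * q * c' * e⁻¹ := by
            rw [show e⁻¹ * c' * e = c' by rw [mul_assoc, ← hec', inv_mul_cancel_left]]
        _ = e * (q * c') * e⁻¹ := by group
        _ = e * (c' * q) * e⁻¹ := by rw [hqc'.comm]
        _ = (e * c') * q * e⁻¹ := by group
        _ = _ := by rw [hec']; group
    have hq1Z : InZ Om q1 := by rw [hq1]; exact hqZ.conj h e
    have hc'1 := hc'Z.z1 h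
    have hvS : v ∈ ZS Om c' := ⟨hvZ, cp_cx h hc'Z hcv.symm⟩
    obtain ⟨Q, hQ1, hQ2, -, hQ3⟩ := exists_psi h P (CS.mem_TT hc') hvS hq1Z hq1c hq1v
    have hQ4 : c' ∈ CS Om (Q : Subgroup G) := mem_CS_of_mem_TT h Q hc'Z hQ1
    have i1 : Inn Om v q1 := ns.inn_psi h l0 an Q hQ2 hQ4 hcv.1.symm hQ3 hQ2
    have i2 : Inn Om v s1 := Inn.of_CX (mem_CX.2 fun M hM m hm => cp_RZ h hcv hs1R (hM.le_RZ hm))
    have i3 : Inn Om v (k1 * l1) := by
      rw [hq1e] at i1
      exact Inn.mul_right i2 i1 hvZ h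
    obtain ⟨L, hL⟩ := hvZ
    have hvR : v ∈ RZ Om c := by
      have habR : a * b ∈ RZ Om c := mul_mem (hK.le_RZ ha.1) (hK'.le_RZ hb.1)
      rcases swp_lemma h hvc hK hK' hne ha hb hk1K hkk1 hl1K hll1 h1 h2 hL (i3.cj_eq hL h) with h3 | h3
      · rw [h3]; exact habR
      · rw [h3]; exact mul_mem (z_mem_RZ hcZ h) habR
    -- `n = v^e`
    obtain ⟨n, hn⟩ : ∃ n, n = e * v * e⁻¹ := ⟨_, rfl⟩
    have hnS : n ∈ ZS Om c' := by
      rw [hn]; exact ZS_conj h hvS hec'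
    have hnR : n ∈ RZ Om c := by
      rw [hn]; exact RZ_conj_comm h hec hvR
    have i4 : Inn Om v n := ns.inn h l0 an P (CS.mem_TT hc') hc'1 hvS (mem_NZ hnS)
    have hnV := mem_RZ_of_inn h hvc hvR hnR i4
    have e3 : v * r * v⁻¹ = c * r := by
      have e1 : v * k * v⁻¹ = k := by
        rw [ha.2 k hk, hak, mul_inv_cancel_right]
      have e2 : v * k' * v⁻¹ = c * k' := by
        rw [hb.2 k' hk']
        exact hK'.anti h hk' hkk' hb.1 hbb (fun h3 => hbk h3.symm)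
      rw [hrk]
      calc v * (k * k') * v⁻¹ = (v * k * v⁻¹) * (v * k' * v⁻¹) := by group
        _ = (k * c) * k' := by rw [e1, e2]; group
        _ = _ := by rw [hK.comm_z h hk]; group
    have e4 : r * v * r⁻¹ = c * v := by
      have h3 : v * r = c * r * v := by rw [← e3]; group
      have hrc : r * c = c * r := RZ_le_centralizer h hr
      rw [mul_inv_eq_iff_eq_mul]
      calc r * v = (c * c) * r * v := by rw [cc, one_mul]
        _ = c * (c * r * v) := by group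
        _ = c * (v * r) := by rw [h3]
        _ = _ := by group
    have e5 : (k1 * l1) * n * (k1 * l1)⁻¹ = c * n := by
      have h3 : k1 * l1 = e * r * e⁻¹ := by rw [hrk, hk1, hl1]; group
      rw [h3, hn]
      calc e * r * e⁻¹ * (e * v * e⁻¹) * (e * r * e⁻¹)⁻¹ = e * (r * v * r⁻¹) * e⁻¹ := by group
        _ = e * (c * v) * e⁻¹ := by rw [e4]
        _ = (e * c * e⁻¹) * (e * v * e⁻¹) := by group
        _ = _ := by rw [hece]
    rcases i3.RZ h hL.inZ hnV with h3 | h3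
    · rw [e5] at h3
      exact hcZ.z1 h (mul_eq_right.1 h3)
    · rw [e5] at h3
      exact hvc.ne (mul_right_cancel h3).symm
  obtain ⟨K, hK⟩ := hcZ
  obtain ⟨K', hK', hne, -⟩ := hK.other h
  obtain ⟨a, ha, haa⟩ := (hvc.symm h).exists_as h hK
  obtain ⟨b, hb, hbb⟩ := (hvc.symm h).exists_as h hK'
  obtain ⟨k, hk, k', hk', hrk⟩ := (mem_RZ hK hK' h hne).1 hr
  have hkk : k * k = c := by
    have h1 : As K (k * k') (k * 1) := (As.self hk).mul (hK.as_one hK' h hne hk')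
    have h2 : As K (q * r) 1 := As.one_iff.2 (mem_CX.1 hqr K hK)
    rw [hrk, mul_one] at h1
    have h3 := h2.mul h1.inv
    rw [mul_inv_cancel_right, one_mul] at h3
    have h4 := (hqc.symm h).sq_of_as h hK h3
    rw [← mul_inv_rev] at h4
    rw [← inv_inv (k * k), h4, hK.inZ.inv h]
  have hkk' : k' * k' = c := by
    have h1 : As K' (k * k') (1 * k') := (hK'.as_one hK h hne.symm hk).mul (As.self hk')
    have h2 : As K' (q * r) 1 := As.one_iff.2 (mem_CX.1 hqr K' hK')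
    rw [hrk, one_mul] at h1
    have h3 := h2.mul h1.inv
    rw [mul_inv_cancel_right, one_mul] at h3
    have h4 := (hqc.symm h).sq_of_as h hK' h3
    rw [← mul_inv_rev] at h4
    rw [← inv_inv (k' * k'), h4, hK.inZ.inv h]
  have hkk'c : k * k' = k' * k := hK.comm hK' h hne hk hk'
  by_cases hak : a * k = k * a <;> by_cases hbk : b * k' = k' * b
  · apply hvr
    rw [← mul_inv_eq_iff_eq_mul, ← hrk]
    calc v * (k * k') * v⁻¹ = (v * k * v⁻¹) * (v * k' * v⁻¹) := by group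
      _ = (a * k * a⁻¹) * (b * k' * b⁻¹) := by rw [ha.2 k hk, hb.2 k' hk']
      _ = k * k' := by rw [hak, hbk, mul_inv_cancel_right, mul_inv_cancel_right]
  · exact key K K' a b k k' hK hK' hne ha hb hk hk' hkk hkk' hrk.symm hak hbk
  · exact key K' K b a k' k hK' hK hne.symm hb ha hk' hk hkk' hkk (hrk.symm.trans hkk'c) hbk hak
  · apply hvr
    rw [← mul_inv_eq_iff_eq_mul, ← hrk]
    have e1 : a * k * a⁻¹ = c * k := hK.anti h hk hkk ha.1 haa (fun h3 => hak h3.symm)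
    have e2 : b * k' * b⁻¹ = c * k' := hK'.anti h hk' hkk' hb.1 hbb (fun h3 => hbk h3.symm)
    have hck := hK.comm_z h hk
    calc v * (k * k') * v⁻¹ = (v * k * v⁻¹) * (v * k' * v⁻¹) := by group
      _ = (a * k * a⁻¹) * (b * k' * b⁻¹) := by rw [ha.2 k hk, hb.2 k' hk']
      _ = c * (k * c) * k' := by rw [e1, e2]; group
      _ = c * (c * k) * k' := by rw [hck]
      _ = (c * c) * (k * k') := by group
      _ = _ := by rw [cc, one_mul]

/-- `T_S` for `C_S = {c, c'}` -/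
theorem TT_of_two (h : WM Om) {S : Subgroup G} (hS : IsPGroup 2 S) (hc : c ∈ CS Om S) (hc' : c' ∈ CS Om S)
    (hall : ∀ w ∈ CS Om S, w = c ∨ w = c') {t : G} (ht : t ∈ TT Om S) : t = 1 ∨ t = c ∨ t = c' ∨ t = c * c' := by
  have cc := (CS.inZ hc).z2 h
  have cc' := (CS.inZ hc').z2 h
  have hcm : c * c' = c' * c := CS.comm hc h hS hc'
  induction ht using closure_induction with
  | mem w hw =>
    rcases hall w hw with h1 | h1
    · exact Or.inr (Or.inl h1)
    · exact Or.inr (Or.inr (Or.inl h1))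
  | one => exact Or.inl rfl
  | mul a b _ _ iha ihb =>
    have e1 : c * (c * c') = c' := by rw [← mul_assoc, cc, one_mul]
    have e2 : c' * c = c * c' := hcm.symm
    have e3 : c' * (c * c') = c := by rw [hcm, ← mul_assoc, cc', one_mul]
    have e4 : c * c' * c = c' := by rw [hcm, mul_assoc, cc, mul_one]
    have e5 : c * c' * c' = c := by rw [mul_assoc, cc', mul_one]
    have e6 : c * c' * (c * c') = 1 := by rw [← mul_assoc, e4, cc']
    rcases iha with h1 | h1 | h1 | h1 <;> rcases ihb with h2 | h2 | h2 | h2 <;> rw [h1, h2] <;>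
      simp only [one_mul, mul_one, cc, cc', e1, e2, e3, e4, e5, e6, true_or, or_true]
  | inv a _ iha =>
    have e6 : (c * c')⁻¹ = c * c' := by
      rw [mul_inv_rev, (CS.inZ hc).inv h, (CS.inZ hc').inv h, hcm]
    rcases iha with rfl | rfl | rfl | rfl
    · exact Or.inl inv_one
    · exact Or.inr (Or.inl ((CS.inZ hc).inv h))
    · exact Or.inr (Or.inr (Or.inl ((CS.inZ hc').inv h)))
    · exact Or.inr (Or.inr (Or.inr e6))

/-- **NS, `m = 2`: `CENT`** -/
theorem NSW.cent (ns : NSW Om) (h : WM Om) (l0 : L0 Om) (an : ANT Om) (rot : ∀ S : Sylow 2 G, RotS Om (S : Subgroup G))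
    (h2 : ∀ S : Sylow 2 G, (CS Om (S : Subgroup G)).ncard = 2) : CENT Om := by
  intro S x hx hxS s hs hs1 y hy
  by_contra hxy
  have hS := S.isPGroup'
  have hxs : x * s = s * x := Psi.comm_TT h l0 hS ⟨hx, hxS⟩ hs
  have hxx := hx.z2 h
  have hxi := hx.inv h
  obtain ⟨y', hy'⟩ : ∃ y', y' = x * y * x⁻¹ := ⟨_, rfl⟩
  have hy'S : y' ∈ ZS Om s := by rw [hy']; exact ZS_conj h hy hxs
  have hyy := hy.1.z2 h
  have hne : y ≠ y' := by
    intro h1
    apply hxy
    rw [hy', eq_mul_inv_iff_mul_eq] at h1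
    exact h1.symm
  have hcm : y * y' = y' * y := ZS_comm h l0 (an S s hs hs1) hy hy'S
  have hti : TI Om y y' := by
    rcases (ns.inn h l0 an S hs hs1 hy (mem_NZ hy'S)).cases h hy.1 hy'S.1 with h1 | h1 | h1
    · exact (hne h1).elim
    · rw [hy'] at h1; exact (l0 y x hy.1 hx h1).elim
    · exact h1
  -- `c = y y'`
  obtain ⟨c, hc⟩ : ∃ c, c = y * y' := ⟨_, rfl⟩
  have hcS : c ∈ ZS Om s := by
    obtain ⟨L, hL⟩ := hti.inT
    obtain ⟨v, hv, -, -, hvy⟩ := hti.exists_mv h hL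
    rw [hc, ← hvy]
    exact ZS_conj h hy (ZS_RZ hy'S (hL.le_RZ hv))
  have hxc : x * c = c * x := by
    have e1 : x * y' * x⁻¹ = y := by
      rw [hy', hxi]
      calc x * (x * y * x) * x = (x * x) * y * (x * x) := by group
        _ = y := by rw [hxx, one_mul, mul_one]
    rw [← mul_inv_eq_iff_eq_mul, hc]
    calc x * (y * y') * x⁻¹ = (x * y * x⁻¹) * (x * y' * x⁻¹) := by group
      _ = y' * y := by rw [e1, ← hy']
      _ = _ := hcm.symm
  obtain ⟨P, hP1, hP2, -, hP3⟩ := exists_psi h S hs hcS hx hxs hxc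
  have hPp := P.isPGroup'
  have hPy : Psi Om (P : Subgroup G) y := Psi.of_ZS h l0 an P hP1 hs1 hy
  obtain ⟨c', hc', hcc, hall⟩ : ∃ c' ∈ CS Om (P : Subgroup G), c ≠ c' ∧ ∀ w ∈ CS Om (P : Subgroup G), w = c ∨ w = c' := by
    obtain ⟨a, b, hab, hP⟩ := Set.ncard_eq_two.1 (h2 P)
    rw [hP] at hP2 ⊢
    rcases hP2 with h3 | h3
    · exact ⟨b, Or.inr rfl, by rw [h3]; exact hab, fun w hw => by
        rcases hw with h4 | h4
        · exact Or.inl (h4.trans h3.symm)
        · exact Or.inr h4⟩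
    · rw [Set.mem_singleton_iff] at h3
      exact ⟨a, Or.inl rfl, by rw [h3]; exact hab.symm, fun w hw => by
        rcases hw with h4 | h4
        · exact Or.inr h4
        · exact Or.inl (by rw [Set.mem_singleton_iff] at h4; exact h4.trans h3.symm)⟩
  have hcZ := CS.inZ hP2
  have hc'Z := CS.inZ hc'
  have hTT : ∀ t ∈ TT Om (P : Subgroup G), t = 1 ∨ t = c ∨ t = c' ∨ t = c * c' := fun t ht =>
    TT_of_two h hPp hP2 hc' hall ht
  have hcp := CS.cp hP2 h hPp hc' hcc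
  -- `(y, c)` type I
  have htc : TI Om y c := by
    rcases (ns.inn h l0 an S hs hs1 hy (mem_NZ hcS)).cases h hy.1 hcZ with h1 | h1 | h1
    · exfalso
      rw [hc] at h1
      exact hy'S.1.z1 h (mul_eq_left.1 h1.symm)
    · exfalso
      have h3 : c ∈ CX Om y := cp_cx h hcZ h1
      have h4 : y' ∈ CX Om y := by
        have h5 : y' = y * c := by rw [hc, ← mul_assoc, hyy, one_mul]
        rw [h5]; exact mul_mem (z_mem_CX h) h3
      exact (hti.symm h).not_mem_CX h h4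
    · exact h1
  -- `(x, c)` type I
  have hxy' : x * y * x⁻¹ = y * c := by rw [hc, ← mul_assoc, hyy, one_mul, hy']
  obtain ⟨w, hw, hyw⟩ : ∃ w ∈ RZ Om c, y * w ∈ CX Om c := by
    rcases htc.dich h with h1 | ⟨q, -, hq, -, -, h3⟩
    · exact ⟨y, h1, by rw [hyy]; exact one_mem _⟩
    · exact ⟨q, hq, h3⟩
  have hxw := htc.key2 h hxy' hxc hw hyw
  have hxcX : x ∉ CX Om c := by
    intro h1
    rw [CX_comm hw h1, mul_inv_cancel_right] at hxw
    exact hcZ.z1 h (mul_eq_right.1 hxw.symm)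
  have htx : TI Om c x := by
    rcases (ns.inn_psi h l0 an P hP2 hc' hcc hP3 hP2).cases h hcZ hx with h1 | h1 | h1
    · exact (hxcX (by rw [← h1]; exact z_mem_CX h)).elim
    · exact (hxcX (cp_cx h hx h1)).elim
    · exact h1
  have hcy : c ∉ CX Om y := (htc.symm h).not_mem_CX h
  have hcx : c ∉ CX Om x := htx.not_mem_CX h
  obtain ⟨s1, hs1T, hs11, hs1x⟩ := ns.exists_t h l0 an P hP2 hc' hcc hP3
  have hno : ∀ t ∈ TT Om (P : Subgroup G), t ≠ 1 → t ∈ CX Om x → t ∈ CX Om y → False := by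
    intro t ht ht1 htx hty
    exact hxy (ZS_comm h l0 (an P t ht ht1) ⟨hx, htx⟩ ⟨hy.1, hty⟩)
  have hti' : ∀ u, Psi Om (P : Subgroup G) u → c * c' ∈ CX Om u → c ∉ CX Om u → TI Om u c' := by
    intro u hu h1 h3
    have h4 : c' ∉ CX Om u := by
      intro h5
      apply h3
      have h6 : c = (c * c') * c' := by rw [mul_assoc, hc'Z.z2 h, mul_one]
      rw [h6]; exact mul_mem h1 h5
    rcases (ns.inn_psi h l0 an P hP2 hc' hcc hu hc').cases h hc'Z hu.1 with h5 | h5 | h5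
    · exact (h4 (by rw [h5]; exact z_mem_CX h)).elim
    · exact (h4 (cp_cx h hc'Z h5.symm)).elim
    · exact h5.symm h
  have hcp' : ∀ v, TI Om v c → c' ∈ CX Om v → CP Om c' v := by
    intro v hv h1
    rcases (cen_iff h hv.inZ hc'Z).1 h1 with h3 | h3
    · exfalso
      rw [h3] at hv
      exact hv.not_cp h hcp.symm
    · exact h3.symm
  have hrP := rot P
  have hxyn : x * y ≠ y * x := hxy
  rcases hTT s hP1 with h3 | h3 | h3 | h3
  · exact hs1 h3
  · exact hcy (h3 ▸ hy.2)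
  · rcases hTT s1 hs1T with h4 | h4 | h4 | h4
    · exact hs11 h4
    · exact hcx (h4 ▸ hs1x)
    · exact hno s hP1 hs1 (by rw [h3, ← h4]; exact hs1x) hy.2
    · exact ns.two_false h l0 an P hrP hP2 hc' hcc (hcp' y htc (h3 ▸ hy.2)) htc (htx.symm h)
        (hti' x hP3 (h4 ▸ hs1x) hcx) (fun h5 => hxy h5.symm)
  · rcases hTT s1 hs1T with h4 | h4 | h4 | h4
    · exact hs11 h4
    · exact hcx (h4 ▸ hs1x)
    · exact ns.two_false h l0 an P hrP hP2 hc' hcc (hcp' x (htx.symm h) (h4 ▸ hs1x)) (htx.symm h) htc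
        (hti' y hPy (h3 ▸ hy.2) hcy) hxy
    · exact hno s hP1 hs1 (by rw [h3, ← h4]; exact hs1x) hy.2

end Fin

end Cfsg.Agent.Cit.Nil.RTwoM
end

-- part: Cit/Nil/RTwoM/U/UMain
section
/-!
# S1309, (6b), (C3), `r = 2`, any `m ≥ 2`: `LAMBDA0 ⟹ StarC`, the case distinction

* `rotS_of` : `|C_S| ≤ 3`: rotations in `C(T_S)`; `cent_of_le` : `|C_S| ≤ 3`, world SW: `CENT`;
* **`starC_of_l0`** : `WM, L0, ANT, ANS, OneCl, C3R`, a C-pair: `StarC`.
-/

set_option autoImplicit false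
set_option linter.style.haveILetI false
set_option linter.unusedSectionVars false

namespace Cfsg.Agent.Cit.Nil.RTwoM

open Subgroup Cfsg Cfsg.Agent.Cit
open RG (WR CP Ov InO)
open RI (CS)

variable {G : Type*} [Group G] [Finite G] {Om : Set (Subgroup G)} {s t u v w x y z : G}

theorem rotS_of (h : WM Om) (c3 : C3R Om) (hm : ∀ S : Sylow 2 G, (CS Om (S : Subgroup G)).ncard ≤ 3) :
    ∀ S : Sylow 2 G, RotS Om (S : Subgroup G) := fun S _ _ hK hKS => c3.exists_cent h S (hm S) hK hKS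

theorem NSW.of_not (hn : ¬ SW Om) : NSW Om := fun S s hs hs1 y hy y' hy' hsw =>
  hn ⟨S, s, hs, hs1, y, hy, y', hy', hsw⟩

theorem exists_two_of (S : Sylow 2 G) (h2 : 2 ≤ (CS Om (S : Subgroup G)).ncard) :
    ∃ z u, z ∈ CS Om (S : Subgroup G) ∧ u ∈ CS Om (S : Subgroup G) ∧ z ≠ u := by
  obtain ⟨z, hz, u, hu, hne⟩ := (Set.one_lt_ncard (Set.toFinite _)).1 (show 1 < (CS Om (S : Subgroup G)).ncard by omega)
  exact ⟨z, u, hz, hu, hne⟩

/-- **`LAMBDA0 ⟹ StarC`** -/
theorem starC_of_l0 (h : WM Om) (l0 : L0 Om) (an : ANT Om) (as : ANS Om) (oc : OneCl Om) (c3 : C3R Om)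
    (hz : InZ Om z) (hu : InZ Om u) (hc : CP Om z u) : StarC Om := by
  obtain ⟨S₀, hzS, huS⟩ := exists_sylow_of_cp h hz hu hc
  have hm0 : 2 ≤ (CS Om (S₀ : Subgroup G)).ncard := by
    have h1 : ({z, u} : Set G) ⊆ CS Om (S₀ : Subgroup G) := by
      rintro w (rfl | hw)
      · exact hzS
      · rw [Set.mem_singleton_iff] at hw
        rw [hw]; exact huS
    have h2 := Set.ncard_le_ncard h1 (Set.toFinite _)
    rwa [Set.ncard_pair hc.1] at h2
  have hmS : ∀ S : Sylow 2 G, (CS Om (S : Subgroup G)).ncard = (CS Om (S₀ : Subgroup G)).ncard :=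
    fun S => ncard_CS_eq h S₀ S
  have hTS : ∀ S : Sylow 2 G, Nat.card (TT Om (S : Subgroup G)) = Nat.card (TT Om (S₀ : Subgroup G)) :=
    fun S => card_TT_eq h S₀ S
  have two : ∀ S : Sylow 2 G, ∃ z u, z ∈ CS Om (S : Subgroup G) ∧ u ∈ CS Om (S : Subgroup G) ∧ z ≠ u :=
    fun S => exists_two_of S (by rw [hmS S]; exact hm0)
  rcases Nat.lt_or_ge (CS Om (S₀ : Subgroup G)).ncard 4 with h3 | h4
  swap
  · exact StarC.of_four h l0 an as (c3.c3e h) (fun S => by rw [hmS S]; exact h4)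
  have rot := rotS_of h c3 (fun S => by rw [hmS S]; omega)
  have r0 := RZero.of h l0 an two
  have r1 := ROneA.of h l0 an
  by_cases sw : SW Om
  · have ce : CENT Om := cent_sw h l0 an rot (regSW_of h l0 an oc two rot sw)
    exact StarC.of_r0 ce r0 r1 h oc
  have ns := NSW.of_not sw
  by_cases h5 : (CS Om (S₀ : Subgroup G)).ncard = 2
  · exact StarC.of_r0 (ns.cent h l0 an rot fun S => by rw [hmS S]; exact h5) r0 r1 h oc
  by_cases h6 : Nat.card (TT Om (S₀ : Subgroup G)) = 4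
  · exact starC_three h l0 an as oc c3 (fun S => by rw [hmS S]; omega) (fun S => by rw [hTS S]; exact h6)
  · refine ns.starC h l0 an fun S => ?_
    rw [hTS S]
    have h7 := four_le_card_TT h hzS huS hc.1
    omega

end Cfsg.Agent.Cit.Nil.RTwoM
end

private theorem dce_bf0a28b51c03 : _root_.True := by
  try have : _root_.True := by simp only [_root_.Cfsg.Agent.Cit.Nil.RTwoM.MThree.ind.eq_1]
  try have : _root_.True := by simp only [_root_.Cfsg.Agent.Cit.Nil.RTwoM.MThree.fs.eq_1]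
  try have : _root_.True := by simp only [_root_.Cfsg.Agent.Cit.Nil.RTwoM.Free.eq_1]
  exact _root_.True.intro
end

-- part: Cit/Nil/CompR/ProdEnd
section
prune_inst 0x10240410220000001800000000200000000000000000012100020002000001204508013060000011302c70200a806001000069423800002a008a0000000000042020c000001000010000405801180c00000000000000000000000000000000000000000
set_option linter.all false
open scoped Cfsg.Agent.FastGrp

/-!
# S1309 (6b), COMP, `r = 2`, the product situation: the end (helper815), (F5), piece (T1) of helper531's text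

Port of `Comp/ProdEnd.lean` (`r = 1`) to points and `R_z`.

* `PG Z K M Bl` : the product situation over `GW Z K` (any `r`): `M` the stabiliser of a frame, `Z ∩ M` its points,
  `Bl x y` : `x` and `y` are in the same block;
* `PG.exists_closed` : there is a C-pair inside a block: a strongly closed subgroup of `T_S`;
* `PG.exists_strong` : there is none, (PP) and LEMMA E' (`PPd`, `EEd`): the criterion `Crit1175`;
* `PE Om M Bl`, `BG Om M Bl v`, `SwP Om x y` : `r = 2`; **`PE.false_of`**.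
-/

set_option autoImplicit false
set_option linter.style.haveILetI false
set_option linter.unusedSectionVars false

namespace Cfsg.Agent.Cit.Nil.CompR

open Subgroup Cfsg Cfsg.Agent.Cit Cfsg.Agent.Cit.Nil.AN
open Cfsg.Agent.Cit.Nil.ROne (CP CS TT FSimp exists_sylow_subgroupOf)

variable {G : Type*} [Group G]

/-! ### The product situation, world-free form -/

/-- the product situation, world-free form: `M` the stabiliser of a frame, `Z ∩ M` the points of the frame,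
`Bl x y` : same block -/
structure PG (Z : Set G) (K : G → Subgroup G) (M : Subgroup G) (Bl : G → G → Prop) : Prop where
  w : GW Z K
  refl : ∀ x ∈ Z ∩ M, Bl x x
  symm : ∀ x ∈ Z ∩ M, ∀ y ∈ Z ∩ M, Bl x y → Bl y x
  trans : ∀ x ∈ Z ∩ M, ∀ y ∈ Z ∩ M, ∀ v ∈ Z ∩ M, Bl x y → Bl y v → Bl x v
  conj : ∀ g ∈ M, ∀ x ∈ Z ∩ M, ∀ y ∈ Z ∩ M, Bl x y → Bl (g * x * g⁻¹) (g * y * g⁻¹)
  /-- different classes commute -/
  cm : ∀ x ∈ Z ∩ M, ∀ y ∈ Z ∩ M, ¬ Bl x y → ∀ a ∈ K x, ∀ b ∈ K y, a * b = b * a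
  two : ∃ x ∈ Z ∩ M, ∃ y ∈ Z ∩ M, ¬ Bl x y
  ntr : ∀ x ∈ Z ∩ M, ∃ y ∈ Z ∩ M, Bl x y ∧ x ≠ y
  /-- the classes are `ONE` -/
  one : ∀ x ∈ Z ∩ M, ∀ y ∈ Z ∩ M, Bl x y → CP K x y → ∀ v ∈ Z ∩ M, Bl x v → Ce (x * y) (K v)
  mem : ∀ x ∈ Z ∩ M, ∀ g, g * x * g⁻¹ ∈ M → g ∈ M
  syl : ∀ S : Sylow 2 G, ∀ x ∈ Z ∩ M, K x ≤ (S : Subgroup G) → (S : Subgroup G) ≤ M
  cen : ∀ S : Sylow 2 G, (S : Subgroup G) ≤ M → ∀ s ∈ TT Z K (S : Subgroup G), s ≠ 1 → ∀ c, c * s = s * c → c ∈ M
  mem' : ∀ S : Sylow 2 G, (S : Subgroup G) ≤ M → ∀ s ∈ TT Z K (S : Subgroup G), s ≠ 1 →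
    ∀ g, g * s * g⁻¹ ∈ M → g ∈ M

namespace PG

variable {Z : Set G} {K : G → Subgroup G} {M : Subgroup G} {Bl : G → G → Prop} {x y v g b c k : G}
  (p : PG Z K M Bl)

include p

theorem conj_mem_K (hx : x ∈ Z) (g : G) (hk : k ∈ K x) : g * k * g⁻¹ ∈ K (g * x * g⁻¹) := by
  rw [p.w.conjK x hx g]
  exact conj_mem_cj hk

theorem cp_conj (hx : x ∈ Z) (hy : y ∈ Z) (hc : CP K x y) (g : G) : CP K (g * x * g⁻¹) (g * y * g⁻¹) := by
  refine ⟨fun h1 => hc.1 (mul_left_cancel (mul_right_cancel h1)), fun a ha b hb => ?_⟩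
  rw [p.w.conjK x hx g, mem_cj] at ha
  rw [p.w.conjK y hy g, mem_cj] at hb
  have h1 := hc.2 _ ha _ hb
  calc a * b = g * ((g⁻¹ * a * g) * (g⁻¹ * b * g)) * g⁻¹ := by group
    _ = g * ((g⁻¹ * b * g) * (g⁻¹ * a * g)) * g⁻¹ := by rw [h1]
    _ = b * a := by group

theorem conj_mem (hx : x ∈ Z ∩ M) (hg : g ∈ M) : g * x * g⁻¹ ∈ Z ∩ M :=
  ⟨p.w.conjZ x hx.1 g, M.mul_mem (M.mul_mem hg hx.2) (M.inv_mem hg)⟩

/-- `C(x) ≤ M` -/
theorem mem_of_comm (hx : x ∈ Z ∩ M) (hg : g * x = x * g) : g ∈ M :=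
  p.mem x hx g (by rw [hg, mul_inv_cancel_right]; exact hx.2)

theorem K_le (hx : x ∈ Z ∩ M) : K x ≤ M := fun _ hk => p.mem_of_comm hx (p.w.cent hx.1 hk)

/-- elements of a member preserve the classes -/
theorem bl_K (hx : x ∈ Z ∩ M) (hv : v ∈ Z ∩ M) (hk : k ∈ K x) : Bl v (k * v * k⁻¹) := by
  have hkM := p.K_le hx hk
  by_cases h1 : Bl x v
  · have h2 := p.conj k hkM x hx v hv h1
    rw [p.w.cent hx.1 hk, mul_inv_cancel_right] at h2
    exact p.trans v hv x hx _ (p.conj_mem hv hkM) (p.symm x hx v hv h1) h2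
  · have h2 := p.cm x hx v hv h1 k hk v (p.w.mem v hv.1)
    rw [h2, mul_inv_cancel_right]
    exact p.refl v hv

/-- the group generated by the members of the frame -/
def BB (Z : Set G) (K : G → Subgroup G) (M : Subgroup G) : Subgroup G := closure {k | ∃ x ∈ Z ∩ M, k ∈ K x}

theorem K_le_BB (hx : x ∈ Z ∩ M) : K x ≤ BB Z K M := fun _ hk => subset_closure ⟨x, hx, hk⟩

theorem BB_le : BB Z K M ≤ M := (closure_le _).2 fun _ ⟨_, hx, hk⟩ => p.K_le hx hk

theorem bl_BB (hb : b ∈ BB Z K M) : ∀ v ∈ Z ∩ M, Bl v (b * v * b⁻¹) := by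
  have key : ∀ b ∈ BB Z K M, b ∈ M ∧ ∀ v ∈ Z ∩ M, Bl v (b * v * b⁻¹) := by
    intro b hb
    refine ⟨p.BB_le hb, ?_⟩
    rw [BB] at hb
    induction hb using closure_induction with
    | mem b hb =>
      obtain ⟨x, hx, hk⟩ := hb
      exact fun v hv => p.bl_K hx hv hk
    | one =>
      intro v hv
      rw [one_mul, inv_one, mul_one]
      exact p.refl v hv
    | mul a b ha hb h1 h2 =>
      intro v hv
      have hbM : b ∈ M := p.BB_le hb
      have haM : a ∈ M := p.BB_le ha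
      have e : a * b * v * (a * b)⁻¹ = a * (b * v * b⁻¹) * a⁻¹ := by group
      rw [e]
      exact p.trans v hv _ (p.conj_mem hv hbM) _ (p.conj_mem (p.conj_mem hv hbM) haM) (h2 v hv)
        (h1 _ (p.conj_mem hv hbM))
    | inv a ha h1 =>
      intro v hv
      have haM : a⁻¹ ∈ M := M.inv_mem (p.BB_le ha)
      have h2 := h1 _ (p.conj_mem hv haM)
      have e : a * (a⁻¹ * v * a⁻¹⁻¹) * a⁻¹ = v := by group
      rw [e] at h2
      exact p.symm _ (p.conj_mem hv haM) v hv h2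
  exact (key b hb).2

/-- `M` normalises the group generated by the members -/
theorem conj_BB (hg : g ∈ M) (hb : b ∈ BB Z K M) : g * b * g⁻¹ ∈ BB Z K M := by
  have h1 : BB Z K M ≤ (BB Z K M).comap (MulAut.conj g).toMonoidHom := by
    refine (closure_le _).2 ?_
    rintro k ⟨x, hx, hk⟩
    exact subset_closure ⟨g * x * g⁻¹, p.conj_mem hx hg, p.conj_mem_K hx.1 g hk⟩
  exact h1 hb

/-- `G0` is not contained in `M` -/
theorem not_le {G0 : Subgroup G} (f : FSimp G0) : ¬ G0 ≤ M := by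
  intro hG
  obtain ⟨x, hx, y, hy, hxy⟩ := p.two
  have h1 : G0 ≤ BB Z K M := by
    refine f.le (fun g hg n hn => p.conj_BB (hG hg) hn) fun h1 => p.w.ne x hx.1 ?_
    have h2 := p.K_le_BB hx (p.w.mem x hx.1)
    rw [h1] at h2
    exact h2
  have key : ∀ x ∈ Z ∩ M, G0 ≤ closure {k | ∃ v ∈ Z ∩ M, Bl x v ∧ k ∈ K v} := by
    intro x hx
    refine f.le (fun g hg n hn => ?_) fun h1 => p.w.ne x hx.1 ?_
    · have h2 : closure {k | ∃ v ∈ Z ∩ M, Bl x v ∧ k ∈ K v} ≤
          (closure {k | ∃ v ∈ Z ∩ M, Bl x v ∧ k ∈ K v}).comap (MulAut.conj g).toMonoidHom := by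
        refine (closure_le _).2 ?_
        rintro k ⟨v, hv, hxv, hk⟩
        exact subset_closure ⟨g * v * g⁻¹, p.conj_mem hv (hG hg),
          p.trans x hx v hv _ (p.conj_mem hv (hG hg)) hxv (p.bl_BB (h1 hg) v hv), p.conj_mem_K hv.1 g hk⟩
      exact h2 hn
    · have h2 : x ∈ closure {k | ∃ v ∈ Z ∩ M, Bl x v ∧ k ∈ K v} :=
        subset_closure ⟨x, hx, p.refl x hx, p.w.mem x hx.1⟩
      rw [h1] at h2
      exact h2
  refine f.na fun a ha b hb => ?_
  have ha' := key x hx ha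
  have hb' := key y hy hb
  -- the two groups commute
  have h2 : closure {k | ∃ v ∈ Z ∩ M, Bl x v ∧ k ∈ K v} ≤ centralizer {k | ∃ v ∈ Z ∩ M, Bl y v ∧ k ∈ K v} := by
    refine (closure_le _).2 ?_
    rintro k ⟨v, hv, hxv, hk⟩
    rw [SetLike.mem_coe, mem_centralizer_iff]
    rintro l ⟨u, hu, hyu, hl⟩
    refine p.cm u hu v hv (fun h3 => hxy ?_) l hl k hk
    exact p.trans x hx v hv y hy hxv (p.trans v hv u hu y hy (p.symm u hu v hv h3) (p.symm y hy u hu hyu))
  have h3 : closure {k | ∃ v ∈ Z ∩ M, Bl y v ∧ k ∈ K v} ≤ centralizer {a} := by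
    refine (closure_le _).2 fun l hl => mem_centralizer_singleton_iff.2 ?_
    exact mem_centralizer_iff.1 (h2 ha') l hl
  exact (mem_centralizer_singleton_iff.1 (h3 hb')).symm

section fin

variable [Finite G]

/-- a 2-subgroup of `BB` goes into `S` by an element of `BB` -/
theorem exists_cj_BB (S : Sylow 2 G) (hS : (S : Subgroup G) ≤ M) {R : Subgroup G} (hR : IsPGroup 2 R)
    (hRB : R ≤ BB Z K M) : ∃ b ∈ BB Z K M, cj b R ≤ (S : Subgroup G) := by
  obtain ⟨T, hT, hRT⟩ := exists_syl_ge hR hRB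
  obtain ⟨m, hm, hmS⟩ := ROne.Strong.exists_cj_le S hS hT.2.1 (hT.1.trans p.BB_le)
  have hBm : cj m (BB Z K M) = BB Z K M := by
    have key : ∀ m ∈ M, cj m (BB Z K M) ≤ BB Z K M := by
      intro m hm a ha
      have h1 := p.conj_BB hm (mem_cj.1 ha)
      have e : m * (m⁻¹ * a * m) * m⁻¹ = a := by group
      rwa [e] at h1
    refine le_antisymm (key m hm) ?_
    have h1 := cj_mono m (key m⁻¹ (M.inv_mem hm))
    rwa [cj_cj_inv] at h1
  have h1 : Syl (cj m T) (BB Z K M) := by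
    have h2 := hT.cj m
    rwa [hBm] at h2
  obtain ⟨b, hb, hbT⟩ := hT.exists_conj h1
  exact ⟨b, hb, (cj_mono b hRT).trans (hbT.le.trans hmS)⟩

/-- every class meets `C_S` -/
theorem exists_mem_CS (S : Sylow 2 G) (hS : (S : Subgroup G) ≤ M) (hx : x ∈ Z ∩ M) :
    ∃ v ∈ CS Z K (S : Subgroup G), Bl x v := by
  obtain ⟨b, hb, hbS⟩ := p.exists_cj_BB S hS (p.w.two hx.1) (p.K_le_BB hx)
  refine ⟨b * x * b⁻¹, ⟨p.w.conjZ x hx.1 b, ?_⟩, p.bl_BB hb x hx⟩
  rw [p.w.conjK x hx.1]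
  exact hbS

theorem CS_sub (S : Sylow 2 G) (hS : (S : Subgroup G) ≤ M) (hv : v ∈ CS Z K (S : Subgroup G)) : v ∈ Z ∩ M :=
  ⟨hv.1, hS (hv.2 (p.w.mem v hv.1))⟩

theorem exists_sylow : ∃ S : Sylow 2 G, (S : Subgroup G) ≤ M := by
  obtain ⟨x, hx, -⟩ := p.two
  obtain ⟨S, hS⟩ := p.w.exists_sylow hx.1
  exact ⟨S, p.syl S x hx hS.2⟩

theorem exists_ne (S : Sylow 2 G) (hS : (S : Subgroup G) ≤ M) :
    ∃ z ∈ CS Z K (S : Subgroup G), ∃ u ∈ CS Z K (S : Subgroup G), z ≠ u := by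
  obtain ⟨x, hx, y, hy, hxy⟩ := p.two
  obtain ⟨z, hz, hxz⟩ := p.exists_mem_CS S hS hx
  obtain ⟨u, hu, hyu⟩ := p.exists_mem_CS S hS hy
  refine ⟨z, hz, u, hu, ?_⟩
  rintro rfl
  exact hxy (p.trans x hx z (p.CS_sub S hS hz) y hy hxz (p.symm y hy z (p.CS_sub S hS hz) hyu))

theorem CS_conj (S : Sylow 2 G) {s z : G} (hs : s ∈ (S : Subgroup G)) (hz : z ∈ CS Z K (S : Subgroup G)) :
    s * z * s⁻¹ ∈ CS Z K (S : Subgroup G) := by
  have h1 := (p.w.cj_CS s (S : Subgroup G) hz.1).2 hz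
  rwa [mem_normalizer_iff_cj.1 (le_normalizer hs)] at h1

theorem com (S : Sylow 2 G) {z u : G} (hz : z ∈ CS Z K (S : Subgroup G)) (hu : u ∈ CS Z K (S : Subgroup G))
    (hne : z ≠ u) : CP K z u := p.w.com S S.isPGroup' hz.1 hu.1 hz.2 hu.2 hne

/-! ### A C-pair inside a class -/

/-- products of C-pairs inside a class are central in `BB` -/
theorem cen_mul (hx : x ∈ Z ∩ M) (hy : y ∈ Z ∩ M) (hxy : Bl x y) (hc : CP K x y) (hb : b ∈ BB Z K M) :
    b * (x * y) * b⁻¹ = x * y := by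
  have h1 : BB Z K M ≤ centralizer {x * y} := by
    refine (closure_le _).2 ?_
    rintro k ⟨v, hv, hk⟩
    rw [SetLike.mem_coe, mem_centralizer_singleton_iff]
    by_cases h1 : Bl x v
    · exact (p.one x hx y hy hxy hc v hv h1 k hk).symm
    · have h2 : ¬ Bl y v := fun h2 => h1 (p.trans x hx y hy v hv hxy h2)
      have h3 := p.cm x hx v hv h1 x (p.w.mem x hx.1) k hk
      have h4 := p.cm y hy v hv h2 y (p.w.mem y hy.1) k hk
      rw [← mul_assoc, ← h3, mul_assoc, ← h4, mul_assoc]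
  rw [mem_centralizer_singleton_iff.1 (h1 hb), mul_inv_cancel_right]

theorem mul_mem_TT (S : Sylow 2 G) (hS : (S : Subgroup G) ≤ M) (hx : x ∈ Z ∩ M) (hy : y ∈ Z ∩ M) (hxy : Bl x y)
    (hc : CP K x y) : x * y ∈ TT Z K (S : Subgroup G) := by
  classical
  have hR : IsPGroup 2 (⨆ z ∈ ({x, y} : Finset G), K z : Subgroup G) := by
    refine p.w.isPGroup_clique _ ?_ ?_
    · intro z hz
      rw [Finset.mem_insert, Finset.mem_singleton] at hz
      rcases hz with rfl | rfl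
      · exact hx.1
      · exact hy.1
    · intro z hz u hu hne
      rw [Finset.mem_insert, Finset.mem_singleton] at hz hu
      rcases hz with rfl | rfl <;> rcases hu with rfl | rfl
      · exact absurd rfl hne
      · exact hc
      · exact hc.symm
      · exact absurd rfl hne
  obtain ⟨b, hb, hbS⟩ := p.exists_cj_BB S hS hR (by
    refine iSup₂_le fun z hz => ?_
    rw [Finset.mem_insert, Finset.mem_singleton] at hz
    rcases hz with rfl | rfl
    · exact p.K_le_BB hx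
    · exact p.K_le_BB hy)
  have key : ∀ z ∈ ({x, y} : Finset G), z ∈ Z → b * z * b⁻¹ ∈ CS Z K (S : Subgroup G) := by
    intro z hz hzZ
    refine ⟨p.w.conjZ z hzZ b, ?_⟩
    rw [p.w.conjK z hzZ]
    exact (cj_mono b (le_iSup₂ (f := fun z (_ : z ∈ ({x, y} : Finset G)) => K z) z hz)).trans hbS
  rw [← p.cen_mul hx hy hxy hc hb]
  have e : b * (x * y) * b⁻¹ = b * x * b⁻¹ * (b * y * b⁻¹) := by group
  rw [e]
  exact mul_mem (subset_closure (key x (by simp) hx.1)) (subset_closure (key y (by simp) hy.1))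

/-- **Case 1**, the strongly closed subgroup -/
theorem exists_closed (hdat : RTwoM.L1.Dat Z K) (hx : x ∈ Z ∩ M) (hy : y ∈ Z ∩ M) (hxy : Bl x y)
    (hc : CP K x y) : ∃ S : Sylow 2 G, ∃ A : Subgroup G, A ≠ ⊥ ∧ A ≤ TT Z K (S : Subgroup G) ∧
      IsStronglyClosed A (S : Subgroup G) := by
  obtain ⟨S, hS⟩ := p.exists_sylow
  obtain ⟨z, hz, u, hu, hne⟩ := p.exists_ne S hS
  set A : Subgroup G := closure {t | ∃ x ∈ Z ∩ M, ∃ y ∈ Z ∩ M, Bl x y ∧ CP K x y ∧ t = x * y} with hA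
  have hAT : A ≤ TT Z K (S : Subgroup G) := by
    rw [hA, closure_le]
    rintro t ⟨x, hx, y, hy, hxy, hc, rfl⟩
    exact p.mul_mem_TT S hS hx hy hxy hc
  have hAM : M ≤ normalizer (A : Set G) := by
    have key : ∀ g ∈ M, A ≤ A.comap (MulAut.conj g).toMonoidHom := by
      intro g hg
      conv_lhs => rw [hA]
      rw [closure_le]
      rintro t ⟨x, hx, y, hy, hxy, hc, rfl⟩
      refine subset_closure ⟨g * x * g⁻¹, p.conj_mem hx hg, g * y * g⁻¹, p.conj_mem hy hg, p.conj g hg x hx y hy hxy,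
        p.cp_conj hx.1 hy.1 hc g, ?_⟩
      change g * (x * y) * g⁻¹ = _
      group
    intro g hg
    rw [mem_normalizer_iff]
    intro a
    refine ⟨fun ha => key g hg ha, fun ha => ?_⟩
    have h1 : g⁻¹ * (g * a * g⁻¹) * g⁻¹⁻¹ ∈ A := key g⁻¹ (inv_mem hg) ha
    have h2 : g⁻¹ * (g * a * g⁻¹) * g⁻¹⁻¹ = a := by group
    rwa [h2] at h1
  have hA1 : A ≠ ⊥ := by
    intro h1
    have h2 : x * y ∈ A := subset_closure ⟨x, hx, y, hy, hxy, hc, rfl⟩
    rw [h1] at h2
    exact p.w.cp_mul_ne hy.1 hc h2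
  refine ⟨S, A, hA1, hAT, ?_⟩
  refine RTwoM.L1.strongB S hS (CS := CS Z K (S : Subgroup G)) ?_ (hdat S) ⟨z, hz⟩
    (fun u hu x hx => p.mem u (p.CS_sub S hS hu) x hx)
    (fun s hs hs1 c hc => p.cen S hS s hs hs1 c hc) (hAT.trans p.w.TT_le) hAM
    (fun a ha => p.w.TT_sq S.isPGroup' (hAT ha)) ?_
  · exact fun v hv => hv.2 (p.w.mem v hv.1)
  · intro a ha ha1 R _ hR
    refine ⟨1, by rw [one_mul, mul_one], ?_⟩
    rw [cj_one]
    exact fun r hr => p.cen S hS a (hAT ha) ha1 r (hR r hr)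

end fin

/-! ### No C-pair inside a class -/

omit p in
/-- reindexing -/
theorem noncommProd_comp {ι β : Type*} [Fintype ι] [Monoid β] (e : ι ≃ ι) (f : ι → β)
    (h1 : ((Finset.univ : Finset ι) : Set ι).Pairwise (Function.onFun Commute fun i => f (e i)))
    (h2 : ((Finset.univ : Finset ι) : Set ι).Pairwise (Function.onFun Commute f)) :
    Finset.univ.noncommProd (fun i => f (e i)) h1 = Finset.univ.noncommProd f h2 := by
  have h3 : (Finset.univ : Finset ι).val.map (fun i => f (e i)) = (Finset.univ : Finset ι).val.map f := by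
    conv_rhs => rw [← Multiset.map_univ_val_equiv e, Multiset.map_map]
    rfl
  unfold Finset.noncommProd
  congr 1

/-- one element in each class -/
def Fam (Z : Set G) (M : Subgroup G) (Bl : G → G → Prop) {ι : Type*} (c : ι → G) : Prop :=
  (∀ i, c i ∈ Z ∩ M) ∧ ∀ i j, i ≠ j → ¬ Bl (c i) (c j)

section fam

variable {ι : Type*} [Fintype ι] {c d : ι → G}

theorem fam_comm (hc : Fam Z M Bl c) : ((Finset.univ : Finset ι) : Set ι).Pairwise (Function.onFun Commute c) :=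
  fun i _ j _ hij => p.cm _ (hc.1 i) _ (hc.1 j) (hc.2 i j hij) _ (p.w.mem _ (hc.1 i).1) _ (p.w.mem _ (hc.1 j).1)

theorem fam_split (hc : Fam Z M Bl c) (i : ι) : ∃ t, Finset.univ.noncommProd c (p.fam_comm hc) = c i * t ∧
    ∀ u ∈ Z ∩ M, Bl (c i) u → Ce t (K u) := by
  classical
  have hcom : (((Finset.univ : Finset ι).erase i : Finset ι) : Set ι).Pairwise (Function.onFun Commute c) :=
    (p.fam_comm hc).mono (fun _ _ => Finset.mem_coe.2 (Finset.mem_univ _))
  refine ⟨((Finset.univ : Finset ι).erase i).noncommProd c hcom,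
    (Finset.mul_noncommProd_erase Finset.univ (Finset.mem_univ i) c (p.fam_comm hc) hcom).symm, ?_⟩
  intro u hu hiu
  have h1 : ((Finset.univ : Finset ι).erase i).noncommProd c hcom ∈ centralizer (K u : Set G) := by
    refine Subgroup.noncommProd_mem _ _ fun j hj => mem_centralizer_iff.2 fun k hk => ?_
    refine (p.cm _ (hc.1 j) u hu (fun h1 => ?_) _ (p.w.mem _ (hc.1 j).1) k hk).symm
    exact hc.2 i j (Finset.ne_of_mem_erase hj).symm
      (p.trans _ (hc.1 i) u hu _ (hc.1 j) hiu (p.symm _ (hc.1 j) u hu h1))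
  exact fun k hk => (mem_centralizer_iff.1 h1 k hk).symm

/-- the two products, step 1: `c i` and `d i` commute -/
theorem fam_cd (hn : ∀ x ∈ Z ∩ M, ∀ y ∈ Z ∩ M, Bl x y → ¬ CP K x y) (hc : Fam Z M Bl c) (hd : Fam Z M Bl d)
    (hcd : ∀ i, Bl (c i) (d i)) {h k : G} (hh : h = Finset.univ.noncommProd c (p.fam_comm hc))
    (hk : k = Finset.univ.noncommProd d (p.fam_comm hd)) (hhk : h * k = k * h) (i : ι) :
    c i * d i = d i * c i := by
  obtain ⟨s, hs, hs'⟩ := p.fam_split hc i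
  obtain ⟨t, ht, ht'⟩ := p.fam_split hd i
  rw [← hh] at hs
  rw [← hk] at ht
  have hci := hc.1 i
  have hdi := hd.1 i
  have hdc : Bl (d i) (c i) := p.symm _ hci _ hdi (hcd i)
  have sc : s * c i = c i * s := hs' _ hci (p.refl _ hci) _ (p.w.mem _ hci.1)
  have sd : s * d i = d i * s := hs' _ hdi (hcd i) _ (p.w.mem _ hdi.1)
  have tc : t * c i = c i * t := ht' _ hci hdc _ (p.w.mem _ hci.1)
  have td : t * d i = d i * t := ht' _ hdi (p.refl _ hdi) _ (p.w.mem _ hdi.1)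
  -- `c d s t = d c t s`
  have e1 : c i * d i * (s * t) = d i * c i * (t * s) := by
    calc c i * d i * (s * t) = c i * (d i * s) * t := by group
      _ = c i * s * (d i * t) := by rw [← sd]; group
      _ = d i * t * (c i * s) := by rw [← hs, ← ht, hhk]
      _ = d i * (t * c i) * s := by group
      _ = _ := by rw [tc]; group
  set ζ := t * s * (s * t)⁻¹ with hζ
  have e2 : c i * d i = d i * c i * ζ := by
    rw [hζ, ← mul_assoc, ← e1]; group
  have hζc : Ce ζ (K (c i)) := by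
    have a1 : Ce s (K (c i)) := hs' _ hci (p.refl _ hci)
    have a2 : Ce t (K (c i)) := ht' _ hci hdc
    exact (a2.mul a1).mul (a1.mul a2).inv
  -- `v' = d⁻¹ c d`
  have hdM : (d i)⁻¹ ∈ M := M.inv_mem hdi.2
  have e3 : (d i)⁻¹ * c i * (d i)⁻¹⁻¹ = c i * ζ := by
    rw [inv_inv, mul_assoc, e2]; group
  have hv := p.conj_mem hci hdM
  have hbl : Bl (c i) ((d i)⁻¹ * c i * (d i)⁻¹⁻¹) := by
    have h2 := p.conj _ hdM _ hdi _ hci hdc
    rw [inv_mul_cancel, one_mul, inv_inv] at h2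
    rw [inv_inv]
    rw [inv_inv] at hv
    exact p.trans _ hci _ hdi _ hv (hcd i) h2
  have hcen : Ce ((d i)⁻¹ * c i * (d i)⁻¹⁻¹) (K (c i)) := by
    rw [e3]
    exact Ce.mul (fun k hk => (p.w.cent hci.1 hk).symm) hζc
  rcases (p.w.cen_iff hci.1 hv.1).1 hcen with h2 | h2
  · have h3 : c i = (d i)⁻¹ * c i * d i := by rwa [inv_inv] at h2
    calc c i * d i = (d i) * ((d i)⁻¹ * c i * d i) := by group
      _ = d i * c i := by rw [← h3]
  · exact absurd h2 (hn _ hci _ hv hbl)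

/-- the two products: `h k = c i d i r`, `r` centralises the block of `c i` -/
theorem fam_mul (hc : Fam Z M Bl c) (hd : Fam Z M Bl d) (hcd : ∀ i, Bl (c i) (d i)) {h k : G}
    (hh : h = Finset.univ.noncommProd c (p.fam_comm hc)) (hk : k = Finset.univ.noncommProd d (p.fam_comm hd)) (i : ι) :
    ∃ r, h * k = c i * d i * r ∧ ∀ u ∈ Z ∩ M, Bl (c i) u → Ce r (K u) := by
  obtain ⟨s, hs, hs'⟩ := p.fam_split hc i
  obtain ⟨t, ht, ht'⟩ := p.fam_split hd i
  rw [← hh] at hs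
  rw [← hk] at ht
  have hci := hc.1 i
  have hdi := hd.1 i
  have hdc : Bl (d i) (c i) := p.symm _ hci _ hdi (hcd i)
  have sd : s * d i = d i * s := hs' _ hdi (hcd i) _ (p.w.mem _ hdi.1)
  refine ⟨s * t, ?_, fun u hu hiu => (hs' u hu hiu).mul (ht' u hu (p.trans _ hdi _ hci u hu hdc hiu))⟩
  rw [hs, ht]
  calc c i * s * (d i * t) = c i * (s * d i) * t := by group
    _ = c i * (d i * s) * t := by rw [sd]
    _ = _ := by group

end fam

end PG

end Cfsg.Agent.Cit.Nil.CompR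

namespace Cfsg.Agent.Cit.Nil.CompR

open Subgroup Cfsg Cfsg.Agent.Cit Cfsg.Agent.Cit.Nil.AN
open Cfsg.Agent.Cit.Nil.ROne (CP CS TT FSimp exists_sylow_subgroupOf)

variable {G : Type*} [Group G]

/-- the group of the block of `v` -/
def BGz (Z : Set G) (K : G → Subgroup G) (M : Subgroup G) (Bl : G → G → Prop) (v : G) : Subgroup G :=
  closure {k | ∃ x ∈ Z ∩ M, Bl v x ∧ k ∈ K x}

/-- two commuting points of a block: the product is a point of the block or `Sw` -/
def PRd (Z : Set G) (M : Subgroup G) (Bl Sw : G → G → Prop) : Prop :=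
  ∀ x ∈ Z ∩ M, ∀ y ∈ Z ∩ M, Bl x y → x ≠ y → x * y = y * x → (x * y ∈ Z ∩ M ∧ Bl x (x * y)) ∨ Sw x y

/-- (PP) -/
def PPd (Z : Set G) (K : G → Subgroup G) (M : Subgroup G) (Bl Sw : G → G → Prop) : Prop :=
  ∀ x ∈ Z ∩ M, ∀ y ∈ Z ∩ M, Bl x y → x ≠ y → x * y = y * x → Sw x y → ∃ n ∈ Z ∩ M, Bl x n ∧ Ce (x * y) (K n)

/-- LEMMA E' -/
def EEd (Z : Set G) (K : G → Subgroup G) (M : Subgroup G) (Bl Sw : G → G → Prop) : Prop :=
  (∃ x ∈ Z ∩ M, ∃ y ∈ Z ∩ M, Bl x y ∧ x ≠ y ∧ x * y = y * x ∧ Sw x y) → ∀ e, e * e = 1 → e ≠ 1 →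
    (∃ n ∈ Z ∩ M, ∃ n' ∈ Z ∩ M, ¬ Bl n n' ∧ Ce e (K n) ∧ Ce e (K n')) →
    (∀ v ∈ Z ∩ M, ∃ e' ∈ BGz Z K M Bl v, e' * e' = 1 ∧ ∀ b ∈ BGz Z K M Bl v, e * b * e⁻¹ = e' * b * e'⁻¹) →
    ∀ g, g * e = e * g → g ∈ M

namespace PG

variable {Z : Set G} {K : G → Subgroup G} {M : Subgroup G} {Bl Sw : G → G → Prop} {x y v g b c k : G}
  (p : PG Z K M Bl)

include p

section fam

variable {ι : Type*} [Fintype ι] {c d : ι → G}

/-- the two products, no factor `Sw` -/
theorem fam_none [Finite G] (hc : Fam Z M Bl c) (hd : Fam Z M Bl d) (hcd : ∀ i, Bl (c i) (d i)) {h k : G}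
    (hh : h = Finset.univ.noncommProd c (p.fam_comm hc)) (hk : k = Finset.univ.noncommProd d (p.fam_comm hd))
    (hne : h * k ≠ 1) (h2 : ∀ i, c i * d i ≠ 1 → c i * d i ∈ Z ∩ M ∧ Bl (c i) (c i * d i)) :
    ∀ g, g * (h * k) = h * k * g → g ∈ M := by
  classical
  have h3 : ∀ i j, i ≠ j → c i * d i ≠ 1 → c j * d j ≠ 1 → ¬ Bl (c i * d i) (c j * d j) := by
    intro i j hij hi hj h3
    obtain ⟨a1, a2⟩ := h2 i hi
    obtain ⟨b1, b2⟩ := h2 j hj
    exact hc.2 i j hij (p.trans _ (hc.1 i) _ a1 _ (hc.1 j) a2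
      (p.trans _ a1 _ b1 _ (hc.1 j) h3 (p.symm _ (hc.1 j) _ b1 b2)))
  -- the product
  have comm_gf : ((Finset.univ : Finset ι) : Set ι).Pairwise fun i j => Commute (d i) (c j) := by
    intro i _ j _ hij
    refine p.cm _ (hd.1 i) _ (hc.1 j) (fun h4 => ?_) _ (p.w.mem _ (hd.1 i).1) _ (p.w.mem _ (hc.1 j).1)
    exact hc.2 i j hij (p.trans _ (hc.1 i) _ (hd.1 i) _ (hc.1 j) (hcd i) h4)
  have hprod : h * k = Finset.univ.noncommProd (c * d)
      (Finset.noncommProd_mul_distrib_aux (p.fam_comm hc) (p.fam_comm hd) comm_gf) := by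
    rw [Finset.noncommProd_mul_distrib c d (p.fam_comm hc) (p.fam_comm hd) comm_gf, hh, hk]
  -- a Sylow subgroup
  let A : Finset G := (Finset.univ.image (fun i => c i * d i)).filter (· ≠ 1)
  have hA : ∀ a ∈ A, ∃ i, a = c i * d i ∧ c i * d i ≠ 1 := by
    intro a ha
    rw [Finset.mem_filter, Finset.mem_image] at ha
    obtain ⟨⟨i, -, rfl⟩, h4⟩ := ha
    exact ⟨i, rfl, h4⟩
  have hmem : ∀ i, c i * d i ≠ 1 → c i * d i ∈ A := fun i hi =>
    Finset.mem_filter.2 ⟨Finset.mem_image.2 ⟨i, Finset.mem_univ i, rfl⟩, hi⟩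
  obtain ⟨S, hS⟩ := (p.w.isPGroup_clique A (by
    intro a ha
    obtain ⟨i, rfl, hi⟩ := hA a ha
    exact (h2 i hi).1.1) (by
    intro a ha b hb hab
    obtain ⟨i, rfl, hi⟩ := hA a ha
    obtain ⟨j, rfl, hj⟩ := hA b hb
    refine ⟨hab, p.cm _ (h2 i hi).1 _ (h2 j hj).1 (h3 i j ?_ hi hj)⟩
    rintro rfl
    exact hab rfl)).exists_le_sylow
  have hCS : ∀ i, c i * d i ≠ 1 → c i * d i ∈ CS Z K (S : Subgroup G) := fun i hi =>
    ⟨(h2 i hi).1.1, (le_iSup₂ (f := fun z (_ : z ∈ A) => K z) _ (hmem i hi)).trans hS⟩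
  -- some factor is not `1`
  obtain ⟨i, hi⟩ : ∃ i, c i * d i ≠ 1 := by
    by_contra hcon
    push Not at hcon
    apply hne
    rw [hprod]
    have h4 : Finset.univ.noncommProd (c * d)
        (Finset.noncommProd_mul_distrib_aux (p.fam_comm hc) (p.fam_comm hd) comm_gf) ∈ (⊥ : Subgroup G) :=
      Subgroup.noncommProd_mem _ _ fun i _ => mem_bot.2 (hcon i)
    exact mem_bot.1 h4
  have hSM := p.syl S _ (h2 i hi).1 (hCS i hi).2
  refine p.cen S hSM (h * k) ?_ hne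
  rw [hprod]
  refine Subgroup.noncommProd_mem _ _ fun i _ => ?_
  by_cases h4 : c i * d i = 1
  · change c i * d i ∈ _
    rw [h4]
    exact one_mem _
  · exact subset_closure (hCS i h4)

/-- two products -/
theorem fam_main [Finite G] (hn : ∀ x ∈ Z ∩ M, ∀ y ∈ Z ∩ M, Bl x y → ¬ CP K x y) (hpr : PRd Z M Bl Sw)
    (hpp : PPd Z K M Bl Sw) (hee : EEd Z K M Bl Sw) (hc : Fam Z M Bl c) (hd : Fam Z M Bl d)
    (hcd : ∀ i, Bl (c i) (d i)) {i0 j0 : ι} (hij0 : i0 ≠ j0) (hfull : ∀ v ∈ Z ∩ M, ∃ i, Bl (c i) v) {h k : G}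
    (hh : h = Finset.univ.noncommProd c (p.fam_comm hc)) (hk : k = Finset.univ.noncommProd d (p.fam_comm hd))
    (hhh : h * h = 1) (hkk : k * k = 1) (hhk : h * k = k * h) (hne : h * k ≠ 1) :
    ∀ g, g * (h * k) = h * k * g → g ∈ M := by
  classical
  have h1 : ∀ i, c i * d i = d i * c i := fun i => p.fam_cd hn hc hd hcd hh hk hhk i
  have hcne : ∀ i, c i * d i ≠ 1 → c i ≠ d i := by
    intro i hi h2
    rw [← h2] at hi
    exact hi (p.w.sq _ (hc.1 i).1)
  by_cases hsw : ∃ i, c i * d i ≠ 1 ∧ Sw (c i) (d i)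
  swap
  · push Not at hsw
    refine p.fam_none hc hd hcd hh hk hne fun i hi => ?_
    exact (hpr _ (hc.1 i) _ (hd.1 i) (hcd i) (hcne i hi) (h1 i)).resolve_right (hsw i hi)
  obtain ⟨i1, hi1, hs1⟩ := hsw
  refine hee ⟨c i1, hc.1 i1, d i1, hd.1 i1, hcd i1, hcne i1 hi1, h1 i1, hs1⟩ (h * k) ?_ hne ?_ ?_
  · calc h * k * (h * k) = h * (k * h) * k := by group
      _ = h * (h * k) * k := by rw [hhk]
      _ = (h * h) * (k * k) := by group
      _ = 1 := by rw [hhh, hkk, one_mul]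
  · -- the points `n i`
    have hni : ∀ i, ∃ n ∈ Z ∩ M, Bl (c i) n ∧ Ce (c i * d i) (K n) := by
      intro i
      by_cases hi : c i * d i = 1
      · refine ⟨c i, hc.1 i, p.refl _ (hc.1 i), ?_⟩
        rw [hi]
        exact Ce.one _
      rcases hpr _ (hc.1 i) _ (hd.1 i) (hcd i) (hcne i hi) (h1 i) with h2 | h2
      · exact ⟨c i * d i, h2.1, h2.2, fun k hk => (p.w.cent h2.1.1 hk).symm⟩
      · exact hpp _ (hc.1 i) _ (hd.1 i) (hcd i) (hcne i hi) (h1 i) h2
    have hne' : ∀ i n, n ∈ Z ∩ M → Bl (c i) n → Ce (c i * d i) (K n) → Ce (h * k) (K n) := by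
      intro i n hn hin hcn
      obtain ⟨r, hr, hr'⟩ := p.fam_mul hc hd hcd hh hk i
      rw [hr]
      exact hcn.mul (hr' n hn hin)
    obtain ⟨n, hn1, hn2, hn3⟩ := hni i0
    obtain ⟨m, hm1, hm2, hm3⟩ := hni j0
    refine ⟨n, hn1, m, hm1, fun h2 => hc.2 i0 j0 hij0 ?_, hne' i0 n hn1 hn2 hn3, hne' j0 m hm1 hm2 hm3⟩
    exact p.trans _ (hc.1 i0) _ hn1 _ (hc.1 j0) hn2 (p.trans _ hn1 _ hm1 _ (hc.1 j0) h2 (p.symm _ (hc.1 j0) _ hm1 hm2))
  · intro v hv
    obtain ⟨i, hi⟩ := hfull v hv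
    obtain ⟨r, hr, hr'⟩ := p.fam_mul hc hd hcd hh hk i
    have hvi := p.symm _ (hc.1 i) _ hv hi
    refine ⟨c i * d i, mul_mem (subset_closure ⟨c i, hc.1 i, hvi, p.w.mem _ (hc.1 i).1⟩)
      (subset_closure ⟨d i, hd.1 i, p.trans _ hv _ (hc.1 i) _ (hd.1 i) hvi (hcd i), p.w.mem _ (hd.1 i).1⟩), ?_, ?_⟩
    · calc c i * d i * (c i * d i) = c i * (d i * c i) * d i := by group
        _ = c i * (c i * d i) * d i := by rw [h1 i]
        _ = (c i * c i) * (d i * d i) := by group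
        _ = 1 := by rw [p.w.sq _ (hc.1 i).1, p.w.sq _ (hd.1 i).1, one_mul]
    · intro b hb
      have h2 : BGz Z K M Bl v ≤ centralizer {r} := by
        refine (closure_le _).2 ?_
        rintro k ⟨u, hu, hvu, hk⟩
        rw [SetLike.mem_coe, mem_centralizer_singleton_iff]
        exact (hr' u hu (p.trans _ (hc.1 i) _ hv _ hu hi hvu) k hk).symm
      have h3 := mem_centralizer_singleton_iff.1 (h2 hb)
      rw [hr]
      calc c i * d i * r * b * (c i * d i * r)⁻¹ = c i * d i * (r * b) * r⁻¹ * (c i * d i)⁻¹ := by group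
        _ = c i * d i * (b * r) * r⁻¹ * (c i * d i)⁻¹ := by rw [h3]
        _ = _ := by group

end fam

/-- **Case 2** -/
theorem exists_strong [Finite G] {G0 : Subgroup G} (f : FSimp G0) (hZ : ∀ z ∈ Z, z ∈ G0)
    (h75 : CloEnd.Crit1175 G0) (hn : ∀ x ∈ Z ∩ M, ∀ y ∈ Z ∩ M, Bl x y → ¬ CP K x y) (hpr : PRd Z M Bl Sw)
    (hpp : PPd Z K M Bl Sw) (hee : EEd Z K M Bl Sw) : ∃ H : Subgroup ↥G0, IsStronglyEmbedded H := by
  classical
  obtain ⟨S, hS⟩ := p.exists_sylow
  obtain ⟨z, hz, u, hu, hne⟩ := p.exists_ne S hS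
  haveI : Fintype (CS Z K (S : Subgroup G)) := Fintype.ofFinite _
  let c : CS Z K (S : Subgroup G) → G := Subtype.val
  have hc : Fam Z M Bl c := by
    refine ⟨fun v => p.CS_sub S hS v.2, fun v v' hvv h1 => ?_⟩
    exact hn _ (p.CS_sub S hS v.2) _ (p.CS_sub S hS v'.2) h1 (p.com S v.2 v'.2 (fun h2 => hvv (Subtype.ext h2)))
  have hfull : ∀ v ∈ Z ∩ M, ∃ i, Bl (c i) v := by
    intro v hv
    obtain ⟨v', h2, h3⟩ := p.exists_mem_CS S hS hv
    exact ⟨⟨v', h2⟩, p.symm _ hv _ (p.CS_sub S hS h2) h3⟩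
  set h := Finset.univ.noncommProd c (p.fam_comm hc) with hh
  have hT : h ∈ TT Z K (S : Subgroup G) := Subgroup.noncommProd_mem _ _ fun v _ => subset_closure v.2
  have hhh : h * h = 1 := p.w.TT_sq S.isPGroup' hT
  -- `h ≠ 1`
  have h1 : h ≠ 1 := by
    intro h1
    obtain ⟨t, ht, ht'⟩ := p.fam_split hc ⟨z, hz⟩
    rw [← hh, h1] at ht
    have hzM := p.CS_sub S hS hz
    obtain ⟨y, hy, hzy, hne'⟩ := p.ntr z hzM
    have h2 : Ce z (K y) := by
      have h3 : z = t⁻¹ := eq_inv_of_mul_eq_one_left ht.symm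
      rw [h3]
      exact (ht' y hy hzy).inv
    exact hn z hzM y hy hzy (p.w.csymm hy.1 hzM.1 hne'.symm h2).symm
  -- `h` is central in `S`
  have hcent : ∀ s ∈ (S : Subgroup G), s * h * s⁻¹ = h := by
    intro s hs
    have hinj : Function.Injective (fun v : CS Z K (S : Subgroup G) =>
        (⟨s * v * s⁻¹, p.CS_conj S hs v.2⟩ : CS Z K (S : Subgroup G))) := by
      intro v v' hvv
      have h2 : s * v * s⁻¹ = s * v' * s⁻¹ := congrArg Subtype.val hvv
      exact Subtype.ext (mul_left_cancel (mul_right_cancel h2))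
    let e : CS Z K (S : Subgroup G) ≃ CS Z K (S : Subgroup G) := Equiv.ofBijective _ hinj.bijective_of_finite
    have h2 := Finset.map_noncommProd Finset.univ c (p.fam_comm hc) (MulAut.conj s)
    change s * h * s⁻¹ = _ at h2
    rw [h2]
    exact noncommProd_comp e c _ (p.fam_comm hc)
  -- conjugates by elements of `M`
  have hconj : ∀ g ∈ M, ∃ d : CS Z K (S : Subgroup G) → G, ∃ hd : Fam Z M Bl d, (∀ v, Bl (c v) (d v)) ∧
      g * h * g⁻¹ = Finset.univ.noncommProd d (p.fam_comm hd) := by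
    intro g hg
    have hg' : g⁻¹ ∈ M := M.inv_mem hg
    have hex : ∀ v : CS Z K (S : Subgroup G), ∃ v' : CS Z K (S : Subgroup G), Bl (g⁻¹ * v * g⁻¹⁻¹) v' := by
      intro v
      obtain ⟨v', h2, h3⟩ := p.exists_mem_CS S hS (p.conj_mem (hc.1 v) hg')
      exact ⟨⟨v', h2⟩, h3⟩
    choose τ hτ using hex
    have hτ' : ∀ v, Bl (c v) (g * c (τ v) * g⁻¹) := by
      intro v
      have h2 := p.conj g hg _ (p.conj_mem (hc.1 v) hg') _ (hc.1 (τ v)) (hτ v)
      have e : g * (g⁻¹ * c v * g⁻¹⁻¹) * g⁻¹ = c v := by group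
      rwa [e] at h2
    have hinj : Function.Injective τ := by
      intro v v' hvv
      by_contra hne
      refine hc.2 v v' hne ?_
      have h2 := hτ' v'
      rw [← hvv] at h2
      exact p.trans _ (hc.1 v) _ (p.conj_mem (hc.1 (τ v)) hg) _ (hc.1 v') (hτ' v)
        (p.symm _ (hc.1 v') _ (p.conj_mem (hc.1 (τ v)) hg) h2)
    let e : CS Z K (S : Subgroup G) ≃ CS Z K (S : Subgroup G) := Equiv.ofBijective τ hinj.bijective_of_finite
    have hd : Fam Z M Bl (fun v => g * c (τ v) * g⁻¹) := by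
      refine ⟨fun v => p.conj_mem (hc.1 _) hg, fun v v' hvv h2 => hc.2 v v' hvv ?_⟩
      exact p.trans _ (hc.1 v) _ (p.conj_mem (hc.1 _) hg) _ (hc.1 v') (hτ' v)
        (p.trans _ (p.conj_mem (hc.1 _) hg) _ (p.conj_mem (hc.1 _) hg) _ (hc.1 v') h2
          (p.symm _ (hc.1 v') _ (p.conj_mem (hc.1 _) hg) (hτ' v')))
    refine ⟨fun v => g * c (τ v) * g⁻¹, hd, hτ', ?_⟩
    have h2 := Finset.map_noncommProd Finset.univ c (p.fam_comm hc) (MulAut.conj g)
    change g * h * g⁻¹ = _ at h2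
    rw [h2]
    exact (noncommProd_comp e (fun v => g * c v * g⁻¹) (p.fam_comm hd) _).symm
  -- the criterion
  have hhG : h ∈ G0 := by
    have h2 : TT Z K (S : Subgroup G) ≤ G0 := (closure_le _).2 fun v hv => hZ v hv.1
    exact h2 hT
  obtain ⟨T, hTS⟩ := exists_sylow_subgroupOf f.nor S
  exact h75 (M.subgroupOf G0) (fun h2 => p.not_le f (subgroupOf_eq_top.1 h2)) ⟨h, hhG⟩
    (by rw [← Subgroup.orderOf_coe]; exact orderOf_eq_prime (by rw [pow_two]; exact hhh) h1)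
    (hS (p.w.TT_le hT)) ⟨T, by
      have h2 : (⟨h, hhG⟩ : G0) ∈ (T : Subgroup G0) := by rw [hTS]; exact p.w.TT_le hT
      exact h2, fun s hs => by
      have h2 : s ∈ (T : Subgroup G0) := hs
      rw [hTS] at h2
      exact Subtype.ext (mul_inv_eq_iff_eq_mul.1 (hcent s h2))⟩
    (fun g hg => p.mem' S hS h hT h1 g hg) (fun g hg hg' => by
      have hcm : h * (g * h * (g : G)⁻¹) = g * h * (g : G)⁻¹ * h := congrArg Subtype.val hg.eq
      have hne' : (g : G) * h * (g : G)⁻¹ ≠ h := fun h2 => hg' (Subtype.ext h2)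
      have hgM : (g : G) ∈ M := p.mem' S hS h hT h1 g (p.cen S hS h hT h1 _ hcm.symm)
      obtain ⟨d, hd, hcd, hk⟩ := hconj g hgM
      intro x hx
      refine p.fam_main hn hpr hpp hee hc hd hcd (i0 := ⟨z, hz⟩) (j0 := ⟨u, hu⟩)
        (fun h2 => hne (congrArg Subtype.val h2)) hfull hh hk hhh ?_ hcm ?_ x ?_
      · have h2 : (g : G) * h * (g : G)⁻¹ * (g * h * (g : G)⁻¹) = g * (h * h) * (g : G)⁻¹ := by group
        rw [h2, hhh, mul_one, mul_inv_cancel]
      · intro h2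
        apply hne'
        exact mul_left_cancel (h2.trans hhh.symm)
      · exact congrArg Subtype.val (mem_centralizer_singleton_iff.1 hx))

end PG

end Cfsg.Agent.Cit.Nil.CompR

namespace Cfsg.Agent.Cit.Nil.CompR

open Subgroup Cfsg Cfsg.Agent.Cit Cfsg.Agent.Cit.Nil.AN
open Cfsg.Agent.Cit.Nil.ROne (CP CS TT FSimp)
open Cfsg.Agent.Cit.Nil.RG (WR RR Ov)
open Cfsg.Agent.Cit.Nil.RTwoM (WM OneCls C3E InZ)

variable {G : Type*} [Group G]

/-! ### `r = 2` -/

/-- the product situation, `r = 2` -/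
structure PE (Om : Set (Subgroup G)) (M : Subgroup G) (Bl : G → G → Prop) : Prop where
  w : WM Om
  refl : ∀ x ∈ RG.ZZ Om ∩ M, Bl x x
  symm : ∀ x ∈ RG.ZZ Om ∩ M, ∀ y ∈ RG.ZZ Om ∩ M, Bl x y → Bl y x
  trans : ∀ x ∈ RG.ZZ Om ∩ M, ∀ y ∈ RG.ZZ Om ∩ M, ∀ v ∈ RG.ZZ Om ∩ M, Bl x y → Bl y v → Bl x v
  conj : ∀ g ∈ M, ∀ x ∈ RG.ZZ Om ∩ M, ∀ y ∈ RG.ZZ Om ∩ M, Bl x y → Bl (g * x * g⁻¹) (g * y * g⁻¹)
  /-- different classes commute -/
  cm : ∀ x ∈ RG.ZZ Om ∩ M, ∀ y ∈ RG.ZZ Om ∩ M, ¬ Bl x y → ∀ a ∈ RR Om x, ∀ b ∈ RR Om y, a * b = b * a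
  two : ∃ x ∈ RG.ZZ Om ∩ M, ∃ y ∈ RG.ZZ Om ∩ M, ¬ Bl x y
  ntr : ∀ x ∈ RG.ZZ Om ∩ M, ∃ y ∈ RG.ZZ Om ∩ M, Bl x y ∧ x ≠ y
  /-- the classes are `ONE` -/
  one : ∀ x ∈ RG.ZZ Om ∩ M, ∀ y ∈ RG.ZZ Om ∩ M, Bl x y → CP (RR Om) x y → ∀ v ∈ RG.ZZ Om ∩ M, Bl x v → Ce (x * y) (RR Om v)
  mem : ∀ x ∈ RG.ZZ Om ∩ M, ∀ g, g * x * g⁻¹ ∈ M → g ∈ M
  syl : ∀ S : Sylow 2 G, ∀ x ∈ RG.ZZ Om ∩ M, RR Om x ≤ (S : Subgroup G) → (S : Subgroup G) ≤ M
  cen : ∀ S : Sylow 2 G, (S : Subgroup G) ≤ M → ∀ s ∈ TT (RG.ZZ Om) (RR Om) (S : Subgroup G), s ≠ 1 →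
    ∀ c, c * s = s * c → c ∈ M
  mem' : ∀ S : Sylow 2 G, (S : Subgroup G) ≤ M → ∀ s ∈ TT (RG.ZZ Om) (RR Om) (S : Subgroup G), s ≠ 1 →
    ∀ g, g * s * g⁻¹ ∈ M → g ∈ M

/-- the group of the block of `v` -/
def BG (Om : Set (Subgroup G)) (M : Subgroup G) (Bl : G → G → Prop) (v : G) : Subgroup G :=
  closure {k | ∃ x ∈ RG.ZZ Om ∩ M, Bl v x ∧ k ∈ RR Om x}

/-- type p -/
def SwP (Om : Set (Subgroup G)) (x y : G) : Prop := (∀ K ∈ Ov Om x, cj y K ≠ K) ∧ (∀ K ∈ Ov Om y, cj x K ≠ K)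

section inv

variable {Om : Set (Subgroup G)} {K : Subgroup G} {x y : G}

/-- `y` fixes the member `K` over `x` and does not centralise it: `y` is conjugate to `x y` under `K` -/
theorem exists_flip (h : WR Om) (hK : K ∈ Ov Om x) (hy : y * y = 1) (hc : cj y K = K)
    (hn : ¬ ∀ k ∈ K, y * k = k * y) : ∃ k ∈ K, k * y * k⁻¹ = x * y := by
  have key : ∃ k ∈ K, k * k = x ∧ y * k * y⁻¹ = k⁻¹ := by
    rcases h.inn_or_tr hK.1 hc hy with ⟨w, hw, hi⟩ | ⟨a, ht⟩
    · -- inner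
      have hw1 : w * w = zz K := by
        refine h.sq_eq hK.1 hw ?_ ?_
        · rintro rfl
          refine hn fun k hk => ?_
          have h1 := hi k hk
          rw [one_mul, inv_one, mul_one, mul_inv_eq_iff_eq_mul] at h1
          exact h1
        · intro hwz
          refine hn fun k hk => ?_
          have h1 := hi k hk
          rw [hwz, ← h.cen hK.1 hk, mul_inv_cancel_right, mul_inv_eq_iff_eq_mul] at h1
          exact h1
      obtain ⟨b, hb, hbb, h1, h2⟩ := h.exists_anti hK.1 hw hw1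
      obtain ⟨h3, -⟩ := h.anti hK.1 hw hb hw1 hbb h1 h2
      refine ⟨b, hb, by rw [hbb, hK.2], ?_⟩
      rw [hi b hb, h.inv_eq hK.1 hb hbb]
      -- `w b w⁻¹ = z b`
      have h4 : w * b = zz K * (b * w) := by
        rw [h3, ← mul_assoc, h.zs hK.1, one_mul]
      rw [h4, ← mul_assoc, mul_inv_cancel_right]
    · exact ⟨a, ht.mem, by rw [ht.sq, hK.2], ht.inv⟩
  obtain ⟨k, hk, hkk, h1⟩ := key
  refine ⟨k, hk, ?_⟩
  have h2 : y * k⁻¹ * y⁻¹ = k := by
    have h3 : y * k⁻¹ * y⁻¹ = (y * k * y⁻¹)⁻¹ := by group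
    rw [h3, h1, inv_inv]
  calc k * y * k⁻¹ = k * (y * k⁻¹ * y⁻¹) * y := by group
    _ = x * y := by rw [h2, hkk]

end inv

namespace PE

variable {Om : Set (Subgroup G)} {M X : Subgroup G} {Bl : G → G → Prop} [Finite G] (p : PE Om M Bl)

include p

theorem pg : PG (RG.ZZ Om) (RR Om) M Bl where
  w := GW.of_wr p.w.wr p.w.hyp
  refl := p.refl
  symm := p.symm
  trans := p.trans
  conj := p.conj
  cm := p.cm
  two := p.two
  ntr := p.ntr
  one := p.one
  mem := p.mem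
  syl := p.syl
  cen := p.cen
  mem' := p.mem'

theorem dat : RTwoM.L1.Dat (RG.ZZ Om) (RR Om) := by
  have e2 : RR Om = RTwoM.RZ Om := funext fun z => RTwoM.RR_eq z
  rw [e2]
  exact p.w.dat

/-- two commuting points of a block -/
theorem prd (hn : ∀ x ∈ RG.ZZ Om ∩ M, ∀ y ∈ RG.ZZ Om ∩ M, Bl x y → ¬ CP (RR Om) x y) : PRd (RG.ZZ Om) M Bl (SwP Om) := by
  intro x hx y hy hxy hne hc
  have g := p.pg
  have key : ∀ x ∈ RG.ZZ Om ∩ M, ∀ y ∈ RG.ZZ Om ∩ M, Bl x y → x ≠ y → (∃ K ∈ Ov Om x, cj y K = K) →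
      x * y ∈ RG.ZZ Om ∩ M ∧ Bl x (x * y) := by
    rintro x hx y hy hxy hne ⟨K, hK, hyK⟩
    obtain ⟨k, hk, hkk⟩ := exists_flip p.w.wr hK (g.w.sq y hy.1) hyK (fun h1 =>
      hn x hx y hy hxy ((cp_iff_wr p.w.wr).2 (p.w.wr.CP_of_cen hK h1 hne)))
    have hkR : k ∈ RR Om x := WR.le_RR hK hk
    have hkM : k ∈ M := g.K_le hx hkR
    have h1 := g.conj_mem hy hkM
    have h2 := p.conj k hkM x hx y hy hxy
    rw [g.w.cent hx.1 hkR, mul_inv_cancel_right] at h2
    rw [hkk] at h1 h2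
    exact ⟨h1, h2⟩
  by_cases h1 : ∃ K ∈ Ov Om x, cj y K = K
  · exact Or.inl (key x hx y hy hxy hne h1)
  by_cases h2 : ∃ K ∈ Ov Om y, cj x K = K
  · left
    obtain ⟨h3, h4⟩ := key y hy x hx (p.symm x hx y hy hxy) hne.symm h2
    rw [← hc] at h3 h4
    exact ⟨h3, p.trans x hx y hy _ h3 hxy h4⟩
  · push Not at h1 h2
    exact Or.inr ⟨h1, h2⟩

/-- there is no strongly embedded subgroup in `X` -/
theorem not_strong (f : FSimp X) (hev : 2 ∣ Nat.card X) (hB : CloEnd.Bend X) {H : Subgroup ↥X}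
    (hH : IsStronglyEmbedded H) : False := by
  obtain ⟨x, hx, y, hy, hxy⟩ := p.two
  have g := p.pg
  have hcp : RG.CP Om x y := (cp_iff_wr p.w.wr).1 ⟨fun h1 => hxy (h1 ▸ p.refl x hx), p.cm x hx y hy hxy⟩
  have hxX := p.w.zmemX f hev (z := x) hx.1
  have hyX := p.w.zmemX f hev (z := y) hy.1
  obtain ⟨q, hq⟩ := isConj_iff.1 (Cfsg.Agent.TwoFusion.StronglyEmbeddedBasic.isConj_of_involutions hH
    (⟨x, hxX⟩ : X) ⟨y, hyX⟩
    (by rw [← Subgroup.orderOf_coe]; exact orderOf_eq_prime (by rw [pow_two]; exact g.w.sq x hx.1) (g.w.ne x hx.1))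
    (by rw [← Subgroup.orderOf_coe]; exact orderOf_eq_prime (by rw [pow_two]; exact g.w.sq y hy.1) (g.w.ne y hy.1)))
  have hq' : (q : G) * x * (q : G)⁻¹ = y := congrArg Subtype.val hq
  rw [← hq'] at hcp
  obtain ⟨P, Q, R, hP, hQ, hR, hQX, hRX, hQR, ⟨a, ha, b, hb, hab⟩, ⟨c, hc, d, hd, hcd⟩⟩ :=
    p.w.wr.exists_two (RTwoM.ncard_Ov p.w (z := x) hx.1) f.nor q.2 hx.1 hcp
  refine CloEnd.Two.not_stronglyEmbedded (G := X) ⟨⟨P.subgroupOf X, Q.subgroupOf X, R.subgroupOf X, hP.comap_subtype,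
    comap_mono hQ, comap_mono hR, ?_, ?_, ?_⟩⟩ hB H hH
  · exact fun x hx y hy => Subtype.ext (hQR x hx y hy)
  · exact ⟨⟨a, hQX ha⟩, ha, ⟨b, hQX hb⟩, hb, fun h1 => hab (congrArg Subtype.val h1)⟩
  · exact ⟨⟨c, hRX hc⟩, hc, ⟨d, hRX hd⟩, hd, fun h1 => hcd (congrArg Subtype.val h1)⟩

/-- **the product situation, `r = 2`, is impossible** -/
theorem false_of (cls : OneCls Om) (c3 : C3E Om) (f : FSimp X) (hev : 2 ∣ Nat.card X) (gold : Cit.ROne.Gold X)
    (hB : CloEnd.Bend X) (h75 : CloEnd.Crit1175 X)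
    (hPP : (∀ x ∈ RG.ZZ Om ∩ M, ∀ y ∈ RG.ZZ Om ∩ M, Bl x y → ¬ CP (RR Om) x y) →
      ∀ x ∈ RG.ZZ Om ∩ M, ∀ y ∈ RG.ZZ Om ∩ M, Bl x y → x ≠ y → x * y = y * x → SwP Om x y →
        ∃ n ∈ RG.ZZ Om ∩ M, Bl x n ∧ Ce (x * y) (RR Om n))
    (hE : (∀ x ∈ RG.ZZ Om ∩ M, ∀ y ∈ RG.ZZ Om ∩ M, Bl x y → ¬ CP (RR Om) x y) →
      (∃ x ∈ RG.ZZ Om ∩ M, ∃ y ∈ RG.ZZ Om ∩ M, Bl x y ∧ x ≠ y ∧ x * y = y * x ∧ SwP Om x y) →
      ∀ e, e * e = 1 → e ≠ 1 →
      (∃ n ∈ RG.ZZ Om ∩ M, ∃ n' ∈ RG.ZZ Om ∩ M, ¬ Bl n n' ∧ Ce e (RR Om n) ∧ Ce e (RR Om n')) →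
      (∀ v ∈ RG.ZZ Om ∩ M, ∃ e' ∈ BG Om M Bl v, e' * e' = 1 ∧ ∀ b ∈ BG Om M Bl v, e * b * e⁻¹ = e' * b * e'⁻¹) →
      ∀ g, g * e = e * g → g ∈ M) : False := by
  have hZ : ∀ z ∈ RG.ZZ Om, z ∈ X := fun z hz => p.w.zmemX f hev (z := z) hz
  by_cases hex : ∃ x ∈ RG.ZZ Om ∩ M, ∃ y ∈ RG.ZZ Om ∩ M, Bl x y ∧ CP (RR Om) x y
  · obtain ⟨x, hx, y, hy, hxy, hc⟩ := hex
    obtain ⟨S, A, hA, hAT, hcl⟩ := p.pg.exists_closed p.dat hx hy hxy hc
    exact p.w.false_of_closed cls c3 (z := x) hx.1 f hev gold hB S hA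
      (hAT.trans ((closure_le _).2 fun v hv => hZ v hv.1))
      (fun a ha b hb => p.pg.w.TT_comm S.isPGroup' (hAT ha) (hAT hb)) hcl
  · have hn : ∀ x ∈ RG.ZZ Om ∩ M, ∀ y ∈ RG.ZZ Om ∩ M, Bl x y → ¬ CP (RR Om) x y :=
      fun x hx y hy hxy hc => hex ⟨x, hx, y, hy, hxy, hc⟩
    obtain ⟨H, hH⟩ := p.pg.exists_strong f hZ h75 hn (p.prd hn) (hPP hn) (hE hn)
    exact p.not_strong f hev hB hH

end PE

end Cfsg.Agent.Cit.Nil.CompR

private theorem dce_7fa88c456827 : _root_.True := by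
  try have : _root_.True := by simp only [_root_.Cfsg.Agent.Cit.Nil.CompR.PG.BB.eq_1]
  exact _root_.True.intro
end
end
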